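import Groth.Prelude.Def_Found
import Mathlib.RingTheory.Localization.Integral
import Mathlib.RingTheory.Localization.Away.Basic
import Mathlib.RingTheory.Localization.Away.AdjoinRoot
import Mathlib.RingTheory.RingHom.FiniteType
import Mathlib.RingTheory.Localization.LocalizationLocalization
import Mathlib.RingTheory.Finiteness.Cardinality
import Mathlib.RingTheory.Noetherian.Basic
import Mathlib.RingTheory.Ideal.Quotient.Operations

/-!
# Japanese, Nagata and universally Japanese rings: locality
-/

set_option autoImplicit false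

namespace Groth.Agent.Props.N2Local

universe u

section N2

variable {D : Type u} [CommRing D] [IsDomain D]

/-- the `N-2` condition with an arbitrary fraction field -/
theorem finite_integralClosure (h : CAlg.IsN2 D) (K L : Type u) [Field K] [Field L] [Algebra D K]
    [IsFractionRing D K] [Algebra D L] [Algebra K L] [IsScalarTower D K L]
    [FiniteDimensional K L] : Module.Finite D (integralClosure D L) := by
  let e : FractionRing D ≃ₐ[D] K := FractionRing.algEquiv D K
  letI : Algebra (FractionRing D) L := ((algebraMap K L).comp e.toRingEquiv.toRingHom).toAlgebra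
  haveI : IsScalarTower D (FractionRing D) L := IsScalarTower.of_algebraMap_eq fun r => by
    rw [IsScalarTower.algebraMap_apply D K L]
    exact congrArg (algebraMap K L) (e.commutes r).symm
  exact h L (Module.Finite.of_equiv_equiv (A₁ := K) (B₁ := L) (A₂ := FractionRing D) (B₂ := L)
    e.symm.toRingEquiv (RingEquiv.refl L) (RingHom.ext fun x =>
      congrArg (algebraMap K L) (e.apply_symm_apply x)))

/-- localizations of Japanese domains are Japanese -/
theorem isN2_localization (h : CAlg.IsN2 D) (M : Submonoid D) (D' : Type u) [CommRing D']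
    [IsDomain D'] [Algebra D D'] [IsLocalization M D'] (hM : M ≤ nonZeroDivisors D) :
    CAlg.IsN2 D' := by
  intro L _ _ _ _ hfin
  classical
  letI : Algebra D L := ((algebraMap D' L).comp (algebraMap D D')).toAlgebra
  haveI : IsScalarTower D D' L := IsScalarTower.of_algebraMap_eq' rfl
  haveI : IsFractionRing D (FractionRing D') := by
    have h1 := IsLocalization.localization_localization_isLocalization_of_has_all_units M
      (nonZeroDivisors D') (FractionRing D') fun x hx => hx.mem_nonZeroDivisors
    have e : (nonZeroDivisors D').comap (algebraMap D D') = nonZeroDivisors D := by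
      ext x
      simp only [Submonoid.mem_comap, mem_nonZeroDivisors_iff_ne_zero, ne_eq,
        map_eq_zero_iff _ (IsLocalization.injective D' hM)]
    rwa [e] at h1
  haveI : IsScalarTower D (FractionRing D') L := IsScalarTower.of_algebraMap_eq fun r => by
    change algebraMap D' L (algebraMap D D' r) = algebraMap (FractionRing D') L _
    rw [IsScalarTower.algebraMap_apply D' (FractionRing D') L, ← IsScalarTower.algebraMap_apply D D' (FractionRing D')]
  have hC := finite_integralClosure h (FractionRing D') L
  obtain ⟨s, hs⟩ := hC.fg_top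
  refine ⟨⟨s.image fun c => ⟨c.1, c.2.tower_top⟩, ?_⟩⟩
  refine Submodule.eq_top_iff'.mpr fun z => ?_
  obtain ⟨m, hm⟩ := IsIntegral.exists_multiple_integral_of_isLocalization M z.1 z.2
  obtain ⟨c, hc⟩ := Submodule.mem_span_finset'.mp
    (hs ▸ Submodule.mem_top : (⟨m • z.1, hm⟩ : integralClosure D L) ∈ Submodule.span D (s : Set _))
  obtain ⟨w, hw⟩ := IsLocalization.map_units D' m
  have hz : z = (↑w⁻¹ : D') • ∑ a : s, algebraMap D D' (c a) •
      (⟨a.1.1, a.1.2.tower_top⟩ : integralClosure D' L) := by
    apply Subtype.ext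
    have h1 : (m : D) • z.1 = ∑ a : s, c a • (a.1.1 : L) := by
      simpa [Submonoid.smul_def] using (congrArg (fun t : integralClosure D L => t.1) hc).symm
    simp only [SetLike.val_smul, AddSubmonoidClass.coe_finset_sum, algebraMap_smul]
    refine Eq.trans ?_ (congrArg ((↑w⁻¹ : D') • ·) h1)
    change z.1 = (↑w⁻¹ : D') • ((m : D) • z.1)
    rw [← algebraMap_smul (R := D) D' (m : D) z.1, ← hw, smul_smul, Units.inv_mul, one_smul]
  rw [hz]
  refine Submodule.smul_mem _ _ (Submodule.sum_mem _ fun a _ => Submodule.smul_mem _ _ ?_)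
  refine Submodule.subset_span (Finset.mem_coe.mpr (Finset.mem_image.mpr ⟨a.1, a.2, rfl⟩))

/-- being Japanese is local for a spanning family -/
theorem isN2_of_span (s : Finset D) (hs : Ideal.span (s : Set D) = ⊤) (Df : D → Type u)
    [∀ f, CommRing (Df f)] [∀ f, Algebra D (Df f)] [∀ f, IsLocalization.Away f (Df f)]
    (h : ∀ f ∈ s, f ≠ 0 → ∀ [IsDomain (Df f)], CAlg.IsN2 (Df f)) : CAlg.IsN2 D := by
  classical
  intro L _ _ _ _ hfin
  have hex : ∀ f ∈ s, f ≠ 0 → ∃ T : Finset (integralClosure D L), ∀ z : integralClosure D L,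
      ∃ n : ℕ, f ^ n • z ∈ Submodule.span D (T : Set (integralClosure D L)) := by
    intro f hf hf0
    have hle : Submonoid.powers f ≤ nonZeroDivisors D :=
      powers_le_nonZeroDivisors_of_noZeroDivisors hf0
    haveI : IsDomain (Df f) := IsLocalization.isDomain_of_le_nonZeroDivisors (M := Submonoid.powers f) _ hle
    have hinj : Function.Injective (algebraMap D L) := by
      rw [IsScalarTower.algebraMap_eq D (FractionRing D) L]
      exact (algebraMap (FractionRing D) L).injective.comp (IsFractionRing.injective D _)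
    have hu : ∀ y : Submonoid.powers f, IsUnit (algebraMap D L y) := fun y => by
      refine IsUnit.mk0 _ fun e => ?_
      exact nonZeroDivisors.ne_zero (hle y.2) (hinj (by rw [e, map_zero]))
    letI : Algebra (Df f) L := (IsLocalization.lift hu).toAlgebra
    haveI : IsScalarTower D (Df f) L :=
      IsScalarTower.of_algebraMap_eq fun r => (IsLocalization.lift_eq hu r).symm
    letI : Algebra (Df f) (FractionRing D) :=
      (IsLocalization.lift (M := Submonoid.powers f) (g := algebraMap D (FractionRing D))
        fun y => IsLocalization.map_units (M := nonZeroDivisors D) (FractionRing D)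
          ⟨y.1, hle y.2⟩).toAlgebra
    haveI : IsScalarTower D (Df f) (FractionRing D) :=
      IsScalarTower.of_algebraMap_eq fun r => (IsLocalization.lift_eq _ r).symm
    haveI : IsFractionRing (Df f) (FractionRing D) :=
      IsFractionRing.isFractionRing_of_isDomain_of_isLocalization (Submonoid.powers f) _ _
    haveI : IsScalarTower (Df f) (FractionRing D) L := IsScalarTower.of_algebraMap_eq' (by
      apply IsLocalization.ringHom_ext (Submonoid.powers f)
      ext r
      simp only [RingHom.comp_apply, ← IsScalarTower.algebraMap_apply D (Df f)]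
      rw [← IsScalarTower.algebraMap_apply D (FractionRing D) L])
    have hC := finite_integralClosure (h f hf hf0) (FractionRing D) L
    obtain ⟨t, ht⟩ := hC.fg_top
    have hmul : ∀ a : integralClosure (Df f) L, ∃ k : ℕ, IsIntegral D (f ^ k • (a : L)) := by
      intro a
      obtain ⟨⟨_, k, rfl⟩, hk⟩ :=
        IsIntegral.exists_multiple_integral_of_isLocalization (Submonoid.powers f) a.1 a.2
      exact ⟨k, hk⟩
    choose k hk using hmul
    refine ⟨t.image fun a => ⟨f ^ k a • (a : L), hk a⟩, fun z => ?_⟩
    obtain ⟨c, hc⟩ := Submodule.mem_span_finset'.mp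
      (ht ▸ Submodule.mem_top : (⟨z.1, z.2.tower_top⟩ : integralClosure (Df f) L) ∈
        Submodule.span (Df f) (t : Set _))
    -- clear the denominators of the coefficients
    obtain ⟨⟨_, n, rfl⟩, hn⟩ := IsLocalization.exist_integer_multiples (Submonoid.powers f)
      Finset.univ c
    choose d hd using fun a : t => hn a (Finset.mem_univ a)
    refine ⟨n + t.sup k, ?_⟩
    have hz : f ^ (n + t.sup k) • z = ∑ a : t, (d a * f ^ (t.sup k - k a.1)) •
        (⟨f ^ k a.1 • (a.1 : L), hk a.1⟩ : integralClosure D L) := by
      apply Subtype.ext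
      have h1 : ∑ a : t, c a • (a.1.1 : L) = z.1 := by
        simpa using congrArg (fun w : integralClosure (Df f) L => w.1) hc
      simp only [SetLike.val_smul, AddSubmonoidClass.coe_finset_sum, ← h1, Finset.smul_sum]
      refine Finset.sum_congr rfl fun a _ => ?_
      have hda : f ^ n • (c a • (a.1.1 : L)) = d a • (a.1.1 : L) := by
        rw [← smul_assoc, ← hd a, algebraMap_smul]
      rw [pow_add, mul_comm, mul_smul, hda, smul_smul, smul_smul, mul_assoc, ← pow_add,
        Nat.sub_add_cancel (Finset.le_sup a.2), mul_comm]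
    rw [hz]
    exact Submodule.sum_mem _ fun a _ => Submodule.smul_mem _ _
      (Submodule.subset_span (Finset.mem_coe.mpr (Finset.mem_image.mpr ⟨a.1, a.2, rfl⟩)))
  choose T hT using hex
  let N : Finset (integralClosure D L) :=
    s.attach.biUnion fun f => if h0 : f.1 = 0 then ∅ else T f.1 f.2 h0
  refine ⟨⟨N, Submodule.eq_top_iff'.mpr fun z => ?_⟩⟩
  refine Submodule.mem_of_span_eq_top_of_smul_pow_mem _ (s : Set D) hs z fun f => ?_
  by_cases h0 : f.1 = 0
  · exact ⟨1, by simp [h0]⟩
  obtain ⟨n, hn⟩ := hT f.1 f.2 h0 z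
  refine ⟨n, Submodule.span_mono ?_ hn⟩
  intro a ha
  exact Finset.mem_coe.mpr (Finset.mem_biUnion.mpr
    ⟨⟨f.1, f.2⟩, Finset.mem_attach _ _, by rw [dif_neg h0]; exact ha⟩)

end N2

section Quot

variable {A : Type u} [CommRing A]

/-- every domain which is a quotient of `A` is Japanese -/
def QuotN2 (A : Type u) [CommRing A] : Prop :=
  ∀ (D : Type u) [CommRing D] [IsDomain D] [Algebra A D],
    Function.Surjective (algebraMap A D) → CAlg.IsN2 D

theorem isN2_of_ringEquiv {D D' : Type u} [CommRing D] [IsDomain D] [CommRing D'] [IsDomain D']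
    (e : D ≃+* D') (h : CAlg.IsN2 D) : CAlg.IsN2 D' := by
  letI : Algebra D D' := e.toRingHom.toAlgebra
  haveI : IsLocalization (⊥ : Submonoid D) D :=
    IsLocalization.self (fun x hx => by rw [Submonoid.mem_bot.mp hx]; exact isUnit_one)
  haveI : IsLocalization (⊥ : Submonoid D) D' :=
    IsLocalization.isLocalization_of_algEquiv _ (AlgEquiv.ofRingEquiv (f := e) fun _ => rfl)
  exact isN2_localization h ⊥ D' bot_le

theorem isNagata_iff : CAlg.IsNagata A ↔ IsNoetherianRing A ∧ QuotN2 A := by
  refine and_congr_right fun _ => ⟨fun h D _ _ _ hD => ?_, fun h p _ =>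
    h (A ⧸ p) Ideal.Quotient.mk_surjective⟩
  haveI : (RingHom.ker (algebraMap A D)).IsPrime := RingHom.ker_isPrime _
  exact isN2_of_ringEquiv (RingHom.quotientKerEquivOfSurjective hD) (h _)

theorem quotN2_localization (h : QuotN2 A) (M : Submonoid A) (B : Type u) [CommRing B]
    [Algebra A B] [IsLocalization M B] : QuotN2 B := by
  intro D' _ _ _ hsurj
  let φ : A →+* D' := (algebraMap B D').comp (algebraMap A B)
  let D := φ.range
  have hN : CAlg.IsN2 D := @h D _ _ φ.rangeRestrict.toAlgebra φ.rangeRestrict_surjective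
  refine @isN2_localization D _ _ hN (M.map φ.rangeRestrict) D' _ _ D.subtype.toAlgebra ?_ ?_
  · refine (@isLocalization_iff _ _ _ D' _ D.subtype.toAlgebra).mpr ⟨?_, ?_, fun {x y} => ?_⟩
    · rintro ⟨_, m, hm, rfl⟩
      exact (IsLocalization.map_units B ⟨m, hm⟩).map (algebraMap B D')
    · intro z
      obtain ⟨b, rfl⟩ := hsurj z
      obtain ⟨⟨a, m⟩, ha⟩ := IsLocalization.surj M b
      exact ⟨⟨φ.rangeRestrict a, φ.rangeRestrict m, m.1, m.2, rfl⟩,
        (map_mul (algebraMap B D') _ _).symm.trans (congrArg (algebraMap B D') ha)⟩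
    · intro hxy
      exact ⟨1, by rw [Subtype.ext (show x.1 = y.1 from hxy)]⟩
  · rintro _ ⟨m, hm, rfl⟩
    refine mem_nonZeroDivisors_of_ne_zero fun e => ?_
    exact ((IsLocalization.map_units B ⟨m, hm⟩).map (algebraMap B D')).ne_zero
      (congrArg Subtype.val e)

theorem quotN2_of_span (s : Finset A) (hs : Ideal.span (s : Set A) = ⊤) (Af : A → Type u)
    [∀ f, CommRing (Af f)] [∀ f, Algebra A (Af f)] [∀ f, IsLocalization.Away f (Af f)]
    (h : ∀ f ∈ s, QuotN2 (Af f)) : QuotN2 A := by
  classical
  intro D _ _ _ hsurj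
  refine isN2_of_span (s.image (algebraMap A D)) ?_ (fun g => Localization.Away g)
    fun g hg hg0 => ?_
  · rw [Finset.coe_image, ← Ideal.map_span, hs, Ideal.map_top]
  · intro _
    obtain ⟨f, hf, rfl⟩ := Finset.mem_image.mp hg
    let D' := Localization.Away (algebraMap A D f)
    have hu : ∀ y : Submonoid.powers f, IsUnit ((algebraMap D D').comp (algebraMap A D) y) := by
      rintro ⟨_, n, rfl⟩
      simp only [RingHom.comp_apply, map_pow]
      exact (IsLocalization.Away.algebraMap_isUnit (algebraMap A D f)).pow n
    letI : Algebra (Af f) D' := (IsLocalization.lift (M := Submonoid.powers f) hu).toAlgebra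
    refine h f hf D' fun z => ?_
    obtain ⟨⟨d, ⟨_, n, rfl⟩⟩, hd⟩ := IsLocalization.surj (Submonoid.powers (algebraMap A D f)) z
    obtain ⟨a, rfl⟩ := hsurj d
    refine ⟨IsLocalization.mk' (Af f) a (⟨f ^ n, n, rfl⟩ : Submonoid.powers f), ?_⟩
    change IsLocalization.lift (M := Submonoid.powers f) hu _ = _
    rw [IsLocalization.lift_mk'_spec]
    simpa [mul_comm] using hd.symm

theorem isUniversallyJapanese_of_finiteType (h : CAlg.IsUniversallyJapanese A) (B : Type u)
    [CommRing B] [Algebra A B] [Algebra.FiniteType A B] : CAlg.IsUniversallyJapanese B := by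
  intro S _ _ _ hS
  letI : Algebra A S := ((algebraMap B S).comp (algebraMap A B)).toAlgebra
  haveI : IsScalarTower A B S := IsScalarTower.of_algebraMap_eq' rfl
  exact h S (Algebra.FiniteType.trans ‹_› hS)

theorem isUniversallyJapanese_of_span (s : Finset A) (hs : Ideal.span (s : Set A) = ⊤)
    (Af : A → Type u)
    [∀ f, CommRing (Af f)] [∀ f, Algebra A (Af f)] [∀ f, IsLocalization.Away f (Af f)]
    (h : ∀ f ∈ s, CAlg.IsUniversallyJapanese (Af f)) : CAlg.IsUniversallyJapanese A := by
  classical
  intro S _ _ _ hS
  refine isN2_of_span (s.image (algebraMap A S)) ?_ (fun g => Localization.Away g)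
    fun g hg hg0 => ?_
  · rw [Finset.coe_image, ← Ideal.map_span, hs, Ideal.map_top]
  · intro _
    obtain ⟨f, hf, rfl⟩ := Finset.mem_image.mp hg
    let S' := Localization.Away (algebraMap A S f)
    have hu : ∀ y : Submonoid.powers f, IsUnit (algebraMap A S' y) := by
      rintro ⟨_, n, rfl⟩
      rw [map_pow, IsScalarTower.algebraMap_apply A S S']
      exact (IsLocalization.Away.algebraMap_isUnit (algebraMap A S f)).pow n
    letI : Algebra (Af f) S' := (IsLocalization.lift (M := Submonoid.powers f) hu).toAlgebra
    haveI : IsScalarTower A (Af f) S' :=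
      IsScalarTower.of_algebraMap_eq fun r => (IsLocalization.lift_eq hu r).symm
    haveI : Algebra.FiniteType S S' :=
      IsLocalization.finiteType_of_monoid_fg (Submonoid.powers (algebraMap A S f)) S'
    haveI : Algebra.FiniteType A S' := Algebra.FiniteType.trans hS ‹_›
    exact h f hf S' (Algebra.FiniteType.of_restrictScalars_finiteType A _ _)

end Quot

end Groth.Agent.Props.N2Local
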