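import Groth.Agent.Depth.CM
import Mathlib.RingTheory.DiscreteValuationRing.TFAE
import Mathlib.RingTheory.RegularLocalRing.Defs
import Mathlib.RingTheory.Ideal.KrullsHeightTheorem
import Mathlib.RingTheory.IntegralClosure.IntegrallyClosed
import Mathlib.AlgebraicGeometry.Noetherian
import Mathlib.AlgebraicGeometry.Properties

/-!
# Normal local rings of small dimension
-/

set_option autoImplicit false

namespace Groth.Agent.Props.NormalCM

open IsLocalRing AlgebraicGeometry

universe u

variable (A : Type u) [CommRing A] [IsDomain A] [IsLocalRing A] [IsNoetherianRing A]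
  [IsIntegrallyClosed A]

theorem isRegularLocalRing_of_dim_le_one (h : ringKrullDim A ≤ 1) : IsRegularLocalRing A := by
  have : Ring.KrullDimLE 1 A := Ring.krullDimLE_iff.mpr (by exact_mod_cast h)
  by_cases hf : IsField A
  · letI := hf.toField
    infer_instance
  · have : Ring.DimensionLEOne A := ⟨fun hp hp' => hp'.isMaximal_of_ne_bot hp⟩
    have hD : IsDedekindDomain A := { }
    have hdvr : IsDiscreteValuationRing A :=
      ((IsDiscreteValuationRing.TFAE A hf).out 2 0).mp hD
    infer_instance

variable {A}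

/-- `m` is not associated to `A ⧸ (x)`, unless `m` is principal -/
theorem notMem_of_smul_mem {x y : A} (hx : x ≠ 0) (hym : ∀ b ∈ maximalIdeal A, x ∣ b * y)
    (hA : ¬ (maximalIdeal A).IsPrincipal) : x ∣ y := by
  by_cases hu : ∀ b ∈ maximalIdeal A, ∀ v, b * y = x * v → v ∈ maximalIdeal A
  · have hint : IsIntegral A ((algebraMap A (FractionRing A) y) / algebraMap A _ x) := by
      refine isIntegral_of_smul_mem_submodule
        (Submodule.map (Algebra.linearMap A (FractionRing A)) (maximalIdeal A)) ?_ ?_ _ ?_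
      · rw [Ne, ← LinearMap.le_ker_iff_map, LinearMap.ker_eq_bot.mpr
          (IsFractionRing.injective A (FractionRing A)), le_bot_iff]
        intro h
        exact hA (h ▸ bot_isPrincipal)
      · exact (IsNoetherian.noetherian _).map _
      · rintro _ ⟨b, hb, rfl⟩
        obtain ⟨v, hv⟩ := hym b hb
        refine ⟨v, hu b hb v hv, ?_⟩
        have hx' : algebraMap A (FractionRing A) x ≠ 0 :=
          (map_ne_zero_iff _ (IsFractionRing.injective A _)).mpr hx
        simp only [Algebra.linearMap_apply, smul_eq_mul]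
        rw [div_mul_eq_mul_div, eq_div_iff hx', ← map_mul, ← map_mul]
        congr 1
        rw [mul_comm y b, hv, mul_comm]
    obtain ⟨a, ha⟩ := IsIntegrallyClosed.isIntegral_iff.mp hint
    refine ⟨a, IsFractionRing.injective A (FractionRing A) ?_⟩
    rw [map_mul, ha, mul_div_cancel₀]
    exact (map_ne_zero_iff _ (IsFractionRing.injective A _)).mpr hx
  · push Not at hu
    obtain ⟨a, ha, u, hau, humem⟩ := hu
    have hu' : IsUnit u := by
      simpa [IsLocalRing.mem_maximalIdeal] using humem
    refine absurd ⟨a, le_antisymm (fun b hb => ?_) ?_⟩ hA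
    · obtain ⟨v, hv⟩ := hym b hb
      have : x * (b * u) = x * (a * v) := by
        calc x * (b * u) = b * (x * u) := by ring
          _ = b * (a * y) := by rw [hau]
          _ = a * (b * y) := by ring
          _ = a * (x * v) := by rw [hv]
          _ = x * (a * v) := by ring
      obtain ⟨u', rfl⟩ := hu'
      refine Submodule.mem_span_singleton.mpr ⟨v * ↑u'⁻¹, ?_⟩
      rw [smul_eq_mul, mul_comm, ← mul_assoc, ← mul_left_cancel₀ hx this, Units.mul_inv_cancel_right]
    · rw [Submodule.span_singleton_le_iff_mem]; exact ha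

theorem isCohenMacaulayLocalRing_of_dim_le_two (h : ringKrullDim A ≤ 2) :
    LocCoh.IsCohenMacaulayLocalRing A := by
  refine Depth.isCohenMacaulayLocalRing_iff.mpr (le_antisymm ?_ Depth.depth_le_supportDim)
  rw [Module.supportDim_self_eq_ringKrullDim]
  by_cases hf : IsField A
  · refine le_trans (le_of_eq (ringKrullDim_eq_zero_of_isField hf)) ?_
    exact WithBot.coe_le_coe.mpr zero_le
  obtain ⟨x, hxm, hx⟩ : ∃ x ∈ maximalIdeal A, x ≠ 0 :=
    Submodule.exists_mem_ne_zero_of_ne_bot (isField_iff_maximalIdeal_eq.not.mp hf)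
  have hreg : IsSMulRegular A x := (isRegular_of_ne_zero hx).left
  by_cases hP : (maximalIdeal A).IsPrincipal
  · have h1 : (1 : ℕ∞) ≤ LocCoh.depth A A := by
      simpa [Depth.depth_eq_idealDepth] using Depth.le_idealDepth_of_isWeaklyRegular
        ((RingTheory.Sequence.isWeaklyRegular_singleton_iff A x).mpr hreg) (by simpa using hxm)
    refine le_trans ?_ (WithBot.coe_le_coe.mpr h1)
    rw [← maximalIdeal_height_eq_ringKrullDim]
    exact WithBot.coe_le_coe.mpr
      (Ideal.height_le_one_of_isPrincipal_of_mem_minimalPrimes (maximalIdeal A) (maximalIdeal A)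
        (by rw [Ideal.minimalPrimes_eq_subsingleton_self]; rfl))
  · refine h.trans (WithBot.coe_le_coe.mpr ?_)
    rw [Depth.depth_eq_idealDepth, ← Depth.idealDepth_quotSMulTop_add_one hxm hreg]
    change (1 : ℕ∞) + 1 ≤ _
    refine add_le_add (Depth.one_le_idealDepth_iff.mpr fun p hp hle => ?_) le_rfl
    have hp' : p.IsPrime := Depth.isPrime_of_mem_associatedPrimes hp
    obtain rfl : p = maximalIdeal A := le_antisymm (IsLocalRing.le_maximalIdeal hp'.ne_top) hle
    obtain ⟨-, z, hz⟩ := ((isAssociatedPrime_iff_exists_injective_linearMap _ _).mp) hp |>.imp_right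
      fun ⟨f, hf⟩ => (⟨f (Submodule.Quotient.mk 1), fun b (hb : b ∈ maximalIdeal A) => by
        rw [← map_smul, ← Submodule.Quotient.mk_smul, smul_eq_mul, mul_one,
          (Submodule.Quotient.mk_eq_zero _).mpr hb, map_zero],
        fun h0 => (maximalIdeal.isMaximal A).ne_top ((Ideal.eq_top_iff_one _).mpr
          ((Submodule.Quotient.mk_eq_zero _).mp (hf (h0.trans (map_zero f).symm))))⟩ :
        ∃ z : QuotSMulTop x A, (∀ b ∈ maximalIdeal A, b • z = 0) ∧ z ≠ 0)
    obtain ⟨y, rfl⟩ := Submodule.Quotient.mk_surjective _ z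
    have hmem : ∀ w : A, (Submodule.Quotient.mk w : QuotSMulTop x A) = 0 ↔ x ∣ w := by
      intro w
      rw [Submodule.Quotient.mk_eq_zero, Submodule.mem_smul_pointwise_iff_exists]
      exact ⟨fun ⟨c, _, hc⟩ => ⟨c, hc.symm⟩, fun ⟨c, hc⟩ => ⟨c, trivial, hc.symm⟩⟩
    refine hz.2 ((hmem y).mpr (notMem_of_smul_mem hx (fun b hb => ?_) hP))
    have := hz.1 b hb
    rwa [← Submodule.Quotient.mk_smul, hmem] at this

theorem ringKrullDim_stalk_le (X : Scheme.{u}) (x : X) :
    ringKrullDim (X.presheaf.stalk x) ≤ topologicalKrullDim X := by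
  rw [ringKrullDim_stalk_eq_coheight]
  refine (Order.coheight_le_krullDim x).trans (le_of_eq ?_)
  exact (@Order.krullDim_eq_of_orderIso _ _ _ _ (irreducibleSetEquivPoints (α := X))).symm

end Groth.Agent.Props.NormalCM
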