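import Groth.Agent.Props.GenSep

/-!
# Sections glued from coefficients on a cover; extension of functions on `X_s` to sections
-/

universe u

open CategoryTheory Limits AlgebraicGeometry Opposite TopologicalSpace

noncomputable section

namespace Groth.Agent.Props.GenExt

open Groth.Agent.QCoh Groth.Agent.Props.GenLocus Groth.Agent.Props.GenTensor Groth.Agent.Props.GenProd

variable {X : Scheme.{u}} {L : X.Modules} {k : ℕ}

lemma co_of_eq_smul {V : X.Opens} (σ : Γ(CohB1.tensorPow L k, V)) {W : X.Opens} (h : W ≤ V)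
    {e e' : Γ(L, W)} (he : IsGen L W e) (he' : IsGen L W e') {u : Γ(X, W)} (h' : e' = u • e) :
    co k σ h he = u ^ k * co k σ h he' := by
  subst h'
  refine co_unique _ _ _ ?_
  rw [co_spec σ h he', pw_smul, smul_smul, mul_comm]

/-- Coefficients on a cover, compatible with the transition functions, give a section. -/
theorem exists_hom_of_cover {ι : Type*} (W : ι → X.Opens) (hcov : ⊤ ≤ iSup W) (e : ∀ i, Γ(L, W i))
    (he : ∀ i, IsGen L (W i) (e i)) (K : ℕ) (c : ∀ i, Γ(X, W i))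
    (hc : ∀ (i j : ι) (u : Γ(X, W i ⊓ W j)),
      res L (inf_le_right : W i ⊓ W j ≤ W j) (e j) = u • res L (inf_le_left : W i ⊓ W j ≤ W i) (e i) →
      rres (inf_le_left : W i ⊓ W j ≤ W i) (c i) = u ^ K * rres (inf_le_right : W i ⊓ W j ≤ W j) (c j)) :
    ∃ s : Coh.structureModule X ⟶ CohB1.tensorPow L K,
      ∀ i, co K (sec s ⊤) le_top (he i) = c i ∧ CohB1.genLocus _ s ⊓ W i = X.basicOpen (c i) := by
  obtain ⟨ρ, hρ⟩ := exists_glue (CohB1.tensorPow L K) (fun i => (le_top : W i ≤ ⊤)) hcov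
    (fun i => c i • pw L (e i) K) fun i j => by
      obtain ⟨u, -, hu⟩ := exists_unit_smul ((he i).restrict (inf_le_left : W i ⊓ W j ≤ W i))
        ((he j).restrict (inf_le_right : W i ⊓ W j ≤ W j))
      rw [res_smul, res_smul, res_pw, res_pw, hu, pw_smul, smul_smul, hc i j u hu]
      exact congrArg (· • _) (mul_comm _ _)
  refine ⟨homOfSec ρ, fun i => ?_⟩
  have h1 : co K (sec (homOfSec ρ) ⊤) le_top (he i) = c i :=
    co_unique _ _ _ (by rw [sec_homOfSec, res_res, hρ])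
  exact ⟨h1, by rw [genLocus_inf_eq (he i), h1]⟩

theorem exists_succ {K : ℕ} (hK : 0 < K) (t : Coh.structureModule X ⟶ CohB1.tensorPow L K) :
    ∃ (n : ℕ) (t' : Coh.structureModule X ⟶ CohB1.tensorPow L (n + 1)),
      CohB1.genLocus _ t' = CohB1.genLocus _ t := by
  obtain ⟨n, rfl⟩ := Nat.exists_eq_add_of_lt hK
  obtain ⟨m, hm⟩ : ∃ m, m + 1 = 0 + n + 1 := ⟨n, by rw [Nat.zero_add]⟩
  revert t
  rw [← hm]
  exact fun t => ⟨m, t, rfl⟩

/-- A basic open of a function on `X_s` is some `X_t`. -/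
theorem exists_basicOpen (hL : PicF.IsInvertible L) [CompactSpace X] [QuasiSeparatedSpace X]
    (hk : 0 < k) (s : Coh.structureModule X ⟶ CohB1.tensorPow L k)
    (f : Γ(X, CohB1.genLocus _ s)) :
    ∃ (n : ℕ) (t : Coh.structureModule X ⟶ CohB1.tensorPow L (n + 1)),
      CohB1.genLocus _ t = X.basicOpen f := by
  classical
  -- a finite affine trivialising cover
  have key : ∀ x : X, ∃ (W : X.Opens) (e : Γ(L, W)), x ∈ W ∧ IsAffineOpen W ∧ IsGen L W e := by
    intro x
    obtain ⟨U, e, hxU, he⟩ := exists_isGen hL x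
    obtain ⟨W, hW, hxW, hWU⟩ := exists_isAffineOpen_mem_and_subset (U := U) (x := x) hxU
    exact ⟨W, res L hWU e, hxW, hW, he.restrict hWU⟩
  choose W₀ e₀ hxW₀ hW₀ he₀ using key
  obtain ⟨F, hF⟩ := isCompact_univ.elim_finite_subcover (fun x : X => (W₀ x : Set X))
    (fun x => (W₀ x).2) fun x _ => Set.mem_iUnion.mpr ⟨x, hxW₀ x⟩
  let W : F → X.Opens := fun i => W₀ i
  let e : ∀ i : F, Γ(L, W i) := fun i => e₀ i
  have he : ∀ i : F, IsGen L (W i) (e i) := fun i => he₀ i
  have hcov : ⊤ ≤ iSup W := by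
    intro x hx
    obtain ⟨y, hy, hxy⟩ := Set.mem_iUnion₂.mp (hF (Set.mem_univ x))
    exact Opens.mem_iSup.mpr ⟨⟨y, hy⟩, hxy⟩
  let c : ∀ i : F, Γ(X, W i) := fun i => co k (sec s ⊤) le_top (he i)
  have hD : ∀ i : F, CohB1.genLocus _ s ⊓ W i = X.basicOpen (c i) := fun i => genLocus_inf_eq (he i) s
  -- numerators with a uniform exponent
  have hloc : ∀ i : F, ∃ (n : ℕ) (a : Γ(X, W i)),
      rres (inf_le_right : CohB1.genLocus _ s ⊓ W i ≤ W i) a =
        rres (inf_le_right : CohB1.genLocus _ s ⊓ W i ≤ W i) (c i) ^ n *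
          rres (inf_le_left : CohB1.genLocus _ s ⊓ W i ≤ _) f := by
    intro i
    have : ∀ (O : X.Opens) (hO : O = X.basicOpen (c i)) (hle : O ≤ W i) (z : Γ(X, O)),
        ∃ (n : ℕ) (a : Γ(X, W i)), rres hle a = rres hle (c i) ^ n * z := by
      intro O hO hle z
      subst hO
      have := (hW₀ i.1).isLocalization_basicOpen (c i)
      obtain ⟨⟨a, ⟨_, n, rfl⟩⟩, ha⟩ := IsLocalization.surj (Submonoid.powers (c i)) z
      refine ⟨n, a, ?_⟩
      rw [← map_pow, mul_comm]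
      exact ha.symm
    exact this _ (hD i) _ _
  choose n₀ a₀ ha₀ using hloc
  let n := Finset.univ.sup n₀
  obtain ⟨a, ha⟩ : ∃ a : ∀ i : F, Γ(X, W i), ∀ i : F,
      rres (inf_le_right : CohB1.genLocus _ s ⊓ W i ≤ W i) (a i) =
      rres (inf_le_right : CohB1.genLocus _ s ⊓ W i ≤ W i) (c i) ^ n *
        rres (inf_le_left : CohB1.genLocus _ s ⊓ W i ≤ _) f := by
    refine ⟨fun i => c i ^ (n - n₀ i) * a₀ i, fun i => ?_⟩
    rw [map_mul, map_pow, ha₀ i, ← mul_assoc, ← pow_add,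
      Nat.sub_add_cancel (Finset.le_sup (f := n₀) (Finset.mem_univ i))]
  -- on overlaps the discrepancy is killed by a power of `c i`
  have hcu : ∀ (i j : F) (u : Γ(X, W i ⊓ W j)),
      res L (inf_le_right : W i ⊓ W j ≤ W j) (e j) = u • res L (inf_le_left : W i ⊓ W j ≤ W i) (e i) →
      rres (inf_le_left : W i ⊓ W j ≤ W i) (c i) = u ^ k * rres (inf_le_right : W i ⊓ W j ≤ W j) (c j) := by
    intro i j u hu
    simp only [c, co_res]
    exact co_of_eq_smul _ _ _ _ hu
  have hm : ∀ p : F × F, ∃ m : ℕ, ∀ u : Γ(X, W p.1 ⊓ W p.2),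
      res L (inf_le_right : W p.1 ⊓ W p.2 ≤ W p.2) (e p.2) =
          u • res L (inf_le_left : W p.1 ⊓ W p.2 ≤ W p.1) (e p.1) →
      rres (inf_le_left : W p.1 ⊓ W p.2 ≤ W p.1) (c p.1) ^ m *
        (rres (inf_le_left : W p.1 ⊓ W p.2 ≤ W p.1) (a p.1) -
          u ^ (k * n) * rres (inf_le_right : W p.1 ⊓ W p.2 ≤ W p.2) (a p.2)) = 0 := by
    rintro ⟨i, j⟩
    obtain ⟨u, -, hu⟩ := exists_unit_smul ((he i).restrict (inf_le_left : W i ⊓ W j ≤ W i))
      ((he j).restrict (inf_le_right : W i ⊓ W j ≤ W j))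
    have hcpt : IsCompact (W i ⊓ W j : X.Opens).1 :=
      QuasiSeparatedSpace.inter_isCompact _ _ (W i).2 (hW₀ i.1).isCompact (W j).2 (hW₀ j.1).isCompact
    let d : Γ(X, W i ⊓ W j) := rres (inf_le_left : W i ⊓ W j ≤ W i) (a i) -
      u ^ (k * n) * rres (inf_le_right : W i ⊓ W j ≤ W j) (a j)
    let cc : Γ(X, W i ⊓ W j) := rres (inf_le_left : W i ⊓ W j ≤ W i) (c i)
    let O : X.Opens := CohB1.genLocus _ s ⊓ (W i ⊓ W j)
    have h0 : rres (inf_le_right : O ≤ W i ⊓ W j) d = 0 := by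
      have hi := congrArg (rres (inf_le_inf_left _ inf_le_left : O ≤ CohB1.genLocus _ s ⊓ W i)) (ha i)
      have hj := congrArg (rres (inf_le_inf_left _ inf_le_right : O ≤ CohB1.genLocus _ s ⊓ W j)) (ha j)
      have huc := congrArg (rres (inf_le_right : O ≤ W i ⊓ W j)) (hcu i j u hu)
      rw [map_mul, map_pow, rres_rres, rres_rres, rres_rres] at hi hj
      rw [map_mul, map_pow, rres_rres, rres_rres] at huc
      simp only [d, map_sub, map_mul, map_pow, rres_rres]
      rw [hi, hj, huc, mul_pow, ← pow_mul, mul_assoc, sub_self]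
    have hle : X.basicOpen cc ≤ O := by
      refine le_inf ?_ (X.basicOpen_le _)
      rw [show X.basicOpen cc = (W i ⊓ W j) ⊓ X.basicOpen (c i) from
        Scheme.basicOpen_res X (c i) _, ← hD i]
      exact inf_le_right.trans inf_le_left
    have h1 := congrArg (rres hle) h0
    rw [rres_rres, map_zero] at h1
    obtain ⟨m, hm⟩ :=
      exists_pow_mul_eq_zero_of_res_basicOpen_eq_zero_of_isCompact X hcpt d cc h1
    refine ⟨m, fun u' hu' => ?_⟩
    obtain rfl : u' = u :=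
      ((he i).restrict (inf_le_left : W i ⊓ W j ≤ W i)).injective le_rfl
        (by rw [res_self]; exact hu'.symm.trans hu)
    exact hm
  choose m₀ hm₀ using hm
  let m := Finset.univ.sup m₀
  obtain ⟨T, hT⟩ := exists_hom_of_cover W hcov e he (k * (n + (m + 1)))
    (fun i => a i * c i ^ (m + 1)) fun i j u hu => by
      have h1 := hm₀ (i, j) u hu
      have hle : m₀ (i, j) ≤ m := Finset.le_sup (f := m₀) (Finset.mem_univ (i, j))
      have h2 : rres (inf_le_left : W i ⊓ W j ≤ W i) (c i) ^ (m + 1) *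
          (rres (inf_le_left : W i ⊓ W j ≤ W i) (a i) -
            u ^ (k * n) * rres (inf_le_right : W i ⊓ W j ≤ W j) (a j)) = 0 := by
        rw [show m + 1 = (m + 1 - m₀ (i, j)) + m₀ (i, j) by omega, pow_add, mul_assoc, h1, mul_zero]
      rw [mul_sub, sub_eq_zero] at h2
      rw [map_mul, map_mul, map_pow, map_pow, mul_comm (rres _ (a i)), h2, hcu i j u hu,
        mul_pow, ← pow_mul, Nat.mul_add k n (m + 1), pow_add]
      ring
  have hgen : CohB1.genLocus _ T = X.basicOpen f := by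
    ext x
    obtain ⟨i, hxi⟩ := Opens.mem_iSup.mp (hcov (trivial : x ∈ (⊤ : X.Opens)))
    have e1 : CohB1.genLocus _ T ⊓ W i = X.basicOpen f ⊓ W i := by
      rw [(hT i).2, Scheme.basicOpen_mul, Scheme.basicOpen_pow _ _ (Nat.succ_pos m)]
      have l := congrArg X.basicOpen (ha i)
      rw [Scheme.basicOpen_res, Scheme.basicOpen_mul, Scheme.basicOpen_res] at l
      have hu : X.basicOpen (rres (inf_le_right : CohB1.genLocus _ s ⊓ W i ≤ W i) (c i) ^ n) =
          CohB1.genLocus _ s ⊓ W i := by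
        rcases Nat.eq_zero_or_pos n with h | h
        · rw [h, pow_zero, Scheme.basicOpen_of_isUnit _ isUnit_one]
        · rw [Scheme.basicOpen_pow _ _ h, Scheme.basicOpen_res, ← hD i, inf_idem]
      rw [hu] at l
      rw [← hD i]
      calc X.basicOpen (a i) ⊓ (CohB1.genLocus _ s ⊓ W i)
          = CohB1.genLocus _ s ⊓ W i ⊓ X.basicOpen (a i) := inf_comm _ _
        _ = CohB1.genLocus _ s ⊓ W i ⊓ (CohB1.genLocus _ s ⊓ W i ⊓ X.basicOpen f) := l
        _ = X.basicOpen f ⊓ W i := by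
          rw [← inf_assoc, inf_idem, inf_comm _ (X.basicOpen f), ← inf_assoc,
            inf_eq_left.mpr (X.basicOpen_le f)]
    have := congrArg (fun O : X.Opens => x ∈ O) e1
    have hxi' : x ∈ W i := hxi
    simpa [hxi'] using this
  obtain ⟨N, t', ht'⟩ := exists_succ (Nat.mul_pos hk (by omega)) T
  exact ⟨N, t', ht'.trans hgen⟩

/-- On a scheme with an ample `L`, the `X_s` form a basis. -/
theorem isBasis_of_isAmple (h : CohB1.IsAmple L) :
    Opens.IsBasis {U : X.Opens | ∃ (n : ℕ) (s : Coh.structureModule X ⟶ CohB1.tensorPow L (n + 1)),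
      U = CohB1.genLocus _ s} := by
  obtain ⟨hL, hc, hA⟩ := h
  have := GenSep.isSeparated hL hA
  rw [Opens.isBasis_iff_nbhd]
  intro O x hx
  obtain ⟨n, s, hxs, haff⟩ := hA x
  obtain ⟨f, hf, hxf⟩ := haff.exists_basicOpen_le (V := O) ⟨x, hx⟩ hxs
  obtain ⟨N, t, ht⟩ := exists_basicOpen hL (Nat.succ_pos n) s f
  exact ⟨X.basicOpen f, ⟨N, t, ht.symm⟩, hxf, hf⟩

end Groth.Agent.Props.GenExt

end
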