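import Groth.Agent.Props.GenBox

/-!
# Extension of coefficient families from `X_s`
-/

universe u

open CategoryTheory Limits AlgebraicGeometry Opposite TopologicalSpace

noncomputable section

namespace Groth.Agent.Props.AmpleCoeff

open Groth.Agent.QCoh Groth.Agent.Props.GenLocus Groth.Agent.Props.GenTensor Groth.Agent.Props.GenProd
  Groth.Agent.Props.GenExt

variable {X : Scheme.{u}}

/-- Coefficient families on `U` extend after multiplication by high powers of the equations of `U`. -/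
theorem extend_coeff [QuasiSeparatedSpace X] {ι : Type*} [Finite ι] (W : ι → X.Opens)
    (hW : ∀ i, IsAffineOpen (W i)) (U : X.Opens) (c : ∀ i, Γ(X, W i))
    (hU : ∀ i, U ⊓ W i = X.basicOpen (c i)) (f : ∀ i, Γ(X, U ⊓ W i))
    (v w : ∀ i j, Γ(X, W i ⊓ W j))
    (hv : ∀ i j, rres (inf_le_left : W i ⊓ W j ≤ W i) (c i) =
      v i j * rres (inf_le_right : W i ⊓ W j ≤ W j) (c j))
    (hf : ∀ i j, rres (inf_le_inf_left U (inf_le_left : W i ⊓ W j ≤ W i)) (f i) =
      rres (inf_le_right : U ⊓ (W i ⊓ W j) ≤ W i ⊓ W j) (w i j) *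
        rres (inf_le_inf_left U (inf_le_right : W i ⊓ W j ≤ W j)) (f j)) :
    ∃ N : ℕ, ∀ M, N ≤ M → ∃ a : ∀ i, Γ(X, W i),
      (∀ i, rres (inf_le_right : U ⊓ W i ≤ W i) (a i) =
        rres (inf_le_right : U ⊓ W i ≤ W i) (c i) ^ M * f i) ∧
      ∀ i j, rres (inf_le_left : W i ⊓ W j ≤ W i) (a i) =
        v i j ^ M * w i j * rres (inf_le_right : W i ⊓ W j ≤ W j) (a j) := by
  classical
  have := Fintype.ofFinite ι
  have hloc : ∀ i, ∃ (n : ℕ) (a : Γ(X, W i)), rres (inf_le_right : U ⊓ W i ≤ W i) a =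
        rres (inf_le_right : U ⊓ W i ≤ W i) (c i) ^ n * f i := by
    intro i
    have : ∀ (O : X.Opens) (hO : O = X.basicOpen (c i)) (hle : O ≤ W i) (z : Γ(X, O)),
        ∃ (n : ℕ) (a : Γ(X, W i)), rres hle a = rres hle (c i) ^ n * z := by
      intro O hO hle z
      subst hO
      have := (hW i).isLocalization_basicOpen (c i)
      obtain ⟨⟨a, ⟨_, n, rfl⟩⟩, ha⟩ := IsLocalization.surj (Submonoid.powers (c i)) z
      refine ⟨n, a, ?_⟩
      rw [← map_pow, mul_comm]
      exact ha.symm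
    exact this _ (hU i) _ _
  choose n₀ a₀ ha₀ using hloc
  let n := Finset.univ.sup n₀
  obtain ⟨a, ha⟩ : ∃ a : ∀ i, Γ(X, W i), ∀ i, rres (inf_le_right : U ⊓ W i ≤ W i) (a i) =
      rres (inf_le_right : U ⊓ W i ≤ W i) (c i) ^ n * f i := by
    refine ⟨fun i => c i ^ (n - n₀ i) * a₀ i, fun i => ?_⟩
    rw [map_mul, map_pow, ha₀ i, ← mul_assoc, ← pow_add,
      Nat.sub_add_cancel (Finset.le_sup (f := n₀) (Finset.mem_univ i))]
  have hm : ∀ p : ι × ι, ∃ m : ℕ,
      rres (inf_le_left : W p.1 ⊓ W p.2 ≤ W p.1) (c p.1) ^ m *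
        (rres (inf_le_left : W p.1 ⊓ W p.2 ≤ W p.1) (a p.1) -
          v p.1 p.2 ^ n * w p.1 p.2 * rres (inf_le_right : W p.1 ⊓ W p.2 ≤ W p.2) (a p.2)) = 0 := by
    rintro ⟨i, j⟩
    have hcpt : IsCompact (W i ⊓ W j : X.Opens).1 :=
      QuasiSeparatedSpace.inter_isCompact _ _ (W i).2 (hW i).isCompact (W j).2 (hW j).isCompact
    let O : X.Opens := U ⊓ (W i ⊓ W j)
    let d : Γ(X, W i ⊓ W j) := rres (inf_le_left : W i ⊓ W j ≤ W i) (a i) -
      v i j ^ n * w i j * rres (inf_le_right : W i ⊓ W j ≤ W j) (a j)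
    have h0 : rres (inf_le_right : O ≤ W i ⊓ W j) d = 0 := by
      have hi := congrArg (rres (inf_le_inf_left U inf_le_left : O ≤ U ⊓ W i)) (ha i)
      have hj := congrArg (rres (inf_le_inf_left U inf_le_right : O ≤ U ⊓ W j)) (ha j)
      have huc := congrArg (rres (inf_le_right : O ≤ W i ⊓ W j)) (hv i j)
      rw [map_mul, map_pow, rres_rres, rres_rres] at hi hj
      rw [map_mul, rres_rres, rres_rres] at huc
      simp only [d, map_sub, map_mul, map_pow, rres_rres]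
      rw [hi, hj, huc, hf i j]
      ring
    have hle : X.basicOpen (rres (inf_le_left : W i ⊓ W j ≤ W i) (c i)) ≤ O := by
      refine le_inf ?_ (X.basicOpen_le _)
      rw [show X.basicOpen (rres (inf_le_left : W i ⊓ W j ≤ W i) (c i)) =
        (W i ⊓ W j) ⊓ X.basicOpen (c i) from Scheme.basicOpen_res X (c i) _, ← hU i]
      exact inf_le_right.trans inf_le_left
    have h1 := congrArg (rres hle) h0
    rw [rres_rres, map_zero] at h1
    exact exists_pow_mul_eq_zero_of_res_basicOpen_eq_zero_of_isCompact X hcpt d _ h1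
  choose m₀ hm₀ using hm
  let m := Finset.univ.sup m₀
  refine ⟨n + m, fun M hM => ⟨fun i => c i ^ (M - n) * a i, fun i => ?_, fun i j => ?_⟩⟩
  · rw [map_mul, map_pow, ha i, ← mul_assoc, ← pow_add, Nat.sub_add_cancel (by omega)]
  · have hle : m₀ (i, j) ≤ m := Finset.le_sup (f := m₀) (Finset.mem_univ (i, j))
    obtain ⟨e, he⟩ : ∃ e, M - n = e + m₀ (i, j) := ⟨M - n - m₀ (i, j), by omega⟩
    have h2 : rres (inf_le_left : W i ⊓ W j ≤ W i) (c i) ^ (M - n) *
        (rres (inf_le_left : W i ⊓ W j ≤ W i) (a i) -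
          v i j ^ n * w i j * rres (inf_le_right : W i ⊓ W j ≤ W j) (a j)) = 0 := by
      rw [he, pow_add, mul_assoc, hm₀ (i, j), mul_zero]
    rw [mul_sub, sub_eq_zero] at h2
    simp only [map_mul, map_pow]
    rw [h2, hv i j, mul_pow]
    have hv2 : v i j ^ M = v i j ^ (M - n) * v i j ^ n := by
      rw [← pow_add, Nat.sub_add_cancel (by omega)]
    rw [hv2]
    ring

/-- A finite affine cover by frames of an invertible module. -/
theorem exists_frame_cover [CompactSpace X] {L : X.Modules} (hL : PicF.IsInvertible L) :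
    ∃ (n : ℕ) (W : Fin n → X.Opens) (e : ∀ i, Γ(L, W i)),
      (∀ i, IsAffineOpen (W i)) ∧ (∀ i, IsGen L (W i) (e i)) ∧ ⊤ ≤ iSup W := by
  classical
  have key : ∀ x : X, ∃ (W : X.Opens) (e : Γ(L, W)), x ∈ W ∧ IsAffineOpen W ∧ IsGen L W e := by
    intro x
    obtain ⟨U, e, hxU, he⟩ := exists_isGen hL x
    obtain ⟨W, hW, hxW, hWU⟩ := exists_isAffineOpen_mem_and_subset (U := U) (x := x) hxU
    exact ⟨W, res L hWU e, hxW, hW, he.restrict hWU⟩
  choose W₀ e₀ hxW₀ hW₀ he₀ using key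
  obtain ⟨F, hF⟩ := isCompact_univ.elim_finite_subcover (fun x : X => (W₀ x : Set X))
    (fun x => (W₀ x).2) fun x _ => Set.mem_iUnion.mpr ⟨x, hxW₀ x⟩
  refine ⟨F.card, fun i => W₀ (F.equivFin.symm i), fun i => e₀ _, fun i => hW₀ _, fun i => he₀ _, ?_⟩
  intro x _
  obtain ⟨y, hy, hxy⟩ := Set.mem_iUnion₂.mp (hF (Set.mem_univ x))
  refine Opens.mem_iSup.mpr ⟨F.equivFin ⟨y, hy⟩, ?_⟩
  simp only [Equiv.symm_apply_apply]
  exact hxy

variable {L : X.Modules}

/-- Extension of a section of `L^l` on `X_s`. -/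
theorem exists_extend [CompactSpace X] [QuasiSeparatedSpace X] (hL : PicF.IsInvertible L) {k l : ℕ}
    (s : Coh.structureModule X ⟶ CohB1.tensorPow L k) {U : X.Opens} (hU : U = CohB1.genLocus _ s)
    (σ : Γ(CohB1.tensorPow L l, U)) :
    ∃ N : ℕ, ∀ M, N ≤ M → ∃ t : Coh.structureModule X ⟶ CohB1.tensorPow L (l + k * M),
      ∀ (W : X.Opens) (e : Γ(L, W)) (he : IsGen L W e),
        rres (inf_le_right : U ⊓ W ≤ W) (co (l + k * M) (sec t ⊤) le_top he) =
          rres (inf_le_right : U ⊓ W ≤ W) (co k (sec s ⊤) le_top he) ^ M *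
            co l σ (inf_le_left : U ⊓ W ≤ U) (he.restrict inf_le_right) := by
  obtain ⟨n, W, e, hW, he, hcov⟩ := exists_frame_cover hL
  have hu : ∀ i j : Fin n, ∃ u : Γ(X, W i ⊓ W j),
      res L (inf_le_right : W i ⊓ W j ≤ W j) (e j) = u • res L (inf_le_left : W i ⊓ W j ≤ W i) (e i) :=
    fun i j => let ⟨u, _, hu⟩ := exists_unit_smul ((he i).restrict _) ((he j).restrict _); ⟨u, hu⟩
  choose u hu using hu
  obtain ⟨N, hN⟩ := extend_coeff W hW U (fun i => co k (sec s ⊤) le_top (he i))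
    (fun i => by rw [hU]; exact genLocus_inf_eq (he i) s)
    (fun i => co l σ (inf_le_left : U ⊓ W i ≤ U) ((he i).restrict inf_le_right))
    (fun i j => u i j ^ k) (fun i j => u i j ^ l)
    (fun i j => by rw [co_res, co_res]; exact co_of_eq_smul _ _ _ _ (hu i j))
    (fun i j => by
      rw [co_res, co_res, map_pow]
      refine co_of_eq_smul _ _ _ _ ?_
      have h := congrArg (res L (inf_le_right : U ⊓ (W i ⊓ W j) ≤ W i ⊓ W j)) (hu i j)
      rw [res_smul, res_res, res_res] at h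
      rw [res_res, res_res]
      exact h)
  refine ⟨N, fun M hM => ?_⟩
  obtain ⟨a, ha, hac⟩ := hN M hM
  obtain ⟨t, ht⟩ := exists_hom_of_cover W hcov e he (l + k * M) a fun i j u' hu' => by
    obtain rfl : u' = u i j :=
      ((he i).restrict (inf_le_left : W i ⊓ W j ≤ W i)).injective le_rfl
        (by rw [res_self]; exact hu'.symm.trans (hu i j))
    rw [hac i j, ← pow_mul, pow_add, mul_comm (u i j ^ l)]
  refine ⟨t, fun O o ho => ?_⟩
  refine TopCat.Sheaf.eq_of_locally_eq' X.sheaf (fun i => (U ⊓ O) ⊓ W i) (U ⊓ O)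
    (fun i => homOfLE inf_le_left) (fun x hx => ?_) _ _ fun i => ?_
  · obtain ⟨i, hi⟩ := Opens.mem_iSup.mp (hcov (trivial : x ∈ (⊤ : X.Opens)))
    exact Opens.mem_iSup.mpr ⟨i, hx, hi⟩
  · let V : X.Opens := (U ⊓ O) ⊓ W i
    have hVi : V ≤ U ⊓ W i := le_inf (inf_le_left.trans inf_le_left) inf_le_right
    obtain ⟨z, -, hz⟩ := exists_unit_smul (ho.restrict (inf_le_left.trans inf_le_right : V ≤ O))
      ((he i).restrict (inf_le_right : V ≤ W i))
    have h1 := congrArg (rres hVi) (ha i)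
    rw [← (ht i).1] at h1
    simp only [map_mul, map_pow, rres_rres, co_res] at h1
    change rres (inf_le_left : V ≤ U ⊓ O) _ = rres (inf_le_left : V ≤ U ⊓ O) _
    simp only [map_mul, map_pow, rres_rres, co_res]
    have h2 := co_of_eq_smul (k := l + k * M) (sec t ⊤) (le_top : V ≤ ⊤) (ho.restrict _) ((he i).restrict _) hz
    have h3 := co_of_eq_smul (k := k) (sec s ⊤) (le_top : V ≤ ⊤) (ho.restrict _) ((he i).restrict _) hz
    have h4 := co_of_eq_smul (k := l) σ (inf_le_left.trans inf_le_left : V ≤ U) (ho.restrict _) ((he i).restrict _) hz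
    simp only [res_res] at *
    rw [h2, h3, h4, h1, mul_pow, ← pow_mul, pow_add]
    ring

/-- A version only recording the locus. -/
theorem exists_locus [CompactSpace X] [QuasiSeparatedSpace X] (hL : PicF.IsInvertible L) {k l : ℕ}
    (s : Coh.structureModule X ⟶ CohB1.tensorPow L k) {U O : X.Opens} (hU : U = CohB1.genLocus _ s)
    (σ : Γ(CohB1.tensorPow L l, U))
    (hO : ∀ (W : X.Opens) (e : Γ(L, W)) (he : IsGen L W e),
      O ⊓ W = X.basicOpen (co l σ (inf_le_left : U ⊓ W ≤ U) (he.restrict inf_le_right))) :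
    ∃ N : ℕ, ∀ M, N ≤ M → ∃ t : Coh.structureModule X ⟶ CohB1.tensorPow L (l + k * M),
      CohB1.genLocus _ t = O := by
  obtain ⟨N, hN⟩ := exists_extend hL s hU σ
  refine ⟨N + 1, fun M hM => ?_⟩
  obtain ⟨M', rfl⟩ : ∃ M', M = M' + 1 := ⟨M - 1, by omega⟩
  obtain ⟨t, ht⟩ := hN M' (by omega)
  obtain ⟨r, hr⟩ := exists_mul hL t s (l + k * (M' + 1)) (by rw [Nat.mul_succ, ← add_assoc])
  refine ⟨r, genLocus_ext hL fun W e he => ?_⟩
  have h1 := congrArg X.basicOpen (ht W e he)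
  rw [Scheme.basicOpen_res, Scheme.basicOpen_mul] at h1
  have hu : X.basicOpen (rres (inf_le_right : U ⊓ W ≤ W) (co k (sec s ⊤) le_top he) ^ M') = U ⊓ W := by
    rcases Nat.eq_zero_or_pos M' with h | h
    · rw [h, pow_zero, Scheme.basicOpen_of_isUnit _ isUnit_one]
    · rw [Scheme.basicOpen_pow _ _ h, Scheme.basicOpen_res, ← genLocus_inf_eq he s, ← hU, inf_idem]
  rw [hu, ← hO W e he] at h1
  rw [genLocus_mul hL t s r hr, inf_assoc, ← hU]
  have hOU : O ⊓ W ≤ U := by rw [hO W e he]; exact (X.basicOpen_le _).trans inf_le_left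
  calc CohB1.genLocus _ t ⊓ (U ⊓ W)
      = U ⊓ W ⊓ (CohB1.genLocus _ t ⊓ W) := by
        rw [inf_comm _ (U ⊓ W), inf_comm (CohB1.genLocus _ t) W, ← inf_assoc, inf_assoc U W W, inf_idem]
    _ = U ⊓ W ⊓ X.basicOpen (co (l + k * M') (sec t ⊤) le_top he) := by rw [genLocus_inf_eq he]
    _ = U ⊓ W ⊓ (O ⊓ W) := h1
    _ = O ⊓ W := inf_eq_right.mpr (le_inf hOU inf_le_right)

end Groth.Agent.Props.AmpleCoeff

end
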