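import Groth.Agent.Props.GenExt
import Groth.Agent.PicCl.Basic

/-!
# Pulling back sections of tensor powers of an invertible module
-/

universe u

open CategoryTheory Limits AlgebraicGeometry Opposite TopologicalSpace

noncomputable section

namespace Groth.Agent.Props.GenPull

open Groth.Agent.QCoh Groth.Agent.Props.GenLocus Groth.Agent.Props.GenTensor Groth.Agent.Props.GenProd
  Groth.Agent.Props.GenExt

variable {X' X : Scheme.{u}} (g : X' ⟶ X) {L : X.Modules}

/-- The pullback of a section. -/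
abbrev pb {W : X.Opens} (e : Γ(L, W)) : Γ((Scheme.Modules.pullback g).obj L, g ⁻¹ᵁ W) :=
  LFFrame.unitSec g L W e

theorem isGen_pb {W : X.Opens} {e : Γ(L, W)} (he : IsGen L W e) :
    IsGen ((Scheme.Modules.pullback g).obj L) (g ⁻¹ᵁ W) (pb g e) :=
  (isGen_iff_isFrame _).mpr (LFFrame.IsFrame.pullback g ((isGen_iff_isFrame e).mp he))

lemma app_rres {U V : X.Opens} (h : V ≤ U) (a : Γ(X, U)) :
    g.app V (rres h a) = rres (g.preimage_mono h) (g.app U a) := by
  rw [← CommRingCat.comp_apply, ← CommRingCat.comp_apply]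
  exact DFunLike.congr_fun (congrArg CommRingCat.Hom.hom (g.naturality (homOfLE h).op)) a

/-- Pullback of a section of a tensor power, with the coefficients pulled back. -/
theorem exists_pull (hL : PicF.IsInvertible L) {K : ℕ}
    (s : Coh.structureModule X ⟶ CohB1.tensorPow L K) :
    ∃ s' : Coh.structureModule X' ⟶ CohB1.tensorPow ((Scheme.Modules.pullback g).obj L) K,
      CohB1.genLocus _ s' = g ⁻¹ᵁ CohB1.genLocus _ s ∧
      ∀ (W : X.Opens) (e : Γ(L, W)) (he : IsGen L W e),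
        co K (sec s' ⊤) le_top (isGen_pb g he) = g.app W (co K (sec s ⊤) le_top he) := by
  let ι := {p : Σ W : X.Opens, Γ(L, W) // IsGen L p.1 p.2}
  obtain ⟨s', hs'⟩ := exists_hom_of_cover (L := (Scheme.Modules.pullback g).obj L)
    (fun i : ι => g ⁻¹ᵁ i.1.1) (by
      intro x _
      obtain ⟨U, e, hxU, he⟩ := exists_isGen hL (g x)
      exact Opens.mem_iSup.mpr ⟨(⟨⟨U, e⟩, he⟩ : ι), hxU⟩)
    (fun i => pb g i.1.2) (fun i => isGen_pb g i.2) K
    (fun i => g.app i.1.1 (co K (sec s ⊤) le_top i.2)) (by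
      rintro ⟨⟨W, e⟩, he⟩ ⟨⟨W', e'⟩, he'⟩ u' hu'
      obtain ⟨u, -, hu⟩ := exists_unit_smul (he.restrict (inf_le_left : W ⊓ W' ≤ W))
        (he'.restrict (inf_le_right : W ⊓ W' ≤ W'))
      have h1 := congrArg (LFFrame.unitSec g L (W ⊓ W')) hu
      rw [LFFrame.unitSec_smul, LFFrame.unitSec_res, LFFrame.unitSec_res] at h1
      have h2 : u' = g.app (W ⊓ W') u :=
        ((isGen_pb g he).restrict (g.preimage_mono (inf_le_left : W ⊓ W' ≤ W))).injective le_rfl
          (by rw [res_self]; exact hu'.symm.trans h1)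
      have h3 : rres (inf_le_left : W ⊓ W' ≤ W) (co K (sec s ⊤) le_top he) =
          u ^ K * rres (inf_le_right : W ⊓ W' ≤ W') (co K (sec s ⊤) le_top he') := by
        rw [co_res, co_res]
        exact co_of_eq_smul _ _ _ _ hu
      have h4 := congrArg (g.app (W ⊓ W')) h3
      rw [map_mul, map_pow, app_rres, app_rres, ← h2] at h4
      exact h4)
  refine ⟨s', ?_, fun W e he => (hs' (⟨⟨W, e⟩, he⟩ : ι)).1⟩
  ext x
  obtain ⟨U, e, hxU, he⟩ := exists_isGen hL (g x)
  have h1 := (hs' (⟨⟨U, e⟩, he⟩ : ι)).2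
  rw [← Scheme.preimage_basicOpen g, ← genLocus_inf_eq he s] at h1
  have h2 := congrArg (fun O : X'.Opens => x ∈ O) h1
  have hxU' : x ∈ g ⁻¹ᵁ U := hxU
  have h3 : x ∈ CohB1.genLocus _ s' ↔ g x ∈ CohB1.genLocus _ s ∧ g x ∈ U := by
    simpa [hxU'] using h2
  exact h3.trans (and_iff_left hxU)

theorem isBasis_pullback (hg : Topology.IsInducing g) (hL : PicF.IsInvertible L)
    (hB : Opens.IsBasis {U : X.Opens | ∃ (n : ℕ) (s : Coh.structureModule X ⟶ CohB1.tensorPow L (n + 1)),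
      U = CohB1.genLocus _ s}) :
    Opens.IsBasis {U : X'.Opens | ∃ (n : ℕ) (s : Coh.structureModule X' ⟶
      CohB1.tensorPow ((Scheme.Modules.pullback g).obj L) (n + 1)), U = CohB1.genLocus _ s} := by
  rw [Opens.isBasis_iff_nbhd] at hB ⊢
  intro O x hx
  obtain ⟨V, hV, hVO⟩ := hg.isOpen_iff.mp O.2
  have hxV : g x ∈ V := by rw [← Set.mem_preimage, hVO]; exact hx
  obtain ⟨_, ⟨n, s, rfl⟩, hxs, hle⟩ := hB (U := ⟨V, hV⟩) hxV
  obtain ⟨s', hs', -⟩ := exists_pull g hL s
  refine ⟨_, ⟨n, s', rfl⟩, ?_, ?_⟩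
  · rw [hs']; exact hxs
  · rw [hs']
    intro y hy
    exact hVO.le (hle hy)

end Groth.Agent.Props.GenPull

end
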