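import Groth.Agent.Props.SubMod
import Groth.Prelude.Def_Coh
import Mathlib.AlgebraicGeometry.IdealSheaf.Basic
import Mathlib.RingTheory.Nakayama

/-!
# Ideal sheaves of finite type with prescribed support
-/

universe u

open CategoryTheory Limits AlgebraicGeometry Opposite TopologicalSpace

noncomputable section

namespace Groth.Agent.Props.SubIdeal

open Groth.Agent.QCoh Groth.Agent.Props.QStalk Groth.Agent.PullStalk.Sky Groth.Agent.Props.SubMod

variable (X : Scheme.{u})

/-- The structure sheaf as a module. -/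
abbrev unitMod : X.Modules := Coh.structureModule X

instance isQuasicoherent_unitMod : (unitMod X).IsQuasicoherent := by
  refine QCoh.isQuasicoherent_of_forall_exists _ fun x => ?_
  obtain ⟨U, hU, hx, -⟩ := exists_isAffineOpen_mem_and_subset (X := X) (Opens.mem_top x)
  have := hU.isOpenImmersion_fromSpec
  refine ⟨U, hU, hx, ?_⟩
  have : (tilde (ModuleCat.of Γ(X, U) Γ(X, U))).IsQuasicoherent := inferInstance
  exact QCoh.isQuasicoherent_of_iso (M := tilde (ModuleCat.of Γ(X, U) Γ(X, U)))
    (tildeSelf ≪≫ (Scheme.Modules.restrictUnitIso hU.fromSpec).symm)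

variable {X}

/-- The section `1`. -/
abbrev one' (V : X.Opens) : Γ(unitMod X, V) := (1 : Γ(X, V))

lemma eq_smul_one {V : X.Opens} (r : Γ(X, V)) : (r : Γ(unitMod X, V)) = r • one' V :=
  (mul_one r).symm

lemma res_one {V V' : X.Opens} (h : V' ≤ V) : res (unitMod X) h (one' V) = one' V' :=
  (X.presheaf.map (homOfLE h).op).hom.map_one

lemma span_germ_one (V : X.Opens) (y : X) (hy : y ∈ V) :
    spanGerm ({one' V} : Set Γ(unitMod X, V)) y hy = ⊤ := by
  rw [eq_top_iff]
  intro t _
  obtain ⟨W, hyW, m, rfl⟩ := exists_germM_eq (unitMod X) y t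
  have e1 : germM (unitMod X) (V ⊓ W) y ⟨hy, hyW⟩ (res (unitMod X) inf_le_right m) =
      germM (unitMod X) W y hyW m :=
    (unitMod X).presheaf.germ_res_apply _ y _ m
  have e2 : germM (unitMod X) (V ⊓ W) y ⟨hy, hyW⟩ (res (unitMod X) inf_le_left (one' V)) =
      germM (unitMod X) V y hy (one' V) :=
    (unitMod X).presheaf.germ_res_apply _ y _ _
  rw [← e1, eq_smul_one (res (unitMod X) inf_le_right m), germM_smul, ← res_one (inf_le_left : V ⊓ W ≤ V),
    e2]
  exact Submodule.smul_mem _ _ (Submodule.subset_span ⟨_, rfl, rfl⟩)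

/-- The ideal of sections with germs in the family. -/
def idealSections (S : StalkSub (unitMod X)) (V : X.Opens) : Ideal Γ(X, V) where
  carrier := {r | ∀ (y : X) (hy : y ∈ V), germM (unitMod X) V y hy r ∈ S y}
  add_mem' {a b} ha hb y hy := by
    have : germM (unitMod X) V y hy (a + b : Γ(unitMod X, V)) =
        germM (unitMod X) V y hy a + germM (unitMod X) V y hy b :=
      map_add ((unitMod X).presheaf.germ V y hy).hom _ _
    exact (congrArg (· ∈ S y) this).mpr (add_mem (ha y hy) (hb y hy))
  zero_mem' y hy := by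
    have : germM (unitMod X) V y hy (0 : Γ(unitMod X, V)) = 0 :=
      map_zero ((unitMod X).presheaf.germ V y hy).hom
    exact (congrArg (· ∈ S y) this).mpr (zero_mem _)
  smul_mem' r a ha y hy := by
    exact (congrArg (· ∈ S y) (germM_smul (unitMod X) V y hy r a)).mpr (Submodule.smul_mem _ _ (ha y hy))

lemma idealSections_eq_span {S : StalkSub (unitMod X)} {V : X.Opens} (hV : IsAffineOpen V)
    {T : Set Γ(X, V)} (hT : GenBy S V T) : idealSections S V = Ideal.span T := by
  refine le_antisymm (fun r hr => ?_) (Ideal.span_le.mpr fun t ht y hy => ?_)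
  · exact mem_span_of_germ (M := unitMod X) hV fun y hy => hT y hy ▸ hr y hy
  · rw [hT y hy]
    exact Submodule.subset_span ⟨t, ht, rfl⟩

/-- In a qcqs scheme a compact open is the complement of the support of a finite type ideal. -/
theorem exists_ideal [CompactSpace X] [QuasiSeparatedSpace X] (U : X.Opens)
    (hU : IsCompact (U : Set X)) :
    ∃ I : X.IdealSheafData, (∀ V : X.affineOpens, (I.ideal V).FG) ∧
      (I.support : Set X) = (U : Set X)ᶜ := by
  classical
  have hS : FTOn (fun _ => ⊤ : StalkSub (unitMod X)) U := by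
    intro x hx
    obtain ⟨V, hV, hxV, hVU⟩ := exists_isAffineOpen_mem_and_subset hx
    exact ⟨V, hV, hxV, hVU, {one' V}, fun y hy => by
      rw [Finset.coe_singleton, span_germ_one]⟩
  obtain ⟨S', hFT, h1, h2⟩ := exists_global hU hS
  choose T hT using fun V : X.affineOpens => exists_genBy hFT V.2 le_top
  let I : X.IdealSheafData :=
    { ideal := fun V => idealSections S' V
      map_ideal_basicOpen := fun V f => by
        rw [idealSections_eq_span V.2 (hT V),
          idealSections_eq_span (X.affineBasicOpen f).2 ((hT V).restrict (X.basicOpen_le f)),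
          Ideal.map_span]
        rfl }
  refine ⟨I, fun V => ⟨T V, (idealSections_eq_span V.2 (hT V)).symm⟩, ?_⟩
  ext x
  obtain ⟨W, hW, hxW, -⟩ := exists_isAffineOpen_mem_and_subset (X := X) (Opens.mem_top x)
  rw [SetLike.mem_coe, Scheme.IdealSheafData.mem_support_iff_of_mem (U := ⟨W, hW⟩) hxW,
    Scheme.mem_zeroLocus_iff, Set.mem_compl_iff]
  constructor
  · intro h hxU
    have hmem : germM (unitMod X) W x hxW (one' W) ∈ spanGerm (T ⟨W, hW⟩ : Set Γ(unitMod X, W)) x hxW :=
      hT ⟨W, hW⟩ x hxW ▸ (h1 x hxU).symm ▸ Submodule.mem_top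
    obtain ⟨a, hxa, ha⟩ := exists_smul_mem_span (M := unitMod X) hW hxW hmem
    have ha' : a ∈ I.ideal ⟨W, hW⟩ := by
      change a ∈ idealSections S' W
      rw [idealSections_eq_span hW (hT ⟨W, hW⟩), ← mul_one a]
      exact ha
    exact h a ha' hxa
  · intro hxU r hr hxr
    have hu := isUnit_germ (X := X) hxr
    obtain ⟨w, hw⟩ := hu
    have hmem := h2 x hxU (hr x hxW)
    rw [eq_smul_one r, germM_smul, ← hw] at hmem
    have hone := Submodule.smul_mem _ (↑w⁻¹ : X.presheaf.stalk x) hmem
    rw [smul_smul, w.inv_mul, one_smul] at hone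
    have hspan := span_germ_one W x hxW
    rw [spanGerm, Set.image_singleton] at hspan
    have hfin : (⊤ : Submodule (X.presheaf.stalk x) ((unitMod X).presheaf.stalk x)).FG :=
      ⟨{germM (unitMod X) W x hxW (one' W)}, by rw [Finset.coe_singleton, hspan]⟩
    have hle : (⊤ : Submodule (X.presheaf.stalk x) ((unitMod X).presheaf.stalk x)) ≤
        IsLocalRing.maximalIdeal (X.presheaf.stalk x) • ⊤ := by
      conv_lhs => rw [← hspan]
      rw [Submodule.span_le, Set.singleton_subset_iff]
      exact hone
    have hbot := Submodule.eq_bot_of_le_smul_of_le_jacobson_bot _ _ hfin hle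
      (IsLocalRing.maximalIdeal_le_jacobson _)
    have h0 : germM (unitMod X) W x hxW (one' W) = 0 :=
      (Submodule.mem_bot _).mp (hbot ▸ Submodule.mem_top)
    have h0' : germM (unitMod X) W x hxW (one' W) = germM (unitMod X) W x hxW 0 :=
      h0.trans (map_zero ((unitMod X).presheaf.germ W x hxW).hom).symm
    obtain ⟨W', hxW', i₁, i₂, he⟩ := (unitMod X).presheaf.germ_eq x hxW hxW _ _ h0'
    have he' : (1 : Γ(X, W')) = 0 :=
      ((X.presheaf.map i₁.op).hom.map_one).symm.trans (he.trans (X.presheaf.map i₂.op).hom.map_zero)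
    have := congrArg (X.presheaf.germ W' x hxW').hom he'
    rw [map_one, map_zero] at this
    exact one_ne_zero this

/-- An open whose complement is cut out by a finite type ideal is compact. -/
theorem isCompact_of_ideal [CompactSpace X] {U : X.Opens} {I : X.IdealSheafData}
    (hI : ∀ V : X.affineOpens, (I.ideal V).FG) (hU : (I.support : Set X) = (U : Set X)ᶜ) :
    IsCompact (U : Set X) := by
  obtain ⟨σ, hσ⟩ := isCompact_univ.elim_finite_subcover
    (fun W : X.affineOpens => ((W : X.Opens) : Set X)) (fun W => (W : X.Opens).isOpen) fun x _ => by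
      obtain ⟨W, hW, hx, -⟩ := exists_isAffineOpen_mem_and_subset (X := X) (Opens.mem_top x)
      exact Set.mem_iUnion.mpr ⟨⟨W, hW⟩, hx⟩
  choose s hs using hI
  have : (U : Set X) = ⋃ W ∈ σ, ⋃ g ∈ s W, (X.basicOpen g : Set X) := by
    ext x
    constructor
    · intro hx
      obtain ⟨W, hW, hxW⟩ := Set.mem_iUnion₂.mp (hσ (Set.mem_univ x))
      have hnot : x ∉ (I.support : Set X) := by rw [hU]; exact fun h => h hx
      rw [SetLike.mem_coe, Scheme.IdealSheafData.mem_support_iff_of_mem hxW, ← hs W, Ideal.span,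
        Scheme.zeroLocus_span, Scheme.mem_zeroLocus_iff] at hnot
      push Not at hnot
      obtain ⟨g, hg, hxg⟩ := hnot
      exact Set.mem_iUnion₂.mpr ⟨W, hW, Set.mem_iUnion₂.mpr ⟨g, hg, hxg⟩⟩
    · intro hx
      obtain ⟨W, hW, hx⟩ := Set.mem_iUnion₂.mp hx
      obtain ⟨g, hg, hxg⟩ := Set.mem_iUnion₂.mp hx
      by_contra hxU
      have hin : x ∈ (I.support : Set X) := by rw [hU]; exact hxU
      rw [SetLike.mem_coe, Scheme.IdealSheafData.mem_support_iff_of_mem (X.basicOpen_le g hxg),
        Scheme.mem_zeroLocus_iff] at hin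
      exact hin g (hs W ▸ Submodule.subset_span hg) hxg
  rw [this]
  exact σ.finite_toSet.isCompact_biUnion fun W _ => (s W).finite_toSet.isCompact_biUnion
    fun g _ => (W.2.basicOpen g).isCompact

end Groth.Agent.Props.SubIdeal

end
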