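import Groth.Agent.Props.QApprox
import Groth.Agent.Props.SubIdeal
import Groth.Prelude.Def_CohB1

/-!
# Modules of finite type as quotients and colimits of finitely presented modules
-/

universe u

open CategoryTheory Limits AlgebraicGeometry Opposite TopologicalSpace

noncomputable section

namespace Groth.Agent.Props.QApproxMain

open Groth.Agent.QCoh Groth.Agent.Props.SubMod Groth.Agent.Props.SubSheaf Groth.Agent.Props.SubExt
  Groth.Agent.Props.QApprox

variable {X : Scheme.{u}}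

theorem exists_affine_finite_cover (X : Scheme.{u}) [CompactSpace X] :
    ∃ σ : Finset X.affineOpens, ∀ x : X, ∃ W ∈ σ, x ∈ (W : X.Opens) := by
  obtain ⟨σ, hσ⟩ := isCompact_univ.elim_finite_subcover
    (fun W : X.affineOpens => ((W : X.Opens) : Set X)) (fun W => (W : X.Opens).isOpen) fun x _ => by
      obtain ⟨W, hW, hx, -⟩ := exists_isAffineOpen_mem_and_subset (X := X) (Opens.mem_top x)
      exact Set.mem_iUnion.mpr ⟨⟨W, hW⟩, hx⟩
  refine ⟨σ, fun x => ?_⟩
  obtain ⟨W, hW, hx⟩ := Set.mem_iUnion₂.mp (hσ (Set.mem_univ x))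
  exact ⟨W, hW, hx⟩

theorem isoOn_id (M : X.Modules) (U : X.Opens) : IsoOn (𝟙 M) U :=
  fun _ _ => ⟨fun _ _ h => h, fun y => ⟨y, rfl⟩⟩

theorem isoOn_comp {A B C : X.Modules} {f : A ⟶ B} {g : B ⟶ C} {U : X.Opens} (hf : IsoOn f U)
    (hg : IsoOn g U) : IsoOn (f ≫ g) U := fun O hO => by
  rw [Scheme.Modules.Hom.comp_app]
  exact (hg O hO).comp (hf O hO)

/-- A module finitely presented on a compact open is, there, a finitely presented module on `X`. -/
theorem exists_fp_isoOn [CompactSpace X] [QuasiSeparatedSpace X] (F : X.Modules) [F.IsQuasicoherent]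
    {U : X.Opens} (hU : IsCompact (U : Set X)) (hF : FPOn F U) :
    ∃ (G : X.Modules) (θ : G ⟶ F), G.IsQuasicoherent ∧ FPOn G ⊤ ∧ IsoOn θ U := by
  classical
  obtain ⟨σ, hσ⟩ := exists_affine_finite_cover X
  suffices H : ∀ τ : Finset X.affineOpens, ∃ (U' : X.Opens) (G : X.Modules) (θ : G ⟶ F),
      IsCompact (U' : Set X) ∧ U ≤ U' ∧ (∀ W ∈ τ, (W : X.Opens) ≤ U') ∧ G.IsQuasicoherent ∧
      FPOn G U' ∧ IsoOn θ U by
    obtain ⟨U', G, θ, -, -, hle, hq, hfp, hiso⟩ := H σ
    have htop : U' = ⊤ := eq_top_iff.mpr fun x _ => by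
      obtain ⟨W, hW, hx⟩ := hσ x
      exact hle W hW hx
    exact ⟨G, θ, hq, htop ▸ hfp, hiso⟩
  intro τ
  induction τ using Finset.induction with
  | empty => exact ⟨U, F, 𝟙 F, hU, le_rfl, by simp, ‹_›, hF, isoOn_id F U⟩
  | insert W τ _ ih =>
    obtain ⟨U', G, θ, hU', hUU', hle, hq, hfp, hiso⟩ := ih
    obtain ⟨G', θ', hq', hfp', hiso'⟩ := exists_step G hU' W.2 hfp
    refine ⟨U' ⊔ W, G', θ' ≫ θ, hU'.union W.2.isCompact, hUU'.trans le_sup_left, fun V hV => ?_,
      hq', hfp', isoOn_comp (fun O hO => hiso' O (hO.trans hUU')) hiso⟩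
    rcases Finset.mem_insert.mp hV with rfl | hV
    · exact le_sup_right
    · exact (hle V hV).trans le_sup_left

theorem fpOn_biprod {A B : X.Modules} {U : X.Opens} (hA : FPOn A U) (hB : FPOn B U) :
    FPOn (A ⊞ B) U := by
  intro V hV hVU
  have := hA V hV hVU
  have := hB V hV hVU
  let f := (appLin (biprod.fst : A ⊞ B ⟶ A) V).prod (appLin (biprod.snd : A ⊞ B ⟶ B) V)
  have hcomp : ∀ {P Q R : X.Modules} (a : P ⟶ Q) (b : Q ⟶ R) (x : Γ(P, V)),
      b.app V (a.app V x) = (a ≫ b).app V x := fun a b x => rfl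
  have hadd : ∀ z : Γ(A ⊞ B, V), (biprod.inl : A ⟶ A ⊞ B).app V ((biprod.fst : A ⊞ B ⟶ A).app V z) +
      (biprod.inr : B ⟶ A ⊞ B).app V ((biprod.snd : A ⊞ B ⟶ B).app V z) = z := by
    intro z
    rw [hcomp, hcomp]
    change ((biprod.fst ≫ biprod.inl : A ⊞ B ⟶ A ⊞ B) + biprod.snd ≫ biprod.inr).app V z = z
    rw [biprod.total]
    rfl
  have hf : Function.Bijective f := by
    constructor
    · intro a b hab
      rw [← hadd a, ← hadd b]
      have h1 := congrArg Prod.fst hab
      have h2 := congrArg Prod.snd hab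
      change (biprod.fst : A ⊞ B ⟶ A).app V a = (biprod.fst : A ⊞ B ⟶ A).app V b at h1
      change (biprod.snd : A ⊞ B ⟶ B).app V a = (biprod.snd : A ⊞ B ⟶ B).app V b at h2
      rw [h1, h2]
    · rintro ⟨a, b⟩
      refine ⟨(biprod.inl : A ⟶ A ⊞ B).app V a + (biprod.inr : B ⟶ A ⊞ B).app V b, Prod.ext ?_ ?_⟩
      · change (biprod.fst : A ⊞ B ⟶ A).app V (_ + _) = a
        rw [map_add, hcomp, hcomp, biprod.inl_fst, biprod.inr_fst]
        exact add_zero a
      · change (biprod.snd : A ⊞ B ⟶ B).app V (_ + _) = b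
        rw [map_add, hcomp, hcomp, biprod.inl_snd, biprod.inr_snd]
        exact zero_add b
  exact Module.FinitePresentation.of_equiv (LinearEquiv.ofBijective f hf).symm

/-- Finitely presented modules with a map to `F` surjective over a given affine open. -/
theorem exists_fp_surjective_on [CompactSpace X] [QuasiSeparatedSpace X] (F : X.Modules)
    [F.IsQuasicoherent] {W : X.Opens} (hW : IsAffineOpen W) (hF : Module.Finite Γ(X, W) Γ(F, W)) :
    ∃ (P : X.Modules) (ψ : P ⟶ F), P.IsQuasicoherent ∧ FPOn P ⊤ ∧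
      Function.Surjective (ψ.app W) := by
  have : CompactSpace W := isCompact_iff_compactSpace.mp hW.isCompact
  have : QuasiCompact W.ι := inferInstance
  have := (QCoh.finite_toSpec_iff hW F).mpr hF
  have : (toSpec hW F).IsQuasicoherent := Scheme.Modules.isQuasicoherent_restrictFunctor _ F
  obtain ⟨G₀, hG₀⟩ := QCoh.exists_generators_of_finite (toSpec hW F)
  have := hW.isOpenImmersion_fromSpec
  let e : Scheme.Modules.restrictFunctor hW.fromSpec ⋙ Scheme.Modules.restrictFunctor
      hW.isoSpec.hom ≅ Scheme.Modules.restrictFunctor W.ι :=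
    (Scheme.Modules.restrictFunctorComp _ _).symm ≪≫
      Scheme.Modules.restrictFunctorCongr hW.isoSpec_hom_fromSpec
  let G := QCoh.generatorsOfIso (e.app F) (QCoh.generatorsRestrictAlong hW.isoSpec.hom G₀)
  have hGI : Finite G.I := hG₀
  obtain ⟨n, ⟨en⟩⟩ := Finite.exists_equiv_fin G.I
  let A : (W : Scheme.{u}).Modules := SheafOfModules.free.{u} G.I
  let efree : A ≅ FlatMod.freeMod W n :=
    Sigma.whiskerEquiv (C := (W : Scheme.{u}).Modules) (f := fun _ : G.I => Coh.structureModule _)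
      (g := fun _ : Fin n => Coh.structureModule _) en (fun _ => Iso.refl _)
  have hAq : A.IsQuasicoherent := by
    exact @QCoh.isQuasicoherent_coproduct _ _ (fun _ : G.I => Coh.structureModule (W : Scheme.{u}))
      (fun _ => SubIdeal.isQuasicoherent_unitMod _)
  let π : A ⟶ F.restrict W.ι := G.π
  have hπ : Epi π := G.epi
  obtain ⟨H, ψ, eH, hH, hcompat⟩ := SubExt.exists_extension_with_map W F A π
  obtain ⟨b⟩ := QProj.free_sections_of_restrict_iso H (eH ≪≫ efree) hW le_rfl
  have : Module.Finite Γ(X, W) Γ(H, W) := .of_basis b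
  have : Module.Free Γ(X, W) Γ(H, W) := .of_basis b
  have hHW : FPOn H W :=
    fpOn_of_affine hW (Module.finitePresentation_of_projective _ _)
  obtain ⟨P, θ, hP, hPfp, hθ⟩ := exists_fp_isoOn H hW.isCompact hHW
  refine ⟨P, θ ≫ ψ, hP, hPfp, ?_⟩
  suffices hsψ : Function.Surjective (ψ.app W) by
    intro y
    obtain ⟨z, rfl⟩ := hsψ y
    obtain ⟨p, rfl⟩ := (hθ W le_rfl).2 z
    exact ⟨p, rfl⟩
  have he : Epi ((Scheme.Modules.restrictFunctor W.ι).map ψ) := by
    rw [← hcompat]
    have : Epi eH.hom := inferInstance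
    exact epi_comp eH.hom π
  have : (H.restrict W.ι).IsQuasicoherent := inferInstance
  have : IsAffine W := hW
  have hs := QCoh.app_surjective_of_epi ((Scheme.Modules.restrictFunctor W.ι).map ψ)
    (isAffineOpen_top (W : Scheme.{u}))
  have hWtop : W.ι ''ᵁ (⊤ : (W : Scheme.{u}).Opens) = W :=
    W.ι.image_top_eq_opensRange.trans W.opensRange_ι
  have : Function.Surjective (ψ.app (W.ι ''ᵁ (⊤ : (W : Scheme.{u}).Opens))) := hs
  rwa [hWtop] at this

/-- Surjectivity on the opens of a cover gives an epimorphism. -/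
theorem epi_of_cover {M N : X.Modules} [M.IsQuasicoherent] [N.IsQuasicoherent] (φ : M ⟶ N)
    (H : ∀ x : X, ∃ W : X.Opens, IsAffineOpen W ∧ x ∈ W ∧ Function.Surjective (φ.app W)) : Epi φ := by
  refine ⟨fun {Z} a b hab => Scheme.Modules.hom_ext _ _ fun O => ?_⟩
  ext y
  have hloc : ∀ x : O, ∃ V : X.Opens, x.1 ∈ V ∧ V ≤ O ∧ Function.Surjective (φ.app V) := by
    intro x
    obtain ⟨W, hW, hxW, hs⟩ := H x.1
    obtain ⟨h, hle, hxh⟩ := hW.exists_basicOpen_le ⟨x.1, x.2⟩ hxW
    refine ⟨_, hxh, hle, fun y => ?_⟩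
    obtain ⟨n, t, ht⟩ := (QCoh.isLocalizingAt N hW h).surj y
    obtain ⟨z, rfl⟩ := hs t
    have hu : IsUnit (rres (X.basicOpen_le h) h ^ n) :=
      IsUnit.pow n (RingedSpace.isUnit_res_basicOpen _ h)
    obtain ⟨w, hw⟩ := hu
    refine ⟨(↑w⁻¹ : Γ(X, X.basicOpen h)) • res M (X.basicOpen_le h) z, ?_⟩
    rw [Scheme.Modules.Hom.app_smul, app_res, ht, smul_smul, ← hw, w.inv_mul, one_smul]
  choose V hxV hVO hs using hloc
  refine eq_of_locally_eq Z hVO (fun x hx => Opens.mem_iSup.mpr ⟨⟨x, hx⟩, hxV _⟩) _ _ fun i => ?_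
  obtain ⟨x, hx⟩ := hs i (res N (hVO i) y)
  rw [← app_res, ← app_res, ← hx, ← ConcreteCategory.comp_apply, ← Scheme.Modules.Hom.comp_app, hab]
  rfl

section Kill

variable {P F : X.Modules} (φ : P ⟶ F) (S : StalkSub (kernel φ))

/-- The part of the kernel cut out by `S`, inside `P`. -/
def killMap : sub S ⟶ P := incl S ≫ kernel.ι φ

/-- The quotient of `P` by the part of the kernel cut out by `S`. -/
def kill : X.Modules := cokernel (killMap φ S)

/-- The projection. -/
def killπ : P ⟶ kill φ S := cokernel.π (killMap φ S)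

instance : Epi (killπ φ S) := inferInstanceAs (Epi (cokernel.π (killMap φ S)))

/-- The induced map to `F`. -/
def killDesc : kill φ S ⟶ F :=
  cokernel.desc (killMap φ S) φ (by rw [killMap, Category.assoc, kernel.condition, comp_zero])

@[reassoc (attr := simp)]
lemma killπ_desc : killπ φ S ≫ killDesc φ S = φ := cokernel.π_desc _ _ _

lemma killπ_incl {O : X.Opens} (y : Γ(sub S, O)) :
    (killπ φ S).app O ((killMap φ S).app O y) = 0 := by
  have h : killMap φ S ≫ killπ φ S = 0 := cokernel.condition _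
  rw [← ConcreteCategory.comp_apply, ← Scheme.Modules.Hom.comp_app, h]
  rfl

variable [P.IsQuasicoherent] [F.IsQuasicoherent] (hS : FTOn S ⊤)

include hS

theorem isQuasicoherent_kill : (kill φ S).IsQuasicoherent := by
  have := isQuasicoherent_sub hS
  exact QCoh.isQuasicoherent_cokernel (killMap φ S)

theorem killπ_surjective {V : X.Opens} (hV : IsAffineOpen V) :
    Function.Surjective ((killπ φ S).app V) := by
  have := isQuasicoherent_kill φ S hS
  exact QCoh.app_surjective_of_epi (killπ φ S) hV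

theorem exists_of_killπ_eq_zero {V : X.Opens} (p : Γ(P, V)) (hp : (killπ φ S).app V p = 0) :
    ∃ y, (killMap φ S).app V y = p := by
  let K := ShortComplex.mk (killMap φ S) (killπ φ S) (cokernel.condition _)
  have hK : K.Exact := K.exact_of_g_is_cokernel (cokernelIsCokernel _)
  have : Mono K.f := inferInstanceAs (Mono (incl S ≫ kernel.ι φ))
  exact QCoh.exists_app_eq_of_app_eq_zero K hK V p hp

theorem fpOn_kill (hP : FPOn P ⊤) : FPOn (kill φ S) ⊤ := by
  intro V hV hVle
  have := hP V hV hVle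
  have := isQuasicoherent_sub hS
  have hft := (QCoh.isFiniteType_iff (sub S)).mp (isFiniteType_sub hS) V hV
  refine Module.finitePresentation_of_surjective (appLin (killπ φ S) V)
    (killπ_surjective φ S hS hV) ?_
  have : LinearMap.ker (appLin (killπ φ S) V) = LinearMap.range (appLin (killMap φ S) V) := by
    refine le_antisymm (fun p hp => exists_of_killπ_eq_zero φ S hS p hp) ?_
    rintro _ ⟨y, rfl⟩
    exact killπ_incl φ S y
  rw [this]
  exact Module.Finite.iff_fg.mp (Module.Finite.range _)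

end Kill

/-- Finite type modules are quotients of finitely presented ones, isomorphically over an open of
finite presentation. -/
theorem exists_fp_epi [CompactSpace X] [QuasiSeparatedSpace X] (F : X.Modules) [F.IsQuasicoherent]
    (hFT : SheafOfModules.IsFiniteType.{u} F) {U : X.Opens} (hU : IsCompact (U : Set X))
    (hF : FPOn F U) :
    ∃ (G : X.Modules) (φ : G ⟶ F), G.IsQuasicoherent ∧ FPOn G ⊤ ∧ Epi φ ∧ IsoOn φ U := by
  classical
  obtain ⟨σ, hσ⟩ := exists_affine_finite_cover X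
  obtain ⟨G₁, θ₁, hG₁, hG₁fp, hθ₁⟩ := exists_fp_isoOn F hU hF
  suffices H : ∀ τ : Finset X.affineOpens, ∃ (P : X.Modules) (φ : P ⟶ F), P.IsQuasicoherent ∧
      FPOn P ⊤ ∧ ∀ W ∈ τ, Function.Surjective (φ.app W) by
    obtain ⟨P, φ, hP, hPfp, hs⟩ := H σ
    have hepi : Epi φ := epi_of_cover φ fun x => by
      obtain ⟨W, hW, hx⟩ := hσ x
      exact ⟨W, W.2, hx, hs W hW⟩
    have hK : (kernel φ).IsQuasicoherent := QCoh.isQuasicoherent_kernel φ
    have hKU : FTOn (fun _ => ⊤ : StalkSub (kernel φ)) U := by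
      intro x hx
      obtain ⟨V, hV, hxV, hVU⟩ := exists_isAffineOpen_mem_and_subset hx
      have := hF V hV hVU
      have := hPfp V hV le_top
      have hsurj : Function.Surjective (appLin φ V) := QCoh.app_surjective_of_epi φ hV
      have hker := Module.FinitePresentation.fg_ker (appLin φ V) hsurj
      have hrange : LinearMap.range (appLin (kernel.ι φ) V) = LinearMap.ker (appLin φ V) := by
        refine le_antisymm ?_ fun p hp => ?_
        · rintro _ ⟨y, rfl⟩
          exact QCoh.app_app_eq_zero (ShortComplex.mk (kernel.ι φ) φ (kernel.condition φ)) V y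
        · exact QCoh.exists_app_eq_of_app_eq_zero (ShortComplex.mk (kernel.ι φ) φ (kernel.condition φ))
            (ShortComplex.exact_of_f_is_kernel _ (kernelIsKernel φ)) V p hp
      have : Module.Finite Γ(X, V) (LinearMap.range (appLin (kernel.ι φ) V)) :=
        Module.Finite.iff_fg.mpr (hrange ▸ hker)
      have : Module.Finite Γ(X, V) Γ(kernel φ, V) :=
        Module.Finite.equiv (LinearEquiv.ofInjective (appLin (kernel.ι φ) V)
          (QCoh.app_injective_of_mono (kernel.ι φ) V)).symm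
      obtain ⟨n, s, hs⟩ := Module.Finite.exists_fin (R := Γ(X, V)) (M := Γ(kernel φ, V))
      refine ⟨V, hV, hxV, hVU, Finset.univ.image s, fun y hy => ?_⟩
      rw [Finset.coe_image, Finset.coe_univ, Set.image_univ, spanGerm, ← Set.range_comp]
      exact (QRank.span_germ_eq_top (kernel φ) hV hs hy).symm
    obtain ⟨S, hS, h1, -⟩ := exists_global hU hKU
    have := isQuasicoherent_kill φ S hS
    refine ⟨kill φ S, killDesc φ S, this, fpOn_kill φ S hS hPfp,
      epi_of_epi_fac (killπ_desc φ S), isoOn_of_local _ fun x hx => ?_⟩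
    obtain ⟨V, hV, hxV, hVU⟩ := exists_isAffineOpen_mem_and_subset hx
    refine ⟨V, hV, hxV, ?_, fun y => ?_⟩
    · rw [injective_iff_map_eq_zero]
      intro z hz
      obtain ⟨p, rfl⟩ := killπ_surjective φ S hS hV z
      have hp : φ.app V p = 0 := by
        rw [← killπ_desc φ S, Scheme.Modules.Hom.comp_app]
        exact hz
      obtain ⟨k, hk⟩ := QCoh.exists_app_eq_of_app_eq_zero
        (ShortComplex.mk (kernel.ι φ) φ (kernel.condition φ))
        (ShortComplex.exact_of_f_is_kernel _ (kernelIsKernel φ)) V p hp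
      obtain ⟨y, rfl⟩ := (mem_range_incl S k).mpr fun w hw => by rw [h1 w (hVU hw)]; trivial
      rw [← hk]
      exact killπ_incl φ S y
    · obtain ⟨p, hp⟩ := QCoh.app_surjective_of_epi φ hV y
      refine ⟨(killπ φ S).app V p, ?_⟩
      rw [← ConcreteCategory.comp_apply, ← Scheme.Modules.Hom.comp_app, killπ_desc]
      exact hp
  intro τ
  induction τ using Finset.induction with
  | empty => exact ⟨G₁, θ₁, hG₁, hG₁fp, by simp⟩
  | insert W τ _ ih =>
    obtain ⟨P, φ, hP, hPfp, hs⟩ := ih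
    obtain ⟨Q, ψ, hQ, hQfp, hψ⟩ := exists_fp_surjective_on F W.2
      ((QCoh.isFiniteType_iff F).mp hFT W W.2)
    refine ⟨P ⊞ Q, biprod.desc φ ψ, isQuasicoherent_biprod P Q, fpOn_biprod hPfp hQfp,
      fun V hV y => ?_⟩
    rcases Finset.mem_insert.mp hV with rfl | hV
    · obtain ⟨q, rfl⟩ := hψ y
      refine ⟨(biprod.inr : Q ⟶ P ⊞ Q).app V q, ?_⟩
      rw [← ConcreteCategory.comp_apply, ← Scheme.Modules.Hom.comp_app, biprod.inr_desc]
    · obtain ⟨p, rfl⟩ := hs V hV y
      refine ⟨(biprod.inl : P ⟶ P ⊞ Q).app V p, ?_⟩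
      rw [← ConcreteCategory.comp_apply, ← Scheme.Modules.Hom.comp_app, biprod.inl_desc]

theorem isFP_of_fpOn {M : X.Modules} [M.IsQuasicoherent] (h : FPOn M ⊤) : CohB1.IsFP M :=
  (QFP.isFP_iff M).mpr fun V hV => h V hV le_top

theorem fpOn_of_restrict {F : X.Modules} [F.IsQuasicoherent] {U : X.Opens}
    (h : CohB1.IsFP (F.restrict U.ι)) : FPOn F U := by
  intro V hV hVU
  let V₀ : (U : Scheme.{u}).Opens := U.ι ⁻¹ᵁ V
  have hV₀ : IsAffineOpen V₀ := hV.preimage_of_isOpenImmersion U.ι (by rwa [U.opensRange_ι])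
  have h0 := QFP.finitePresentation_sections_of_isFP (F.restrict U.ι) hV₀
  have heq : U.ι ''ᵁ V₀ = V := by
    rw [U.ι.image_preimage_eq_opensRange_inf, U.opensRange_ι]
    exact inf_eq_right.mpr hVU
  rw [← heq]
  let e : Γ(F.restrict U.ι, V₀) ≃+ Γ(F, U.ι ''ᵁ V₀) := (F.restrictAppIso U.ι V₀).addCommGroupIsoToAddEquiv
  let _ : Module Γ(X, U.ι ''ᵁ V₀) Γ(F.restrict U.ι, V₀) :=
    inferInstanceAs (Module Γ(X, U.ι ''ᵁ V₀) Γ(F, U.ι ''ᵁ V₀))
  exact QTilde.finitePresentation_of_ringEquiv (M := Γ(F.restrict U.ι, V₀))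
    (U.ι.appIso V₀).commRingCatIsoToRingEquiv fun r x => by
      change (U.ι.appIso V₀).hom r • x = _
      refine (QCoh.restrict_smul U.ι F _ x).trans ?_
      rw [Iso.hom_inv_id_apply]
      rfl

/-- The statement with finite presentation stated on the open subscheme. -/
theorem exists_isFP_epi_isIso [CompactSpace X] [QuasiSeparatedSpace X] (F : X.Modules)
    [F.IsQuasicoherent] (hFT : SheafOfModules.IsFiniteType.{u} F) {U : X.Opens}
    (hU : IsCompact (U : Set X)) (hF : CohB1.IsFP (F.restrict U.ι)) :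
    ∃ (G : X.Modules) (φ : G ⟶ F), CohB1.IsFP G ∧ Epi φ ∧
      IsIso ((Scheme.Modules.restrictFunctor U.ι).map φ) := by
  obtain ⟨G, φ, hG, hfp, hepi, hiso⟩ := exists_fp_epi F hFT hU (fpOn_of_restrict hF)
  refine ⟨G, φ, isFP_of_fpOn hfp, hepi, Scheme.Modules.Hom.isIso_iff_isIso_app.mpr fun O => ?_⟩
  exact (ConcreteCategory.isIso_iff_bijective _).mpr
    (hiso (U.ι ''ᵁ O) ((U.ι.image_le_opensRange O).trans U.opensRange_ι.le))

section Colim

variable {P F : X.Modules} (φ : P ⟶ F)

/-- Finitely generated families in the kernel. -/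
abbrev Index : Type u := {S : StalkSub (kernel φ) // FTOn S ⊤}

variable [P.IsQuasicoherent] [F.IsQuasicoherent]

theorem isDirected_index : IsDirected (Index φ) (· ≤ ·) where
  directed := by
    classical
    have hK : (kernel φ).IsQuasicoherent := QCoh.isQuasicoherent_kernel φ
    rintro ⟨S, hS⟩ ⟨S', hS'⟩
    refine ⟨⟨S ⊔ S', fun x _ => ?_⟩, (le_sup_left : S ≤ S ⊔ S'), (le_sup_right : S' ≤ S ⊔ S')⟩
    obtain ⟨V, hV, hxV, -⟩ := exists_isAffineOpen_mem_and_subset (X := X) (Opens.mem_top x)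
    obtain ⟨T, hT⟩ := exists_genBy hS hV le_top
    obtain ⟨T', hT'⟩ := exists_genBy hS' hV le_top
    refine ⟨V, hV, hxV, le_top, T ∪ T', fun y hy => ?_⟩
    rw [Pi.sup_apply, hT y hy, hT' y hy, spanGerm, spanGerm, spanGerm, Finset.coe_union,
      Set.image_union, Submodule.span_union]

instance : Nonempty (Index φ) := by
  refine ⟨⟨fun _ => ⊥, fun x _ => ?_⟩⟩
  obtain ⟨V, hV, hxV, -⟩ := exists_isAffineOpen_mem_and_subset (X := X) (Opens.mem_top x)
  exact ⟨V, hV, hxV, le_top, ∅, fun y hy => by simp [spanGerm]⟩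

omit [P.IsQuasicoherent] [F.IsQuasicoherent] in
lemma killMap_comp_killπ {S S' : StalkSub (kernel φ)} (h : S ≤ S') :
    killMap φ S ≫ killπ φ S' = 0 := by
  refine Scheme.Modules.hom_ext _ _ fun O => ?_
  ext y
  obtain ⟨y', hy'⟩ := (mem_range_incl S' ((incl S).app O y)).mpr fun w hw =>
    h w ((mem_range_incl S _).mp ⟨y, rfl⟩ w hw)
  refine Eq.trans (congrArg (fun z => (killπ φ S').app O ((kernel.ι φ).app O z)) hy'.symm) ?_
  exact killπ_incl φ S' y'

/-- The system of quotients. -/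
def diag : Index φ ⥤ X.Modules where
  obj S := kill φ S.1
  map {S S'} h := cokernel.desc (killMap φ S.1) (killπ φ S'.1) (killMap_comp_killπ φ (leOfHom h))
  map_id S := by
    apply coequalizer.hom_ext
    change killπ φ S.1 ≫ _ = killπ φ S.1 ≫ _
    exact (cokernel.π_desc _ _ _).trans (Category.comp_id _).symm
  map_comp {S S' S''} f g := by
    apply coequalizer.hom_ext
    simp only [killπ, kill, cokernel.π_desc, cokernel.π_desc_assoc]

omit [P.IsQuasicoherent] [F.IsQuasicoherent] in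
lemma killπ_map {S S' : Index φ} (h : S ⟶ S') : killπ φ S.1 ≫ (diag φ).map h = killπ φ S'.1 :=
  cokernel.π_desc _ _ _

/-- The comparison with `F`. -/
def toConst : diag φ ⟶ (Functor.const (Index φ)).obj F where
  app S := killDesc φ S.1
  naturality S S' h := by
    refine (cancel_epi (killπ φ S.1)).mp ?_
    change killπ φ S.1 ≫ (diag φ).map h ≫ killDesc φ S'.1 = killπ φ S.1 ≫ killDesc φ S.1 ≫ 𝟙 F
    rw [← Category.assoc, killπ_map]
    erw [killπ_desc, Category.comp_id, killπ_desc]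

theorem nonempty_isColimit [CompactSpace X] [QuasiSeparatedSpace X] [Epi φ] :
    Nonempty (IsColimit (Cocone.mk F (toConst φ))) := by
  obtain ⟨S₀⟩ := (inferInstance : Nonempty (Index φ))
  have := isDirected_index φ
  have hK : (kernel φ).IsQuasicoherent := QCoh.isQuasicoherent_kernel φ
  have hf : ∀ (s : Cocone (diag φ)) (S : Index φ),
      killπ φ S.1 ≫ s.ι.app S = killπ φ S₀.1 ≫ s.ι.app S₀ := by
    intro s S
    obtain ⟨S'', h1, h2⟩ := directed_of (· ≤ ·) S S₀
    have key : ∀ (T : Index φ) (h : T ≤ S''), killπ φ T.1 ≫ s.ι.app T = killπ φ S''.1 ≫ s.ι.app S'' := by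
      intro T h
      refine (congrArg (fun z => killπ φ T.1 ≫ z) (s.w (homOfLE h))).symm.trans ?_
      refine (Category.assoc _ _ _).symm.trans ?_
      exact congrArg (fun z => z ≫ s.ι.app S'') (killπ_map φ (homOfLE h))
    exact (key S h1).trans (key S₀ h2).symm
  have hzero : ∀ s : Cocone (diag φ), kernel.ι φ ≫ killπ φ S₀.1 ≫ s.ι.app S₀ = 0 := by
    intro s
    refine Scheme.Modules.hom_ext _ _ fun O => ?_
    ext z
    have hloc : ∀ x : O, ∃ V : X.Opens, x.1 ∈ V ∧ V ≤ O ∧ IsAffineOpen V := by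
      intro x
      obtain ⟨V, hV, hxV, hVO⟩ := exists_isAffineOpen_mem_and_subset x.2
      exact ⟨V, hxV, hVO, hV⟩
    choose V hxV hVO hV using hloc
    refine eq_zero_of_locally_eq_zero s.pt hVO
      (fun x hx => Opens.mem_iSup.mpr ⟨⟨x, hx⟩, hxV _⟩) _ fun i => ?_
    obtain ⟨S, hS, y, hy⟩ :=
      SubExt.exists_sub_through_section (kernel φ) (V i) (hV i) (res (kernel φ) (hVO i) z)
    rw [← app_res, ← hy]
    change ((killπ φ S₀.1 ≫ s.ι.app S₀)).app (V i) ((killMap φ S).app (V i) y) = 0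
    rw [← hf s ⟨S, hS⟩]
    refine Eq.trans ?_ (map_zero ((s.ι.app ⟨S, hS⟩).app (V i)).hom)
    exact congrArg _ (killπ_incl φ S y)
  refine ⟨{ desc := fun s => Abelian.epiDesc φ (killπ φ S₀.1 ≫ s.ι.app S₀) (hzero s),
            fac := fun s S => ?_, uniq := fun s m hm => ?_ }⟩
  · refine (cancel_epi (killπ φ S.1)).mp ?_
    change killπ φ S.1 ≫ killDesc φ S.1 ≫ _ = _
    rw [killπ_desc_assoc, Abelian.comp_epiDesc]
    exact (hf s S).symm
  · refine (cancel_epi φ).mp ?_
    refine Eq.trans ?_ (Abelian.comp_epiDesc φ (killπ φ S₀.1 ≫ s.ι.app S₀) (hzero s)).symm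
    refine Eq.trans ?_ (congrArg (fun z => killπ φ S₀.1 ≫ z) (hm S₀))
    exact (killπ_desc_assoc φ S₀.1 m).symm

end Colim

/-- Finite type modules are directed colimits of finitely presented ones, with surjective
transition maps. -/
theorem exists_colimit [CompactSpace X] [QuasiSeparatedSpace X] (F : X.Modules) [F.IsQuasicoherent]
    (hFT : SheafOfModules.IsFiniteType.{u} F) :
    ∃ (J : Type u) (_ : PartialOrder J) (_ : IsDirected J (· ≤ ·)) (_ : Nonempty J) (D : J ⥤ X.Modules)
      (ι : D ⟶ (Functor.const J).obj F), Nonempty (IsColimit (Cocone.mk F ι)) ∧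
      (∀ j, CohB1.IsFP (D.obj j)) ∧ ∀ (j j' : J) (h : j ⟶ j'), Epi (D.map h) := by
  obtain ⟨P, φ, hP, hfp, hepi, -⟩ := exists_fp_epi F hFT (U := ⊥) (by simp) fun V hV hle => by
    have hV0 : V = ⊥ := le_bot_iff.mp hle
    subst hV0
    have : Subsingleton Γ(X, (⊥ : X.Opens)) :=
      CommRingCat.subsingleton_of_isTerminal (X.sheaf.isTerminalOfEqEmpty rfl)
    have : Subsingleton Γ(F, (⊥ : X.Opens)) := Module.subsingleton Γ(X, (⊥ : X.Opens)) _
    exact Module.finitePresentation_of_projective _ _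
  refine ⟨Index φ, inferInstance, isDirected_index φ, inferInstance, diag φ, toConst φ,
    nonempty_isColimit φ, fun S => ?_, fun S S' h => ?_⟩
  · have := isQuasicoherent_kill φ S.1 S.2
    exact (show CohB1.IsFP (kill φ S.1) from isFP_of_fpOn (fpOn_kill φ S.1 S.2 hfp))
  · have he : Epi (killπ φ S'.1) := inferInstance
    exact @epi_of_epi_fac _ _ _ _ _ (killπ φ S.1) ((diag φ).map h) _ he (killπ_map φ h)

end Groth.Agent.Props.QApproxMain

end
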