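import Groth.Agent.QCoh.FiniteType
import Mathlib.RingTheory.LocalProperties.FinitePresentation
import Mathlib.Algebra.Category.ModuleCat.Abelian
import Mathlib.Algebra.Homology.ShortComplex.Exact
import Mathlib.Algebra.Homology.ShortComplex.ModuleCat

/-!
# Quasi-coherent modules of finite presentation
-/

universe u

open CategoryTheory Limits AlgebraicGeometry Opposite TopologicalSpace

noncomputable section

namespace Groth.Agent.Props.QFP

open Groth.Agent.QCoh

variable {X : Scheme.{u}}

/-- The sections linear equivalence of an isomorphism. -/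
def topEquivOfIso {R : CommRingCat.{u}} {M N : (Spec R).Modules} (e : M ≅ N) :
    Γ(M, ⊤) ≃ₗ[R] Γ(N, ⊤) :=
  ((moduleSpecΓFunctor (R := R)).mapIso e).toLinearEquiv

/-- A finite presentation gives finitely presented global sections. -/
theorem finitePresentation_of_presentation {R : CommRingCat.{u}} (N : (Spec R).Modules)
    [N.IsQuasicoherent] (P : N.Presentation) (hg : Finite P.generators.I)
    (hr : Finite P.relations.I) : Module.FinitePresentation R Γ(N, ⊤) := by
  let F : (Spec R).Modules := SheafOfModules.free.{u} P.generators.I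
  let p : F ⟶ N := P.generators.π
  have hp : Epi p := P.generators.epi
  have hFq : F.IsQuasicoherent := QCoh.isQuasicoherent_of_iso (tildeFinsupp P.generators.I)
  let S := ShortComplex.mk (kernel.ι p) p (kernel.condition p)
  have hS : S.Exact := S.exact_of_f_is_kernel (kernelIsKernel p)
  have : Mono S.f := inferInstanceAs (Mono (kernel.ι p))
  have : S.X₂.IsQuasicoherent := hFq
  have : S.X₃.IsQuasicoherent := ‹N.IsQuasicoherent›
  have : (kernel p).IsQuasicoherent := QCoh.isQuasicoherent_X₁ (S := S) hS
  let K : (Spec R).Modules :=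
    (kernel (C := SheafOfModules.{u} (Spec R).ringCatSheaf) P.generators.π)
  have hK : K.IsQuasicoherent := this
  have : Finite (P.relations : K.GeneratingSections).I := hr
  have hKfin : Module.Finite R Γ(K, ⊤) := @finite_of_generators R K hK P.relations this
  let Γf := moduleSpecΓFunctor (R := R)
  have : Γf.IsRightAdjoint := ⟨_, ⟨tilde.adjunction⟩⟩
  have : Mono (Γf.map S.f) := inferInstance
  have hΓ : (S.map Γf).Exact := hS.map_of_mono_of_preservesKernel Γf inferInstance inferInstance
  have hfe := (ShortComplex.ShortExact.moduleCat_exact_iff_function_exact _).mp hΓ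
  have hsurj : Function.Surjective (Γf.map p).hom := app_surjective_of_epi p (isAffineOpen_top _)
  let e : Γ(F, ⊤) ≃ₗ[R] (P.generators.I →₀ R) :=
    (topEquivOfIso (tildeFinsupp P.generators.I)).symm ≪≫ₗ
      ((tilde.isoTop (ModuleCat.of R (P.generators.I →₀ R))).toLinearEquiv).symm
  have : Module.FinitePresentation R Γ(F, ⊤) := Module.FinitePresentation.of_equiv e.symm
  have : Module.FinitePresentation R (Γf.obj F) := this
  suffices h : Module.FinitePresentation R (Γf.obj N) from h
  refine Module.finitePresentation_of_surjective (R := R) (M := Γf.obj F) (N := Γf.obj N)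
    (Γf.map p).hom hsurj ?_
  have hker : (Γf.map p).hom.ker = (Γf.map (kernel.ι p)).hom.range := LinearMap.exact_iff.mp hfe
  rw [hker]
  have : Module.Finite R (Γf.obj (kernel p)) := hKfin
  exact Module.Finite.iff_fg.mp (Module.Finite.range (Γf.map (kernel.ι p)).hom)

/-- Finitely presented global sections give a finite presentation. -/
theorem exists_presentation_of_finitePresentation {R : CommRingCat.{u}} (N : (Spec R).Modules)
    [N.IsQuasicoherent] (h : Module.FinitePresentation R Γ(N, ⊤)) :
    ∃ P : N.Presentation, Finite P.generators.I ∧ Finite P.relations.I := by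
  let M₀ : ModuleCat.{u} R := (moduleSpecΓFunctor (R := R)).obj N
  have : Module.FinitePresentation R M₀ := h
  obtain ⟨s, hs, hk⟩ := Module.FinitePresentation.out (R := R) (M := M₀)
  obtain ⟨t, ht⟩ := hk
  have := Scheme.Modules.isIso_fromTildeΓ_of_isQuasicoherent N
  refine ⟨presentationOfIso (asIso N.fromTildeΓ)
    (presentationTilde.{u} M₀ (s : Set M₀) hs (t : Set (↥s →₀ R)) ?_), ?_, ?_⟩
  · exact ht
  · exact inferInstanceAs (Finite (s : Set M₀))
  · exact inferInstanceAs (Finite (t : Set (↥s →₀ R)))

/-- Sections over an affine open contained in an open with a finite presentation. -/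
theorem finitePresentation_sections_of_presentation (M : X.Modules) [M.IsQuasicoherent]
    {W : X.Opens} (P : (M.restrict W.ι).Presentation) (hg : Finite P.generators.I)
    (hr : Finite P.relations.I) {U : X.Opens} (hU : IsAffineOpen U) (hUW : U ≤ W) :
    Module.FinitePresentation Γ(X, U) Γ(M, U) := by
  have := hU.isOpenImmersion_fromSpec
  let t := IsOpenImmersion.lift W.ι hU.fromSpec
    (by rw [hU.range_fromSpec, Scheme.Opens.range_ι]; exact hUW)
  have : IsOpenImmersion t := by
    have : IsOpenImmersion (t ≫ W.ι) := by rw [IsOpenImmersion.lift_fac]; assumption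
    exact IsOpenImmersion.of_comp t W.ι
  let P' : (toSpec hU M).Presentation :=
    presentationOfIso (((Scheme.Modules.restrictFunctorComp t W.ι).symm ≪≫
      Scheme.Modules.restrictFunctorCongr (IsOpenImmersion.lift_fac _ _ _)).app M)
      (Scheme.Modules.presentationRestrict t P)
  have : (toSpec hU M).IsQuasicoherent := Scheme.Modules.isQuasicoherent_restrictFunctor _ M
  have := finitePresentation_of_presentation (toSpec hU M) P' hg hr
  exact Module.FinitePresentation.of_equiv (toSpecTopLinearEquiv hU M)

/-- Finite presentation of sections over affine opens is local. -/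
theorem finitePresentation_sections_of_local (M : X.Modules) [M.IsQuasicoherent] {U : X.Opens}
    (hU : IsAffineOpen U)
    (H : ∀ x ∈ U, ∃ g : Γ(X, U), x ∈ X.basicOpen g ∧
      Module.FinitePresentation Γ(X, X.basicOpen g) Γ(M, X.basicOpen g)) :
    Module.FinitePresentation Γ(X, U) Γ(M, U) := by
  let s : Set Γ(X, U) :=
    {g | Module.FinitePresentation Γ(X, X.basicOpen g) Γ(M, X.basicOpen g)}
  have hs : Ideal.span s = ⊤ := by
    rw [← hU.self_le_iSup_basicOpen_iff]
    intro x hx
    obtain ⟨g, hxg, hg⟩ := H x hx
    exact Opens.mem_iSup.mpr ⟨⟨g, hg⟩, hxg⟩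
  let _ (g : s) : Module Γ(X, U) Γ(M, X.basicOpen g.1) :=
    Module.compHom _ (X.presheaf.map (homOfLE (X.basicOpen_le g.1)).op).hom
  have (g : s) : IsScalarTower Γ(X, U) Γ(X, X.basicOpen g.1) Γ(M, X.basicOpen g.1) :=
    IsScalarTower.of_algebraMap_smul fun r x ↦ rfl
  let φ (g : s) : Γ(M, U) →ₗ[Γ(X, U)] Γ(M, X.basicOpen g.1) :=
    { toFun := res M (X.basicOpen_le g.1)
      map_add' := map_add _
      map_smul' := fun r x ↦ res_smul M _ r x }
  have (g : s) := hU.isLocalization_basicOpen g.1
  have (g : s) : IsLocalizedModule (Submonoid.powers g.1) (φ g) := by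
    refine IsLocalizedModule.Away.mk_of_addCommGroup ?_ ?_ ?_
    · rw [Module.End.isUnit_iff]
      have hu : IsUnit (rres (X.basicOpen_le g.1) g.1) :=
        RingedSpace.isUnit_res_basicOpen _ g.1
      exact hu.smul_bijective
    · intro x
      obtain ⟨n, t, ht⟩ := (isLocalizingAt M hU g.1).surj x
      refine ⟨n, t, ?_⟩
      change (rres (X.basicOpen_le g.1) (g.1 ^ n)) • x = res M _ t
      rw [ht, map_pow]
    · intro x hx
      exact (isLocalizingAt M hU g.1).eq_zero x hx
  exact Module.FinitePresentation.of_localizationSpan' s hs φ fun g ↦ g.2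

/-- Finitely presented modules have finitely presented sections on affine opens. -/
theorem finitePresentation_sections_of_isFP (M : X.Modules)
    [SheafOfModules.IsFinitePresentation.{u} M] {U : X.Opens} (hU : IsAffineOpen U) :
    Module.FinitePresentation Γ(X, U) Γ(M, U) := by
  have : M.IsQuasicoherent := inferInstance
  obtain ⟨σ, hσ⟩ := SheafOfModules.IsFinitePresentation.exists_quasicoherentData.{u} M
  refine finitePresentation_sections_of_local M hU fun x hx ↦ ?_
  have hc := (Opens.coversTop_iff (U := σ.X)).mp σ.coversTop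
  obtain ⟨i, hi⟩ := Opens.mem_iSup.mp (hc.ge (trivial : x ∈ (⊤ : X.Opens)))
  obtain ⟨g, hgle, hxg⟩ := hU.exists_basicOpen_le ⟨x, hi⟩ hx
  let V : X.Opens := σ.X i
  let E := Scheme.Modules.overEquiv V
  let F : SheafOfModules.{u} (X.ringCatSheaf.over V) ⥤
      SheafOfModules.{u} V.toScheme.ringCatSheaf := E.functor
  have : PreservesColimitsOfSize.{u, u} F := E.toAdjunction.leftAdjoint_preservesColimits
  let Q : (M.over V).Presentation := σ.presentation i
  let P : (M.restrict V.ι).Presentation :=
    presentationOfIso ((Scheme.Modules.overFunctorEquiv V).app M)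
      (Q.map F (V.sheafOfModulesEquivOverUnit X.ringCatSheaf).symm)
  have hf := hσ.isFinite_presentation i
  exact ⟨g, hxg, finitePresentation_sections_of_presentation M P
    hf.isFiniteType_generators.finite hf.isFiniteType_relations.finite (hU.basicOpen g) hgle⟩

/-- Finite presentation can be checked on an affine cover. -/
theorem isFP_of_forall_exists (M : X.Modules) [M.IsQuasicoherent]
    (H : ∀ x : X, ∃ U : X.Opens, IsAffineOpen U ∧ x ∈ U ∧
      Module.FinitePresentation Γ(X, U) Γ(M, U)) :
    SheafOfModules.IsFinitePresentation.{u} M := by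
  choose U hU hxU hfp using H
  have hP (x : X) : ∃ P : (M.over (U x)).Presentation,
      Finite P.generators.I ∧ Finite P.relations.I := by
    have := hfp x
    have : (toSpec (hU x) M).IsQuasicoherent :=
      Scheme.Modules.isQuasicoherent_restrictFunctor _ M
    have h' : Module.FinitePresentation Γ(X, U x) Γ(toSpec (hU x) M, ⊤) :=
      Module.FinitePresentation.of_equiv (toSpecTopLinearEquiv (hU x) M).symm
    obtain ⟨P, hg, hr⟩ := exists_presentation_of_finitePresentation (toSpec (hU x) M) h'
    have := (hU x).isOpenImmersion_fromSpec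
    let e : Scheme.Modules.restrictFunctor (hU x).fromSpec ⋙ Scheme.Modules.restrictFunctor
        (hU x).isoSpec.hom ≅ Scheme.Modules.restrictFunctor (U x).ι :=
      (Scheme.Modules.restrictFunctorComp _ _).symm ≪≫
        Scheme.Modules.restrictFunctorCongr (hU x).isoSpec_hom_fromSpec
    exact ⟨presentationOver M (U x) (presentationOfIso (e.app M)
      (Scheme.Modules.presentationRestrict (hU x).isoSpec.hom P)), hg, hr⟩
  choose P hg hr using hP
  let σ : SheafOfModules.QuasicoherentData.{u} (R := X.ringCatSheaf) M :=
    { I := X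
      X := U
      coversTop := (Opens.coversTop_iff (U := U)).mpr (top_le_iff.mp fun x _ ↦
        Opens.mem_iSup.mpr ⟨x, hxU x⟩)
      presentation := P }
  have hσ : SheafOfModules.QuasicoherentData.IsFinitePresentation.{u} σ := by
    constructor
    intro x
    have h₁ : (P x).generators.IsFiniteType := { finite := hg x }
    have h₂ : (P x).relations.IsFiniteType := { finite := hr x }
    exact { isFiniteType_generators := h₁, isFiniteType_relations := h₂ }
  constructor
  exact ⟨σ, hσ⟩

/-- Finite presentation, affine-locally. -/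
theorem isFP_iff (M : X.Modules) [M.IsQuasicoherent] :
    SheafOfModules.IsFinitePresentation.{u} M ↔
      ∀ U : X.Opens, IsAffineOpen U → Module.FinitePresentation Γ(X, U) Γ(M, U) := by
  refine ⟨fun _ U hU ↦ finitePresentation_sections_of_isFP M hU, fun H ↦ ?_⟩
  refine isFP_of_forall_exists M fun x ↦ ?_
  obtain ⟨_, ⟨U, hU, rfl⟩, hxU, -⟩ := X.isBasis_affineOpens.exists_subset_of_mem_open
    (Set.mem_univ x) isOpen_univ
  exact ⟨U, hU, hxU, H U hU⟩

end Groth.Agent.Props.QFP

end
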