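import Groth.Agent.QCoh.Basic
import Groth.Agent.PullStalk.Sky
import Mathlib.RingTheory.Spectrum.Prime.FreeLocus

/-!
# Stalks and principal restrictions of quasi-coherent modules as localizations
-/

universe u

open CategoryTheory Limits AlgebraicGeometry Opposite TopologicalSpace

noncomputable section

namespace Groth.Agent.Props.QStalk

open Groth.Agent.QCoh Groth.Agent.PullStalk.Sky

variable {X : Scheme.{u}} (M : X.Modules) {U : X.Opens}

/-- Sections over `D(g)` as a module over the sections of `O` over `U`. -/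
instance moduleBasicOpen (g : Γ(X, U)) : Module Γ(X, U) Γ(M, X.basicOpen g) :=
  Module.compHom _ (X.presheaf.map (homOfLE (X.basicOpen_le g)).op).hom

instance isScalarTowerBasicOpen (g : Γ(X, U)) :
    IsScalarTower Γ(X, U) Γ(X, X.basicOpen g) Γ(M, X.basicOpen g) :=
  IsScalarTower.of_algebraMap_smul fun _ _ ↦ rfl

/-- The restriction to a principal open, as a linear map. -/
def resLin (g : Γ(X, U)) : Γ(M, U) →ₗ[Γ(X, U)] Γ(M, X.basicOpen g) where
  toFun := res M (X.basicOpen_le g)
  map_add' := map_add _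
  map_smul' r x := res_smul M _ r x

instance isLocalizedModule_resLin [M.IsQuasicoherent] [hU : Fact (IsAffineOpen U)] (g : Γ(X, U)) :
    IsLocalizedModule (Submonoid.powers g) (resLin M g) := by
  refine IsLocalizedModule.Away.mk_of_addCommGroup ?_ ?_ ?_
  · rw [Module.End.isUnit_iff]
    have hu : IsUnit (rres (X.basicOpen_le g) g) := RingedSpace.isUnit_res_basicOpen _ g
    exact hu.smul_bijective
  · intro x
    obtain ⟨n, t, ht⟩ := (isLocalizingAt M hU.out g).surj x
    refine ⟨n, t, ?_⟩
    change (rres (X.basicOpen_le g) (g ^ n)) • x = res M _ t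
    rw [ht, map_pow]
  · intro x hx
    exact (isLocalizingAt M hU.out g).eq_zero x hx

variable {x : X} (hx : x ∈ U)

/-- The stalk of a module as a module over the sections of `O` over `U`. -/
@[reducible] def moduleSections : Module Γ(X, U) (M.presheaf.stalk x) :=
  Module.compHom _ (X.presheaf.germ U x hx).hom

/-- The germ, as a linear map. -/
def germLin :
    letI := moduleSections M hx
    Γ(M, U) →ₗ[Γ(X, U)] M.presheaf.stalk x :=
  letI := moduleSections M hx
  { toFun := germM M U x hx
    map_add' := fun a b => map_add (M.presheaf.germ U x hx).hom a b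
    map_smul' := fun r m => germM_smul M U x hx r m }

/-- The stalk of a quasi-coherent module is the localization of its sections over an affine open. -/
theorem isLocalizedModule_germLin [M.IsQuasicoherent] (hU : IsAffineOpen U) :
    letI := moduleSections M hx
    IsLocalizedModule (hU.primeIdealOf ⟨x, hx⟩).asIdeal.primeCompl (germLin M hx) := by
  letI := moduleSections M hx
  have hmem : ∀ a : Γ(X, U), a ∈ (hU.primeIdealOf ⟨x, hx⟩).asIdeal.primeCompl ↔
      IsUnit (X.presheaf.germ U x hx a) := by
    intro a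
    letI := X.presheaf.algebra_section_stalk ⟨x, hx⟩
    haveI : IsLocalization.AtPrime (X.presheaf.stalk x) (hU.primeIdealOf ⟨x, hx⟩).asIdeal :=
      hU.isLocalization_stalk ⟨x, hx⟩
    exact (IsLocalization.AtPrime.isUnit_to_map_iff (X.presheaf.stalk x)
      (hU.primeIdealOf ⟨x, hx⟩).asIdeal a).symm.trans Iff.rfl
  refine IsLocalizedModule.mk ?_ ?_ ?_
  · rintro ⟨a, ha⟩
    rw [Module.End.isUnit_iff]
    exact ((hmem a).mp ha).smul_bijective
  · intro t
    obtain ⟨W, hxW, m, rfl⟩ := exists_germM_eq M x t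
    obtain ⟨g, hgle, hxg⟩ := hU.exists_basicOpen_le ⟨x, hxW⟩ hx
    obtain ⟨n, m', hm'⟩ := (isLocalizingAt M hU g).surj (res M hgle m)
    have hg : g ∈ (hU.primeIdealOf ⟨x, hx⟩).asIdeal.primeCompl :=
      (hmem g).mpr ((X.mem_basicOpen g x hx).mp hxg)
    refine ⟨⟨m', ⟨g ^ n, pow_mem hg n⟩⟩, ?_⟩
    have e1 : germM M (X.basicOpen g) x hxg (res M (X.basicOpen_le g) m') = germM M U x hx m' :=
      M.presheaf.germ_res_apply _ x hxg m'
    have e2 : germM M (X.basicOpen g) x hxg (res M hgle m) = germM M W x hxW m :=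
      M.presheaf.germ_res_apply _ x hxg m
    change X.presheaf.germ U x hx (g ^ n) • germM M W x hxW m = germM M U x hx m'
    rw [← e1, ← e2, hm', germM_smul, ← map_pow]
    congr 1
    exact (X.presheaf.germ_res_apply (homOfLE (X.basicOpen_le g)) x hxg _).symm
  · intro a b hab
    have hab' : M.presheaf.germ U x hx a = M.presheaf.germ U x hx b := hab
    obtain ⟨W, hxW, i₁, i₂, hW⟩ := M.presheaf.germ_eq x hx hx a b hab'
    obtain ⟨g, hgle, hxg⟩ := hU.exists_basicOpen_le ⟨x, hxW⟩ hx
    have hg : g ∈ (hU.primeIdealOf ⟨x, hx⟩).asIdeal.primeCompl :=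
      (hmem g).mpr ((X.mem_basicOpen g x hx).mp hxg)
    have h0 : res M (X.basicOpen_le g) (a - b) = 0 := by
      rw [map_sub, ← res_res M (leOfHom i₁) hgle a, ← res_res M (leOfHom i₂) hgle b]
      exact sub_eq_zero.mpr (congrArg (res M hgle) hW)
    obtain ⟨n, hn⟩ := (isLocalizingAt M hU g).eq_zero (a - b) h0
    refine ⟨⟨g ^ n, pow_mem hg n⟩, ?_⟩
    rw [smul_sub, sub_eq_zero] at hn
    exact hn

end Groth.Agent.Props.QStalk

end
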