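import Groth.Agent.Props.QFP
import Groth.Agent.Props.QStalk
import Groth.Prelude.Def_FlatMod2

/-!
# Finite locally free quasi-coherent modules
-/

universe u

open CategoryTheory Limits AlgebraicGeometry Opposite TopologicalSpace

noncomputable section

namespace Groth.Agent.Props.QProj

open Groth.Agent.QCoh Groth.Agent.Props.QStalk

variable {X : Scheme.{u}}

/-- The free module on `Fin n` lifted to the universe, versus `freeMod`. -/
def freeModIso (Z : Scheme.{u}) (n : ℕ) :
    @Iso Z.Modules _ (SheafOfModules.free.{u} (R := Z.ringCatSheaf) (ULift.{u} (Fin n)))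
      (FlatMod.freeMod Z n) :=
  Sigma.whiskerEquiv (C := Z.Modules) (f := fun _ : ULift.{u} (Fin n) => Coh.structureModule Z)
    (g := fun _ : Fin n => Coh.structureModule Z) Equiv.ulift (fun _ => Iso.refl _)

/-- Restriction of a free module along an open immersion. -/
def restrictFreeIso {Z : Scheme.{u}} (j : Z ⟶ X) [IsOpenImmersion j] (I : Type u) :
    Scheme.Modules.restrict (SheafOfModules.free.{u} (R := X.ringCatSheaf) I : X.Modules) j ≅
      (SheafOfModules.free.{u} (R := Z.ringCatSheaf) I : Z.Modules) :=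
  let F : SheafOfModules.{u} X.ringCatSheaf ⥤ SheafOfModules.{u} Z.ringCatSheaf :=
    Scheme.Modules.restrictFunctor j
  have : PreservesColimitsOfSize.{u, u} F :=
    (Scheme.Modules.restrictAdjunction j).leftAdjoint_preservesColimits
  (SheafOfModules.mapFreeIso F I (Scheme.Modules.restrictUnitIso j).symm).symm

variable (M : X.Modules)

/-- Free sections over an affine open give a free module on that open. -/
theorem nonempty_restrict_iso_free [M.IsQuasicoherent] {V : X.Opens} (hV : IsAffineOpen V)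
    {ι : Type} [Finite ι] (b : Module.Basis ι Γ(X, V) Γ(M, V)) :
    ∃ n, Nonempty (M.restrict V.ι ≅ FlatMod.freeMod V n) := by
  obtain ⟨n, ⟨e⟩⟩ := Finite.exists_equiv_fin ι
  refine ⟨n, ?_⟩
  let N : (Spec Γ(X, V)).Modules := toSpec hV M
  have : N.IsQuasicoherent := Scheme.Modules.isQuasicoherent_restrictFunctor _ M
  have := Scheme.Modules.isIso_fromTildeΓ_of_isQuasicoherent N
  let b' : Module.Basis (ULift.{u} (Fin n)) Γ(X, V) Γ(N, ⊤) :=
    (b.reindex (e.trans Equiv.ulift.symm)).map (toSpecTopLinearEquiv hV M).symm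
  let eΓ : (moduleSpecΓFunctor (R := Γ(X, V))).obj N ≅
      ModuleCat.of Γ(X, V) (ULift.{u} (Fin n) →₀ Γ(X, V)) :=
    LinearEquiv.toModuleIso (X₁ := (moduleSpecΓFunctor (R := Γ(X, V))).obj N) b'.repr
  let e₁ : N ≅ (SheafOfModules.free.{u} (ULift.{u} (Fin n)) : (Spec Γ(X, V)).Modules) :=
    (asIso N.fromTildeΓ).symm ≪≫ (tilde.functor _).mapIso eΓ ≪≫ tildeFinsupp _
  have := hV.isOpenImmersion_fromSpec
  let e₂ : Scheme.Modules.restrictFunctor hV.fromSpec ⋙ Scheme.Modules.restrictFunctor
      hV.isoSpec.hom ≅ Scheme.Modules.restrictFunctor V.ι :=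
    (Scheme.Modules.restrictFunctorComp _ _).symm ≪≫
      Scheme.Modules.restrictFunctorCongr hV.isoSpec_hom_fromSpec
  exact ⟨(e₂.app M).symm ≪≫ (Scheme.Modules.restrictFunctor hV.isoSpec.hom).mapIso e₁ ≪≫
    restrictFreeIso hV.isoSpec.hom _ ≪≫ freeModIso _ n⟩

/-- A module free on an open has free sections on the affine opens inside. -/
theorem free_sections_of_restrict_iso {V : X.Opens} {n : ℕ}
    (e : M.restrict V.ι ≅ FlatMod.freeMod V n) {W : X.Opens} (hW : IsAffineOpen W) (hWV : W ≤ V) :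
    Nonempty (Module.Basis (Fin n) Γ(X, W) Γ(M, W)) := by
  have := hW.isOpenImmersion_fromSpec
  let t := IsOpenImmersion.lift V.ι hW.fromSpec
    (by rw [hW.range_fromSpec, Scheme.Opens.range_ι]; exact hWV)
  have : IsOpenImmersion t := by
    have : IsOpenImmersion (t ≫ V.ι) := by rw [IsOpenImmersion.lift_fac]; assumption
    exact IsOpenImmersion.of_comp t V.ι
  let e₁ : toSpec hW M ≅
      (SheafOfModules.free.{u} (ULift.{u} (Fin n)) : (Spec Γ(X, W)).Modules) :=
    (((Scheme.Modules.restrictFunctorComp t V.ι).symm ≪≫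
      Scheme.Modules.restrictFunctorCongr (IsOpenImmersion.lift_fac _ _ _)).app M).symm ≪≫
      (Scheme.Modules.restrictFunctor t).mapIso (e ≪≫ (freeModIso _ n).symm) ≪≫
      restrictFreeIso t _
  let e₂ : Γ(M, W) ≃ₗ[Γ(X, W)] (ULift.{u} (Fin n) →₀ Γ(X, W)) :=
    (toSpecTopLinearEquiv hW M).symm ≪≫ₗ QFP.topEquivOfIso e₁ ≪≫ₗ
      (QFP.topEquivOfIso (tildeFinsupp (ULift.{u} (Fin n)))).symm ≪≫ₗ
      (tilde.isoTop (ModuleCat.of Γ(X, W) (ULift.{u} (Fin n) →₀ Γ(X, W)))).toLinearEquiv.symm
  exact ⟨(Module.Basis.ofRepr e₂).reindex Equiv.ulift⟩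

/-- A finite locally free module has free stalks. -/
theorem free_stalk [M.IsQuasicoherent] (h : FlatMod.IsFinLocFree M) (x : X) :
    Module.Free (X.presheaf.stalk x) (M.presheaf.stalk x) ∧
      Module.Finite (X.presheaf.stalk x) (M.presheaf.stalk x) := by
  obtain ⟨V, n, hxV, ⟨e⟩⟩ := h x
  obtain ⟨_, ⟨W, hW, rfl⟩, hxW, hWV⟩ := X.isBasis_affineOpens.exists_subset_of_mem_open hxV V.2
  obtain ⟨b⟩ := free_sections_of_restrict_iso M e hW hWV
  have : Module.Free Γ(X, W) Γ(M, W) := .of_basis b
  have : Module.Finite Γ(X, W) Γ(M, W) := .of_basis b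
  let _ := moduleSections M hxW
  let _ := X.presheaf.algebra_section_stalk ⟨x, hxW⟩
  have : IsScalarTower Γ(X, W) (X.presheaf.stalk x) (M.presheaf.stalk x) :=
    IsScalarTower.of_algebraMap_smul fun _ _ ↦ rfl
  have hL := isLocalizedModule_germLin M hxW hW
  have hA : IsLocalization.AtPrime (X.presheaf.stalk x) (hW.primeIdealOf ⟨x, hxW⟩).asIdeal :=
    hW.isLocalization_stalk ⟨x, hxW⟩
  exact ⟨Module.free_of_isLocalizedModule (hW.primeIdealOf ⟨x, hxW⟩).asIdeal.primeCompl
      (germLin M hxW),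
    Module.Finite.of_isLocalizedModule (hW.primeIdealOf ⟨x, hxW⟩).asIdeal.primeCompl
      (germLin M hxW)⟩

/-- Finite locally free modules have finitely presented sections on affine opens. -/
theorem finitePresentation_sections [M.IsQuasicoherent] (h : FlatMod.IsFinLocFree M)
    {U : X.Opens} (hU : IsAffineOpen U) : Module.FinitePresentation Γ(X, U) Γ(M, U) := by
  refine QFP.finitePresentation_sections_of_local M hU fun x hx ↦ ?_
  obtain ⟨V, n, hxV, ⟨e⟩⟩ := h x
  obtain ⟨g, hgle, hxg⟩ := hU.exists_basicOpen_le ⟨x, hxV⟩ hx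
  obtain ⟨b⟩ := free_sections_of_restrict_iso M e (hU.basicOpen g) hgle
  have : Module.Free Γ(X, X.basicOpen g) Γ(M, X.basicOpen g) := .of_basis b
  have : Module.Finite Γ(X, X.basicOpen g) Γ(M, X.basicOpen g) := .of_basis b
  exact ⟨g, hxg, Module.finitePresentation_of_projective _ _⟩

/-- Finite locally free modules have projective sections on affine opens. -/
theorem projective_sections [M.IsQuasicoherent] (h : FlatMod.IsFinLocFree M)
    {U : X.Opens} (hU : IsAffineOpen U) : Module.Projective Γ(X, U) Γ(M, U) := by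
  have := finitePresentation_sections M h hU
  rw [← Module.freeLocus_eq_univ_iff, Set.eq_univ_iff_forall]
  intro p
  have hy : hU.fromSpec p ∈ U := hU.range_fromSpec.le ⟨p, rfl⟩
  have hp : hU.primeIdealOf ⟨hU.fromSpec p, hy⟩ = p := by
    apply hU.isOpenImmersion_fromSpec.base_open.injective
    exact hU.fromSpec_primeIdealOf ⟨_, hy⟩
  rw [← hp]
  let _ := moduleSections M hy
  let _ := X.presheaf.algebra_section_stalk ⟨hU.fromSpec p, hy⟩
  have : IsScalarTower Γ(X, U) (X.presheaf.stalk (hU.fromSpec p))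
      (M.presheaf.stalk (hU.fromSpec p)) :=
    IsScalarTower.of_algebraMap_smul fun _ _ ↦ rfl
  have hL := isLocalizedModule_germLin M hy hU
  have hA : IsLocalization.AtPrime (X.presheaf.stalk (hU.fromSpec p))
      (hU.primeIdealOf ⟨hU.fromSpec p, hy⟩).asIdeal :=
    hU.isLocalization_stalk ⟨_, hy⟩
  exact (Module.mem_freeLocus_of_isLocalization _ (X.presheaf.stalk (hU.fromSpec p))
    (M.presheaf.stalk (hU.fromSpec p)) (germLin M hy)).mpr (free_stalk M h _).1

attribute [local instance] RingHomInvPair.of_ringEquiv in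
/-- Finitely presented sections and a free stalk give a free neighbourhood. -/
theorem exists_free_nhd [M.IsQuasicoherent] {U : X.Opens} (hU : IsAffineOpen U) {x : X}
    (hx : x ∈ U) (hfp : Module.FinitePresentation Γ(X, U) Γ(M, U))
    (hfree : Module.Free (X.presheaf.stalk x) (M.presheaf.stalk x)) :
    ∃ (V : X.Opens) (n : ℕ), x ∈ V ∧ Nonempty (M.restrict V.ι ≅ FlatMod.freeMod V n) := by
  let _ := moduleSections M hx
  let _ := X.presheaf.algebra_section_stalk ⟨x, hx⟩
  have : IsScalarTower Γ(X, U) (X.presheaf.stalk x) (M.presheaf.stalk x) :=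
    IsScalarTower.of_algebraMap_smul fun _ _ ↦ rfl
  have hL := isLocalizedModule_germLin M hx hU
  have hA : IsLocalization.AtPrime (X.presheaf.stalk x) (hU.primeIdealOf ⟨x, hx⟩).asIdeal :=
    hU.isLocalization_stalk ⟨x, hx⟩
  obtain ⟨g, hg, hfree', -⟩ := Module.FinitePresentation.exists_free_localizedModule_powers
    (hU.primeIdealOf ⟨x, hx⟩).asIdeal.primeCompl (germLin M hx) (X.presheaf.stalk x)
  have hxg : x ∈ X.basicOpen g :=
    (X.mem_basicOpen g x hx).mpr ((IsLocalization.AtPrime.isUnit_to_map_iff (X.presheaf.stalk x)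
      (hU.primeIdealOf ⟨x, hx⟩).asIdeal g).mpr hg)
  have := hU.isLocalization_basicOpen g
  have : Fact (IsAffineOpen U) := ⟨hU⟩
  set e := (IsLocalization.algEquiv (Submonoid.powers g)
      (Localization (Submonoid.powers g)) Γ(X, X.basicOpen g)).toRingEquiv
  let e' : LocalizedModule.Away g Γ(M, U) ≃ₛₗ[(e : Localization (Submonoid.powers g) →+* Γ(X, X.basicOpen g))]
      Γ(M, X.basicOpen g) := by
    refine { __ := IsLocalizedModule.iso (Submonoid.powers g) (resLin M g), map_smul' := ?_ }
    intro r y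
    obtain ⟨r, s, rfl⟩ := IsLocalization.exists_mk'_eq (Submonoid.powers g) r
    apply ((Module.End.isUnit_iff _).mp
      (IsLocalizedModule.map_units (resLin M g) s)).1
    simp [e, ← map_smul, ← smul_assoc]
  have hfree₂ : Module.Free Γ(X, X.basicOpen g) Γ(M, X.basicOpen g) :=
    (Module.Free.iff_of_equiv (σ := e) e').mp hfree'
  have : Module.Finite Γ(X, X.basicOpen g) Γ(M, X.basicOpen g) :=
    Module.Finite.of_isLocalizedModule (Submonoid.powers g) (resLin M g)
  let b := Module.Free.chooseBasis Γ(X, X.basicOpen g) Γ(M, X.basicOpen g)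
  obtain ⟨k, ⟨q⟩⟩ := Finite.exists_equiv_fin
    (Module.Free.ChooseBasisIndex Γ(X, X.basicOpen g) Γ(M, X.basicOpen g))
  obtain ⟨n, hn⟩ := nonempty_restrict_iso_free M (hU.basicOpen g) (b.reindex q)
  exact ⟨X.basicOpen g, n, hxg, hn⟩

/-- Finitely generated sections give finitely generated stalks. -/
theorem finite_stalk [M.IsQuasicoherent] {U : X.Opens} (hU : IsAffineOpen U) {x : X} (hx : x ∈ U)
    [Module.Finite Γ(X, U) Γ(M, U)] :
    Module.Finite (X.presheaf.stalk x) (M.presheaf.stalk x) := by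
  let _ := moduleSections M hx
  let _ := X.presheaf.algebra_section_stalk ⟨x, hx⟩
  have : IsScalarTower Γ(X, U) (X.presheaf.stalk x) (M.presheaf.stalk x) :=
    IsScalarTower.of_algebraMap_smul fun _ _ ↦ rfl
  have hL := isLocalizedModule_germLin M hx hU
  have hA : IsLocalization.AtPrime (X.presheaf.stalk x) (hU.primeIdealOf ⟨x, hx⟩).asIdeal :=
    hU.isLocalization_stalk ⟨x, hx⟩
  exact Module.Finite.of_isLocalizedModule (hU.primeIdealOf ⟨x, hx⟩).asIdeal.primeCompl
      (germLin M hx)

/-- Finite projective sections give free stalks. -/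
theorem free_stalk_of_flat [M.IsQuasicoherent] {U : X.Opens} (hU : IsAffineOpen U) {x : X}
    (hx : x ∈ U) [Module.Finite Γ(X, U) Γ(M, U)] [Module.Projective Γ(X, U) Γ(M, U)] :
    Module.Free (X.presheaf.stalk x) (M.presheaf.stalk x) := by
  let _ := moduleSections M hx
  let _ := X.presheaf.algebra_section_stalk ⟨x, hx⟩
  have : IsScalarTower Γ(X, U) (X.presheaf.stalk x) (M.presheaf.stalk x) :=
    IsScalarTower.of_algebraMap_smul fun _ _ ↦ rfl
  have hL := isLocalizedModule_germLin M hx hU
  have hA : IsLocalization.AtPrime (X.presheaf.stalk x) (hU.primeIdealOf ⟨x, hx⟩).asIdeal :=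
    hU.isLocalization_stalk ⟨x, hx⟩
  have := finite_stalk M hU hx
  have : Module.Projective (X.presheaf.stalk x) (M.presheaf.stalk x) :=
    Module.projective_of_isLocalizedModule (hU.primeIdealOf ⟨x, hx⟩).asIdeal.primeCompl
      (germLin M hx)
  exact Module.free_of_flat_of_isLocalRing

/-- Finite locally free from finite presentation and free stalks. -/
theorem isFinLocFree_of [M.IsQuasicoherent]
    (H : ∀ x : X, ∃ U : X.Opens, IsAffineOpen U ∧ x ∈ U ∧
      Module.FinitePresentation Γ(X, U) Γ(M, U))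
    (hfree : ∀ x : X, Module.Free (X.presheaf.stalk x) (M.presheaf.stalk x)) :
    FlatMod.IsFinLocFree M := fun x ↦ by
  obtain ⟨U, hU, hx, hfp⟩ := H x
  exact exists_free_nhd M hU hx hfp (hfree x)

/-- Finite locally free modules are of finite presentation. -/
theorem isFP [M.IsQuasicoherent] (h : FlatMod.IsFinLocFree M) :
    SheafOfModules.IsFinitePresentation.{u} M :=
  (QFP.isFP_iff M).mpr fun _ hU ↦ finitePresentation_sections M h hU

end Groth.Agent.Props.QProj

end
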