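import Groth.Agent.LFFrame.Basic
import Groth.Agent.QCoh.Basic
import Groth.Prelude.Def_CohB1
import Groth.Prelude.Def_Pic

/-!
# Generating sections of invertible modules and the loci `X_s`

`IsGen L U e`: the section `e` of `L` over `U` is a basis on every smaller open (rank one frame).
`mem_genLocus_iff`, `genLocus_inf`: the locus `X_s` is where `s` generates; in a trivialisation it is
a basic open.
-/

universe u

open CategoryTheory Limits AlgebraicGeometry Opposite TopologicalSpace

noncomputable section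

namespace Groth.Agent.Props.GenLocus

open Groth.Agent.QCoh Groth.Agent.PullStalk.Sky

variable {X : Scheme.{u}} {L : X.Modules}

/-- `a ↦ a • e`. -/
abbrev sm {U : X.Opens} (e : Γ(L, U)) {V : X.Opens} (h : V ≤ U) (a : Γ(X, V)) : Γ(L, V) :=
  a • res L h e

/-- `e` is a basis of `L` on every open inside `U`. -/
def IsGen (L : X.Modules) (U : X.Opens) (e : Γ(L, U)) : Prop :=
  ∀ (V : X.Opens) (h : V ≤ U), Function.Bijective (sm e h)

lemma comb_eq {U : X.Opens} (e : Γ(L, U)) {V : X.Opens} (h : V ≤ U) (a : Fin 1 → Γ(X, V)) :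
    LFFrame.comb L (fun _ : Fin 1 => e) h a = sm e h (a 0) :=
  Fin.sum_univ_one _

theorem isGen_iff_isFrame {U : X.Opens} (e : Γ(L, U)) :
    IsGen L U e ↔ LFFrame.IsFrame L U (fun _ : Fin 1 => e) := by
  refine forall_congr' fun V => forall_congr' fun h => ?_
  rw [show LFFrame.comb L (fun _ : Fin 1 => e) h = sm e h ∘ Equiv.funUnique (Fin 1) Γ(X, V) from
    funext fun a => comb_eq e h a]
  exact (Equiv.bijective_comp _ _).symm

theorem IsGen.restrict {U W : X.Opens} {e : Γ(L, U)} (he : IsGen L U e) (h : W ≤ U) :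
    IsGen L W (res L h e) := fun V hV => by
  have : sm (res L h e) hV = sm e (hV.trans h) := funext fun a => by
    simp only [sm, res_res]
  rw [this]
  exact he V (hV.trans h)

theorem IsGen.of_local {U : X.Opens} {e : Γ(L, U)}
    (H : ∀ x ∈ U, ∃ (W : X.Opens) (h : W ≤ U), x ∈ W ∧ IsGen L W (res L h e)) : IsGen L U e := by
  rw [isGen_iff_isFrame]
  refine LFFrame.isFrame_of_stalkComb_bijective fun x hx => ?_
  obtain ⟨W, h, hxW, hW⟩ := H x hx
  have := ((isGen_iff_isFrame _).mp hW).stalkComb_bijective x hxW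
  have e1 : germM L W x hxW (res L h e) = germM L U x hx e := L.presheaf.germ_res_apply _ x hxW e
  unfold LFFrame.stalkComb at this ⊢
  simp only [e1] at this
  exact this

theorem IsGen.exists_eq {U : X.Opens} {e : Γ(L, U)} (he : IsGen L U e) {V : X.Opens} (h : V ≤ U)
    (m : Γ(L, V)) : ∃! a : Γ(X, V), m = a • res L h e :=
  let ⟨a, ha⟩ := (he V h).2 m
  ⟨a, ha.symm, fun b hb => (he V h).1 (hb.symm.trans ha.symm)⟩

theorem IsGen.injective {U : X.Opens} {e : Γ(L, U)} (he : IsGen L U e) {V : X.Opens} (h : V ≤ U)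
    {a b : Γ(X, V)} (hab : a • res L h e = b • res L h e) : a = b := (he V h).1 hab

theorem IsGen.smul_unit {U : X.Opens} {e : Γ(L, U)} (he : IsGen L U e) {c : Γ(X, U)}
    (hc : IsUnit c) : IsGen L U (c • e) := fun V h => by
  obtain ⟨w, hw⟩ := hc.map (rres h).hom
  have : sm (c • e) h = sm e h ∘ fun a => a * (w : Γ(X, V)) := funext fun a => by
    simp only [sm, Function.comp_apply, res_smul, smul_smul, hw]
  rw [this]
  exact (he V h).comp (Units.mulRight_bijective w)

theorem exists_isGen (hL : PicF.IsInvertible L) (x : X) :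
    ∃ (U : X.Opens) (e : Γ(L, U)), x ∈ U ∧ IsGen L U e := by
  obtain ⟨U, hx, ⟨φ⟩⟩ := hL x
  obtain ⟨e, he⟩ := LFFrame.exists_isFrame_of_split (M := L) (fun _ : Fin 1 => φ.inv) (fun _ => φ.hom)
    (fun i j => by simp [Subsingleton.elim i j]) (by simp)
  refine ⟨U, e 0, hx, (isGen_iff_isFrame _).mpr ?_⟩
  rwa [show (fun _ : Fin 1 => e 0) = e from funext fun i => by rw [Subsingleton.elim i 0]]

/-- The section `1` of the structure module. -/
abbrev one' (V : X.Opens) : Γ(Coh.structureModule X, V) := (1 : Γ(X, V))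

/-- The section given by a map from the structure module. -/
def sec (s : Coh.structureModule X ⟶ L) (U : X.Opens) : Γ(L, U) := s.app U (one' U)

lemma sec_res (s : Coh.structureModule X ⟶ L) {U V : X.Opens} (h : V ≤ U) :
    res L h (sec s U) = sec s V := by
  rw [sec, ← app_res]
  exact congrArg (s.app V) (X.presheaf.map (homOfLE h).op).hom.map_one

lemma app_eq (s : Coh.structureModule X ⟶ L) (V : X.Opens) (a : Γ(X, V)) :
    s.app V a = a • sec s V := by
  rw [sec, ← Scheme.Modules.Hom.app_smul]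
  exact congrArg (s.app V) (mul_one a).symm

/-- The map from the structure module given by a global section. -/
def homOfSec (σ : Γ(L, ⊤)) : Coh.structureModule X ⟶ L :=
  (SheafOfModules.unitHomEquiv (R := X.ringCatSheaf) L).symm
    (PresheafOfModules.sectionsMk (M := L.val) (fun U => res L (le_top : U.unop ≤ ⊤) σ)
      fun {U V} i => res_res L le_top i.unop.le σ)

lemma sec_homOfSec (σ : Γ(L, ⊤)) (U : X.Opens) : sec (homOfSec σ) U = res L le_top σ := by
  have h := (SheafOfModules.unitHomEquiv (R := X.ringCatSheaf) L).apply_symm_apply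
    (PresheafOfModules.sectionsMk (M := L.val) (fun U => res L (le_top : U.unop ≤ ⊤) σ)
      fun {U V} i => res_res L le_top i.unop.le σ)
  exact congrArg (fun t : L.val.sections => t.val (op U)) h

lemma isIso_restrict_iff (s : Coh.structureModule X ⟶ L) (W : X.Opens) :
    IsIso ((Scheme.Modules.restrictFunctor W.ι).map s) ↔ IsGen L W (sec s W) := by
  rw [Scheme.Modules.Hom.isIso_iff_isIso_app]
  constructor
  · intro H V hV
    obtain ⟨O, rfl⟩ : ∃ O : (W : Scheme.{u}).Opens, W.ι ''ᵁ O = V :=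
      ⟨W.ι ⁻¹ᵁ V, LFFrame.le_image_preimage hV⟩
    have hb : Function.Bijective (s.app (W.ι ''ᵁ O)) :=
      (ConcreteCategory.isIso_iff_bijective _).mp (H O)
    rwa [show (sm (sec s W) hV) = fun a => s.app (W.ι ''ᵁ O) a from funext fun a => by
      rw [app_eq, ← sec_res s hV]]
  · intro H O
    have hle : W.ι ''ᵁ O ≤ W := (W.ι.image_le_opensRange O).trans W.opensRange_ι.le
    refine (ConcreteCategory.isIso_iff_bijective _).mpr ?_
    change Function.Bijective (s.app (W.ι ''ᵁ O))
    rw [show ⇑(ConcreteCategory.hom (s.app (W.ι ''ᵁ O))) = sm (sec s W) hle from funext fun a => by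
      rw [app_eq, ← sec_res s hle]]
    exact H _ hle

lemma le_genLocus {s : Coh.structureModule X ⟶ L} {W : X.Opens} (h : IsGen L W (sec s W)) :
    W ≤ CohB1.genLocus L s :=
  le_sSup ((isIso_restrict_iff s W).mpr h)

lemma mem_genLocus_iff (s : Coh.structureModule X ⟶ L) (x : X) :
    x ∈ CohB1.genLocus L s ↔ ∃ W : X.Opens, x ∈ W ∧ IsGen L W (sec s W) := by
  refine ⟨fun hx => ?_, fun ⟨W, hxW, hW⟩ => le_genLocus hW hxW⟩
  obtain ⟨W, hW, hxW⟩ := Opens.mem_sSup.mp hx
  exact ⟨W, hxW, (isIso_restrict_iff s W).mp hW⟩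

theorem isGen_genLocus (s : Coh.structureModule X ⟶ L) :
    IsGen L (CohB1.genLocus L s) (sec s (CohB1.genLocus L s)) := by
  refine IsGen.of_local fun x hx => ?_
  obtain ⟨W, hxW, hW⟩ := (mem_genLocus_iff s x).mp hx
  exact ⟨W, le_genLocus hW, hxW, by rwa [sec_res]⟩

/-- In a trivialisation, `X_s` is a basic open. -/
theorem genLocus_inf {U : X.Opens} {e : Γ(L, U)} (he : IsGen L U e) (s : Coh.structureModule X ⟶ L)
    {f : Γ(X, U)} (hf : sec s U = f • e) : CohB1.genLocus L s ⊓ U = X.basicOpen f := by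
  refine le_antisymm ?_ (le_inf (le_genLocus ?_) (X.basicOpen_le f))
  · rintro x ⟨hx, hxU⟩
    have hg := (isGen_genLocus s).restrict (inf_le_left : CohB1.genLocus L s ⊓ U ≤ _)
    rw [sec_res, ← sec_res s (inf_le_right : CohB1.genLocus L s ⊓ U ≤ U), hf] at hg
    obtain ⟨b, hb, -⟩ := hg.exists_eq le_rfl
      (res L (inf_le_right : CohB1.genLocus L s ⊓ U ≤ U) e)
    rw [res_self, res_smul, smul_smul] at hb
    have h1 : (1 : Γ(X, CohB1.genLocus L s ⊓ U)) • res L (inf_le_right : _ ≤ U) e =
        (b * rres (inf_le_right : CohB1.genLocus L s ⊓ U ≤ U) f) • res L inf_le_right e :=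
      (one_smul _ _).trans hb
    have h2 := he.injective _ h1
    have hu : IsUnit (rres (inf_le_right : CohB1.genLocus L s ⊓ U ≤ U) f) :=
      IsUnit.of_mul_eq_one_right b h2.symm
    refine (X.mem_basicOpen f x hxU).mpr ?_
    have := hu.map (X.presheaf.germ (CohB1.genLocus L s ⊓ U) x ⟨hx, hxU⟩).hom
    rwa [X.presheaf.germ_res_apply] at this
  · have := (he.restrict (X.basicOpen_le f)).smul_unit
      (c := rres (X.basicOpen_le f) f) (RingedSpace.isUnit_res_basicOpen _ f)
    rwa [← res_smul, ← hf, sec_res] at this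

end Groth.Agent.Props.GenLocus

end
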