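import Groth.Agent.Props.AmpleCoeff
import Mathlib.CategoryTheory.Adjunction.Unique

/-!
# Changing the module: maps of frames, isomorphisms, powers, open subschemes
-/

universe u

open CategoryTheory Limits AlgebraicGeometry Opposite TopologicalSpace

noncomputable section

namespace Groth.Agent.Props.AmpleFrames

open Groth.Agent.QCoh Groth.Agent.Props.GenLocus Groth.Agent.Props.GenTensor Groth.Agent.Props.GenProd
  Groth.Agent.Props.GenExt

variable {X : Scheme.{u}} {L L' : X.Modules}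

/-- A map sending frames of `L` to frames of `L'`, with weight `a`. -/
structure FrameMap (L L' : X.Modules) (a : ℕ) where
  φ : ∀ {W : X.Opens}, Γ(L, W) → Γ(L', W)
  res_φ : ∀ {W V : X.Opens} (h : V ≤ W) (e : Γ(L, W)), res L' h (φ e) = φ (res L h e)
  φ_smul : ∀ {W : X.Opens} (u : Γ(X, W)) (e : Γ(L, W)), φ (u • e) = u ^ a • φ e
  isGen : ∀ {W : X.Opens} {e : Γ(L, W)}, IsGen L W e → IsGen L' W (φ e)

/-- An isomorphism maps frames to frames. -/
def FrameMap.ofIso (e : L ≅ L') : FrameMap L L' 1 where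
  φ {W} x := e.hom.app W x
  res_φ h x := (app_res e.hom h x).symm
  φ_smul u x := by rw [pow_one, Scheme.Modules.Hom.app_smul]
  isGen {W x} hx V h := by
    have hb : Function.Bijective (e.hom.app V) :=
      (ConcreteCategory.isIso_iff_bijective _).mp inferInstance
    have : sm (e.hom.app W x) h = e.hom.app V ∘ sm x h := funext fun a => by
      change a • res L' h (e.hom.app W x) = e.hom.app V (a • res L h x)
      rw [Scheme.Modules.Hom.app_smul, app_res]
    rw [this]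
    exact hb.comp (hx V h)

/-- The power map. -/
def FrameMap.pow (L : X.Modules) (n : ℕ) : FrameMap L (CohB1.tensorPow L n) n where
  φ e := pw L e n
  res_φ h e := res_pw h e n
  φ_smul u e := pw_smul u e n
  isGen he := isGen_pw he n

/-- Comparing the transition functions. -/
theorem exists_change {a : ℕ} (F : FrameMap L L' a) {W : X.Opens} {e e' : Γ(L, W)} {u : Γ(X, W)}
    (he : IsGen L W e) (h : e' = u • e) {u' : Γ(X, W)} (h' : F.φ e' = u' • F.φ e) : u' = u ^ a := by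
  refine (F.isGen he).injective le_rfl ?_
  rw [res_self, ← h', h, F.φ_smul]

/-- Sections of `L^(a m)` give sections of `L'^m`. -/
theorem exists_to (hL : PicF.IsInvertible L) {a : ℕ} (F : FrameMap L L' a) {m K : ℕ} (hK : K = a * m)
    (s : Coh.structureModule X ⟶ CohB1.tensorPow L K) :
    ∃ s' : Coh.structureModule X ⟶ CohB1.tensorPow L' m,
      CohB1.genLocus _ s' = CohB1.genLocus _ s := by
  let ι := {p : Σ W : X.Opens, Γ(L, W) // IsGen L p.1 p.2}
  obtain ⟨s', hs'⟩ := exists_hom_of_cover (L := L') (fun i : ι => i.1.1) (by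
      intro x _
      obtain ⟨U, e, hxU, he⟩ := exists_isGen hL x
      exact Opens.mem_iSup.mpr ⟨(⟨⟨U, e⟩, he⟩ : ι), hxU⟩)
    (fun i => F.φ i.1.2) (fun i => F.isGen i.2) m (fun i => co K (sec s ⊤) le_top i.2) (by
      rintro ⟨⟨W, e⟩, he⟩ ⟨⟨W', e'⟩, he'⟩ u' hu'
      obtain ⟨u, -, hu⟩ := exists_unit_smul (he.restrict (inf_le_left : W ⊓ W' ≤ W))
        (he'.restrict (inf_le_right : W ⊓ W' ≤ W'))
      rw [F.res_φ, F.res_φ] at hu'
      rw [exists_change F (he.restrict _) hu hu', ← pow_mul, ← hK, co_res, co_res]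
      exact co_of_eq_smul _ _ _ _ hu)
  refine ⟨s', genLocus_ext hL fun W e he => ?_⟩
  rw [(hs' (⟨⟨W, e⟩, he⟩ : ι)).2, genLocus_inf_eq he s]

/-- Sections of `L'^m` give sections of `L^(a m)`. -/
theorem exists_from (hL : PicF.IsInvertible L) {a : ℕ} (F : FrameMap L L' a) {m K : ℕ} (hK : K = a * m)
    (s' : Coh.structureModule X ⟶ CohB1.tensorPow L' m) :
    ∃ s : Coh.structureModule X ⟶ CohB1.tensorPow L K,
      CohB1.genLocus _ s = CohB1.genLocus _ s' := by
  let ι := {p : Σ W : X.Opens, Γ(L, W) // IsGen L p.1 p.2}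
  obtain ⟨s, hs⟩ := exists_hom_of_cover (L := L) (fun i : ι => i.1.1) (by
      intro x _
      obtain ⟨U, e, hxU, he⟩ := exists_isGen hL x
      exact Opens.mem_iSup.mpr ⟨(⟨⟨U, e⟩, he⟩ : ι), hxU⟩)
    (fun i => i.1.2) (fun i => i.2) K (fun i => co m (sec s' ⊤) le_top (F.isGen i.2)) (by
      rintro ⟨⟨W, e⟩, he⟩ ⟨⟨W', e'⟩, he'⟩ u hu
      rw [co_res, co_res, hK, pow_mul]
      refine co_of_eq_smul _ _ _ _ ?_
      rw [F.res_φ, F.res_φ, hu, F.φ_smul])
  refine ⟨s, genLocus_ext hL fun W e he => ?_⟩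
  rw [(hs (⟨⟨W, e⟩, he⟩ : ι)).2, genLocus_inf_eq (F.isGen he) s']

theorem isInvertible_of_frameMap (hL : PicF.IsInvertible L) {a : ℕ} (F : FrameMap L L' a) :
    PicF.IsInvertible L' := fun x =>
  let ⟨_, _, hxU, he⟩ := exists_isGen hL x
  ⟨_, hxU, ((isGen_iff_isFrame _).mp (F.isGen he)).nonempty_restrict_iso⟩

theorem isInvertible_tensorPow (hL : PicF.IsInvertible L) (n : ℕ) :
    PicF.IsInvertible (CohB1.tensorPow L n) :=
  isInvertible_of_frameMap hL (FrameMap.pow L n)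

/-- A section of `L^1` gives a section of `L`. -/
theorem exists_hom_one (hL : PicF.IsInvertible L) (s : Coh.structureModule X ⟶ CohB1.tensorPow L 1) :
    ∃ t : Coh.structureModule X ⟶ L, CohB1.genLocus _ t = CohB1.genLocus _ s := by
  let ι := {p : Σ W : X.Opens, Γ(L, W) // IsGen L p.1 p.2}
  obtain ⟨ρ, hρ⟩ := exists_glue L (U := fun i : ι => i.1.1) (fun i => (le_top : i.1.1 ≤ ⊤)) (by
      intro x _
      obtain ⟨U, e, hxU, he⟩ := exists_isGen hL x
      exact Opens.mem_iSup.mpr ⟨(⟨⟨U, e⟩, he⟩ : ι), hxU⟩)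
    (fun i => co 1 (sec s ⊤) le_top i.2 • i.1.2) (by
      rintro ⟨⟨W, e⟩, he⟩ ⟨⟨W', e'⟩, he'⟩
      obtain ⟨u, -, hu⟩ := exists_unit_smul (he.restrict (inf_le_left : W ⊓ W' ≤ W))
        (he'.restrict (inf_le_right : W ⊓ W' ≤ W'))
      rw [res_smul, res_smul, co_res, co_res,
        co_of_eq_smul _ _ (he.restrict _) (he'.restrict _) hu, pow_one, mul_comm, mul_smul]
      exact congrArg (_ • ·) hu.symm)
  refine ⟨homOfSec ρ, genLocus_ext hL fun W e he => ?_⟩
  rw [genLocus_inf_eq he s]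
  exact genLocus_inf he _ (by rw [sec_homOfSec]; exact hρ (⟨⟨W, e⟩, he⟩ : ι))

/-! ### Ampleness -/

theorem exists_succ_to (hL : PicF.IsInvertible L) {a : ℕ} (ha : 0 < a) (F : FrameMap L L' a) {n : ℕ}
    (s : Coh.structureModule X ⟶ CohB1.tensorPow L (n + 1)) :
    ∃ (m : ℕ) (s' : Coh.structureModule X ⟶ CohB1.tensorPow L' (m + 1)),
      CohB1.genLocus _ s' = CohB1.genLocus _ s := by
  obtain ⟨t, ht⟩ := exists_pow hL s a _ rfl
  obtain ⟨s', hs'⟩ := exists_to hL F (m := n + 1) (Nat.mul_comm (n + 1) a) t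
  exact ⟨n, s', hs'.trans (genLocus_pow hL s ha t ht)⟩

theorem exists_succ_from (hL : PicF.IsInvertible L) {a : ℕ} (ha : 0 < a) (F : FrameMap L L' a) {n : ℕ}
    (s' : Coh.structureModule X ⟶ CohB1.tensorPow L' (n + 1)) :
    ∃ (m : ℕ) (s : Coh.structureModule X ⟶ CohB1.tensorPow L (m + 1)),
      CohB1.genLocus _ s = CohB1.genLocus _ s' := by
  obtain ⟨s, hs⟩ := exists_from hL F rfl s'
  obtain ⟨m, t, ht⟩ := exists_succ (Nat.mul_pos ha (Nat.succ_pos n)) s
  exact ⟨m, t, ht.trans hs⟩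

theorem isAmple_iff_of_frameMap (hL : PicF.IsInvertible L) {a : ℕ} (ha : 0 < a) (F : FrameMap L L' a) :
    CohB1.IsAmple L ↔ CohB1.IsAmple L' := by
  constructor
  · rintro ⟨-, hc, h⟩
    refine ⟨isInvertible_of_frameMap hL F, hc, fun x => ?_⟩
    obtain ⟨n, s, hx, haff⟩ := h x
    obtain ⟨m, t, ht⟩ := exists_succ_to hL ha F s
    exact ⟨m, t, ht ▸ hx, ht ▸ haff⟩
  · rintro ⟨-, hc, h⟩
    refine ⟨hL, hc, fun x => ?_⟩
    obtain ⟨n, s, hx, haff⟩ := h x
    obtain ⟨m, t, ht⟩ := exists_succ_from hL ha F s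
    exact ⟨m, t, ht ▸ hx, ht ▸ haff⟩

theorem isAmple_of_iso (e : L ≅ L') (h : CohB1.IsAmple L) : CohB1.IsAmple L' :=
  (isAmple_iff_of_frameMap h.1 Nat.one_pos (FrameMap.ofIso e)).mp h

theorem isAmple_restrict_iff (U : X.Opens) :
    CohB1.IsAmple (L.restrict U.ι) ↔ CohB1.IsAmple ((Scheme.Modules.pullback U.ι).obj L) :=
  ⟨isAmple_of_iso ((Scheme.Modules.restrictFunctorIsoPullback U.ι).app L),
    isAmple_of_iso ((Scheme.Modules.restrictFunctorIsoPullback U.ι).app L).symm⟩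

/-- Powers. -/
theorem isAmple_tensorPow_iff (hL : PicF.IsInvertible L) {n : ℕ} (hn : 0 < n) :
    CohB1.IsAmple L ↔ CohB1.IsAmple (CohB1.tensorPow L n) :=
  isAmple_iff_of_frameMap hL hn (FrameMap.pow L n)

/-! ### The structure module -/

/-- A function as a section of a power of the structure module. -/
theorem exists_hom_of_fun (f : Γ(X, ⊤)) (K : ℕ) :
    ∃ s : Coh.structureModule X ⟶ CohB1.tensorPow (Coh.structureModule X) K,
      CohB1.genLocus _ s = X.basicOpen f := by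
  obtain ⟨s, hs⟩ := exists_hom_of_cover (L := Coh.structureModule X) (fun _ : Unit => (⊤ : X.Opens))
    (fun x hx => Opens.mem_iSup.mpr ⟨(), hx⟩) (fun _ => one' ⊤) (fun _ => isGen_one ⊤) K (fun _ => f)
    (fun i j u hu => by
      have h1 : u = 1 := ((isGen_one (⊤ : X.Opens)).restrict (inf_le_left : (⊤ : X.Opens) ⊓ ⊤ ≤ ⊤)).injective
        le_rfl (by rw [res_self, one_smul]; exact hu.symm)
      rw [h1, one_pow, one_mul])
  refine ⟨s, ?_⟩
  rw [← (hs ()).2, inf_top_eq]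

/-- The locus of a section of a power of the structure module is a basic open. -/
theorem exists_fun_of_hom {K : ℕ} (s : Coh.structureModule X ⟶ CohB1.tensorPow (Coh.structureModule X) K) :
    ∃ f : Γ(X, ⊤), CohB1.genLocus _ s = X.basicOpen f :=
  ⟨_, (inf_top_eq _).symm.trans (genLocus_inf_eq (isGen_one ⊤) s)⟩

/-- A function as a section of `L^0`. -/
theorem exists_hom_zero (f : Γ(X, ⊤)) :
    ∃ s : Coh.structureModule X ⟶ CohB1.tensorPow L 0, CohB1.genLocus _ s = X.basicOpen f := by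
  refine ⟨homOfSec (L := CohB1.tensorPow L 0) f, ?_⟩
  refine (inf_top_eq _).symm.trans (genLocus_inf (isGen_one ⊤) _ ?_)
  refine (sec_homOfSec (L := CohB1.tensorPow L 0) f ⊤).trans ?_
  exact (res_self (CohB1.tensorPow L 0) le_rfl f).trans (mul_one (M := Γ(X, ⊤)) f).symm

/-! ### Open subschemes -/

/-- Sections of powers over an open subscheme as sections over the open. -/
theorem exists_push (hL : PicF.IsInvertible L) {U : X.Opens} {K : ℕ}
    (s : Coh.structureModule U.toScheme ⟶ CohB1.tensorPow ((Scheme.Modules.pullback U.ι).obj L) K) :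
    ∃ σ : Γ(CohB1.tensorPow L K, U), ∀ (W : X.Opens) (e : Γ(L, W)) (he : IsGen L W e),
      U.ι ''ᵁ CohB1.genLocus _ s ⊓ W =
        X.basicOpen (co K σ (inf_le_left : U ⊓ W ≤ U) (he.restrict inf_le_right)) := by
  have hbij : ∀ W : X.Opens, W ≤ U → Function.Bijective (U.ι.app W) := fun W hW => by
    have : IsIso (U.ι.app W) := U.ι.isIso_app W (hW.trans U.opensRange_ι.ge)
    exact ConcreteCategory.bijective_of_isIso _
  choose c hc using fun (W : X.Opens) (hW : W ≤ U) (e : Γ(L, W)) (he : IsGen L W e) =>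
    (hbij W hW).2 (co K (sec s ⊤) le_top (GenPull.isGen_pb U.ι he))
  obtain ⟨σ, hσ⟩ := exists_of_coeff hL K U c (fun W W' h h' e he => (hbij W' (h'.trans h)).1 (by
      rw [GenPull.app_rres, hc, hc, co_res]
      refine (co_of_eq_smul (u := 1) _ _ _ _ ?_).trans (by rw [one_pow, one_mul])
      rw [one_smul]
      exact LFFrame.unitSec_res U.ι L h' e)) (fun W h e he u hu => (hbij W h).1 (by
      rw [map_mul, map_pow, hc, hc]
      exact (co_of_eq_smul (u := U.ι.app W u) _ _ _ _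
        (LFFrame.unitSec_smul U.ι L W u e)).symm))
  refine ⟨σ, fun W e he => ?_⟩
  rw [hσ _ inf_le_left _ (he.restrict inf_le_right)]
  have h1 := genLocus_inf_eq (GenPull.isGen_pb U.ι (he.restrict (inf_le_right : U ⊓ W ≤ W))) s
  rw [← hc (U ⊓ W) inf_le_left _ (he.restrict inf_le_right), ← Scheme.preimage_basicOpen] at h1
  ext x
  constructor
  · rintro ⟨⟨y, hy, rfl⟩, hxW⟩
    exact (h1.le ⟨hy, y.2, hxW⟩ : y ∈ U.ι ⁻¹ᵁ _)
  · intro hx
    have hxUW := X.basicOpen_le _ hx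
    exact ⟨⟨⟨x, hxUW.1⟩, (h1.ge (show (⟨x, hxUW.1⟩ : U.toScheme) ∈ U.ι ⁻¹ᵁ _ from hx)).1, rfl⟩, hxUW.2⟩

end Groth.Agent.Props.AmpleFrames

end
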