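import Groth.Agent.S9814
import Groth.Agent.Props.AmpleFrames
import Groth.Agent.PicCl.Basic
import Mathlib.AlgebraicGeometry.QuasiAffine
import Mathlib.RingTheory.Ideal.Operations

/-!
# Basic properties of ample invertible modules
-/

universe u

open CategoryTheory Limits AlgebraicGeometry Opposite TopologicalSpace

noncomputable section

namespace Groth.Agent.Props.AmpleBase

open Groth.Agent.QCoh Groth.Agent.Props.GenLocus Groth.Agent.Props.GenTensor Groth.Agent.Props.GenProd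
  Groth.Agent.Props.GenExt Groth.Agent.Props.AmpleFrames

variable {X : Scheme.{u}} {L : X.Modules}

/-- Ampleness from a basis of loci `X_s`. -/
theorem isAmple_of_isBasis [CompactSpace X] (hL : PicF.IsInvertible L)
    (hB : Opens.IsBasis {U : X.Opens | ∃ (n : ℕ) (s : Coh.structureModule X ⟶ CohB1.tensorPow L (n + 1)),
      U = CohB1.genLocus _ s}) : CohB1.IsAmple L := by
  refine ⟨hL, inferInstance, fun x => ?_⟩
  obtain ⟨_, ⟨haff, n, s, rfl⟩, hx, -⟩ := Opens.isBasis_iff_nbhd.mp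
    (S9814.result _ _ hL hB) (U := ⊤) (x := x) trivial
  exact ⟨n, s, hx, haff⟩

/-- A scheme with an ample module is separated. -/
theorem isSeparated_of_isAmple (h : CohB1.IsAmple L) : X.IsSeparated := GenSep.isSeparated h.1 h.2.2

theorem quasiSeparatedSpace_of_isAmple (h : CohB1.IsAmple L) : QuasiSeparatedSpace X :=
  have := isSeparated_of_isAmple h
  inferInstance

/-- A small affine locus around a point. -/
theorem exists_affine_genLocus_le (h : CohB1.IsAmple L) {O : X.Opens} {x : X} (hx : x ∈ O) :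
    ∃ (n : ℕ) (s : Coh.structureModule X ⟶ CohB1.tensorPow L (n + 1)),
      x ∈ CohB1.genLocus _ s ∧ CohB1.genLocus _ s ≤ O ∧ IsAffineOpen (CohB1.genLocus _ s) := by
  obtain ⟨_, ⟨haff, n, s, rfl⟩, hxs, hs⟩ := Opens.isBasis_iff_nbhd.mp
    (S9814.result _ _ h.1 (isBasis_of_isAmple h)) hx
  exact ⟨n, s, hxs, hs, haff⟩

/-- Functions on an open as functions on the open subscheme. -/
lemma image_basicOpen_topIso_inv {U : X.Opens} (φ : Γ(X, U)) :
    U.ι ''ᵁ U.toScheme.basicOpen (U.topIso.inv φ) = X.basicOpen φ :=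
  U.ι_image_basicOpen_topIso_inv φ

/-- An open covered by affine basic opens of its own functions is quasi-affine. -/
theorem isQuasiAffine_opens {U : X.Opens} (hc : IsCompact (U : Set X))
    (H : ∀ x ∈ U, ∃ φ : Γ(X, U), IsAffineOpen (X.basicOpen φ) ∧ x ∈ X.basicOpen φ) :
    U.toScheme.IsQuasiAffine := by
  have : CompactSpace U.toScheme := isCompact_iff_compactSpace.mp hc
  refine Scheme.IsQuasiAffine.of_forall_exists_mem_basicOpen _ fun y => ?_
  obtain ⟨φ, hφ, hyφ⟩ := H y.1 y.2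
  refine ⟨U.topIso.inv φ, ?_, ?_⟩
  · rw [← image_basicOpen_topIso_inv] at hφ
    exact (U.ι.isAffineOpen_iff_of_isOpenImmersion).mp hφ
  · rw [← image_basicOpen_topIso_inv] at hyφ
    obtain ⟨z, hz, hzy⟩ := hyφ
    obtain rfl := Subtype.ext hzy
    exact hz

/-- The loci `X_s` are compact. -/
theorem isCompact_genLocus [CompactSpace X] (hL : PicF.IsInvertible L) {k : ℕ}
    (s : Coh.structureModule X ⟶ CohB1.tensorPow L k) : IsCompact (CohB1.genLocus _ s : Set X) := by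
  obtain ⟨n, W, e, hW, he, hcov⟩ := AmpleCoeff.exists_frame_cover hL
  have : (CohB1.genLocus _ s : Set X) = ⋃ i, (CohB1.genLocus _ s ⊓ W i : X.Opens) := by
    ext x
    refine ⟨fun hx => ?_, fun hx => ?_⟩
    · obtain ⟨i, hi⟩ := Opens.mem_iSup.mp (hcov (trivial : x ∈ (⊤ : X.Opens)))
      exact Set.mem_iUnion.mpr ⟨i, hx, hi⟩
    · obtain ⟨i, hi⟩ := Set.mem_iUnion.mp hx
      exact hi.1
  rw [this]
  refine isCompact_iUnion fun i => ?_
  rw [genLocus_inf_eq (he i) s]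
  exact ((hW i).basicOpen _).isCompact

/-- For an ample module, the loci `X_s` are quasi-affine. -/
theorem isQuasiAffine_genLocus (h : CohB1.IsAmple L) {k : ℕ} (hk : 0 < k)
    (s : Coh.structureModule X ⟶ CohB1.tensorPow L k) :
    (CohB1.genLocus _ s).toScheme.IsQuasiAffine := by
  have := h.2.1
  refine isQuasiAffine_opens (isCompact_genLocus h.1 s) fun x hx => ?_
  obtain ⟨n, t, hxt, hts, htaff⟩ := exists_affine_genLocus_le h hx
  obtain ⟨S, hS⟩ := exists_pow h.1 s (n + 1) (k * (n + 1)) rfl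
  obtain ⟨T, hT⟩ := exists_pow h.1 t k (k * (n + 1)) (Nat.mul_comm _ _)
  have eS := genLocus_pow h.1 s (Nat.succ_pos n) S hS
  have eT := genLocus_pow h.1 t hk T hT
  have gS : IsGen _ (CohB1.genLocus _ s) (sec S (CohB1.genLocus _ s)) := eS ▸ isGen_genLocus S
  obtain ⟨φ, hφ, -⟩ := gS.exists_eq le_rfl (sec T (CohB1.genLocus _ s))
  rw [res_self] at hφ
  have e1 : CohB1.genLocus _ t = X.basicOpen φ := by
    rw [← genLocus_inf gS T hφ, eT, inf_eq_left.mpr hts]
  exact ⟨φ, e1 ▸ htaff, e1 ▸ hxt⟩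

/-- Prime avoidance in a quasi-affine scheme. -/
theorem exists_affine_basicOpen [X.IsQuasiAffine] {W : X.Opens} {E : Set X} (hE : E.Finite)
    (hEW : E ⊆ W) :
    ∃ a : Γ(X, ⊤), IsAffineOpen (X.basicOpen a) ∧ E ⊆ X.basicOpen a ∧ X.basicOpen a ≤ W := by
  classical
  let j := X.toSpecΓ
  obtain ⟨I, hI⟩ := (PrimeSpectrum.isClosed_iff_zeroLocus_ideal _).mp (j ''ᵁ W).2.isClosed_compl
  obtain ⟨a, haI, ha⟩ : ∃ a ∈ I, ∀ x ∈ hE.toFinset, a ∉ (j x).asIdeal := by
    by_contra hc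
    push Not at hc
    have hsub : (I : Set Γ(X, ⊤)) ⊆ ⋃ x ∈ (hE.toFinset : Set X), ((j x).asIdeal : Set _) := by
      intro b hb
      obtain ⟨x, hx, hbx⟩ := hc b hb
      exact Set.mem_iUnion₂.mpr ⟨x, hx, hbx⟩
    rcases hE.toFinset.eq_empty_or_nonempty with he | ⟨x₀, -⟩
    · rw [he] at hsub
      simpa using hsub I.zero_mem
    obtain ⟨x, hx, hle⟩ := (Ideal.subset_union_prime x₀ x₀ fun y _ _ _ => (j y).isPrime).mp hsub
    have h1 : j x ∈ PrimeSpectrum.zeroLocus (I : Set Γ(X, ⊤)) := hle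
    rw [← hI] at h1
    exact h1 ⟨x, hEW (hE.mem_toFinset.mp hx), rfl⟩
  have hsub : ∀ p : PrimeSpectrum Γ(X, ⊤), a ∉ p.asIdeal → p ∈ j ''ᵁ W := fun p hp => by
    by_contra hpW
    have : p ∈ PrimeSpectrum.zeroLocus (I : Set Γ(X, ⊤)) := hI ▸ hpW
    exact hp (this haI)
  refine ⟨a, ?_, fun x hx => ?_, fun x hx => ?_⟩
  · rw [← Scheme.toSpecΓ_preimage_basicOpen, ← Scheme.Hom.isAffineOpen_iff_of_isOpenImmersion j]
    convert! IsAffineOpen.Spec_basicOpen a
    refine SetLike.coe_injective ?_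
    change ⇑j '' (⇑j ⁻¹' (PrimeSpectrum.basicOpen a : Set (PrimeSpectrum Γ(X, ⊤)))) = _
    refine Set.image_preimage_eq_of_subset (f := ⇑j) fun p hp => ?_
    obtain ⟨y, -, hy⟩ := hsub p hp
    exact ⟨y, hy⟩
  · rw [← Scheme.toSpecΓ_preimage_basicOpen]
    exact ha x (hE.mem_toFinset.mpr hx)
  · rw [← Scheme.toSpecΓ_preimage_basicOpen] at hx
    obtain ⟨y, hy, hyx⟩ := hsub _ hx
    rwa [← j.isOpenEmbedding.injective hyx]

/-- Invertibility is local. -/
theorem isInvertible_of_cover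
    (h : ∀ x : X, ∃ U : X.Opens, x ∈ U ∧ PicF.IsInvertible ((Scheme.Modules.pullback U.ι).obj L)) :
    PicF.IsInvertible L := by
  intro x
  obtain ⟨U, hxU, hU⟩ := h x
  obtain ⟨V, hxV, ⟨φ⟩⟩ := hU (⟨x, hxU⟩ : U.toScheme)
  let W : X.Opens := U.ι ''ᵁ V
  let e : W.toScheme ≅ V.toScheme :=
    IsOpenImmersion.isoOfRangeEq W.ι (V.ι ≫ U.ι) (by
      rw [W.range_ι, Scheme.Hom.comp_base, TopCat.coe_comp, Set.range_comp, V.range_ι]
      rfl)
  refine ⟨W, ⟨⟨x, hxU⟩, hxV, rfl⟩, ⟨(Scheme.Modules.restrictFunctorIsoPullback W.ι).app L ≪≫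
    (Scheme.Modules.pullbackCongr (IsOpenImmersion.isoOfRangeEq_hom_fac _ _ _).symm).app L ≪≫
    ((Scheme.Modules.pullbackComp e.hom (V.ι ≫ U.ι)).app L).symm ≪≫
    (Scheme.Modules.pullback e.hom).mapIso
      (((Scheme.Modules.pullbackComp V.ι U.ι).app L).symm ≪≫
        ((Scheme.Modules.restrictFunctorIsoPullback V.ι).app _).symm ≪≫ φ) ≪≫
    QCoh.pullbackUnitIso e.hom⟩⟩

/-- Sections over an open subscheme with affine locus extend, up to high multiples. -/
theorem exists_of_open [CompactSpace X] [QuasiSeparatedSpace X] (hL : PicF.IsInvertible L)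
    (a : Γ(X, ⊤)) {n : ℕ}
    (s : Coh.structureModule (X.basicOpen a).toScheme ⟶
      CohB1.tensorPow ((Scheme.Modules.pullback (X.basicOpen a).ι).obj L) (n + 1)) :
    ∃ t : Coh.structureModule X ⟶ CohB1.tensorPow L (n + 1),
      CohB1.genLocus _ t = (X.basicOpen a).ι ''ᵁ CohB1.genLocus _ s := by
  obtain ⟨σ, hσ⟩ := exists_push hL s
  obtain ⟨sa, hsa⟩ := exists_hom_zero (L := L) a
  obtain ⟨N, hN⟩ := AmpleCoeff.exists_locus hL sa hsa.symm σ hσ
  obtain ⟨t, ht⟩ := hN N le_rfl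
  rw [← ht]
  obtain ⟨K, hK⟩ : ∃ K, K = n + 1 + 0 * N := ⟨_, rfl⟩
  revert t
  rw [← hK]
  intro t _
  obtain rfl : K = n + 1 := by omega
  exact ⟨t, rfl⟩

/-- Ampleness is local for covers by basic opens of global functions. -/
theorem isAmple_of_basicOpen_cover [CompactSpace X] [QuasiSeparatedSpace X]
    (h : ∀ x : X, ∃ a : Γ(X, ⊤), x ∈ X.basicOpen a ∧
      CohB1.IsAmple ((Scheme.Modules.pullback (X.basicOpen a).ι).obj L)) : CohB1.IsAmple L := by
  have hL : PicF.IsInvertible L := isInvertible_of_cover fun x =>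
    let ⟨a, hxa, ha⟩ := h x; ⟨_, hxa, ha.1⟩
  refine ⟨hL, inferInstance, fun x => ?_⟩
  obtain ⟨a, hxa, ha⟩ := h x
  obtain ⟨n, s, hxs, hs⟩ := ha.2.2 ⟨x, hxa⟩
  obtain ⟨t, ht⟩ := exists_of_open hL a s
  exact ⟨n, t, ht ▸ ⟨⟨x, hxa⟩, hxs, rfl⟩, ht ▸ hs.image_of_isOpenImmersion _⟩

end Groth.Agent.Props.AmpleBase

end
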