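import Groth.Agent.Props.AmpleBase

/-!
# Invertible modules on quasi-affine schemes
-/

universe u

open CategoryTheory Limits AlgebraicGeometry Opposite TopologicalSpace

noncomputable section

namespace Groth.Agent.Props.AmpleQA

open Groth.Agent.QCoh Groth.Agent.Props.GenLocus Groth.Agent.Props.GenTensor Groth.Agent.Props.GenProd
  Groth.Agent.Props.GenExt Groth.Agent.Props.AmpleFrames Groth.Agent.Props.AmpleBase

variable {X : Scheme.{u}} {L : X.Modules} {k : ℕ}

lemma co_add (s t : Coh.structureModule X ⟶ CohB1.tensorPow L k) {W : X.Opens} {e : Γ(L, W)}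
    (he : IsGen L W e) :
    co k (sec (s + t) ⊤) le_top he = co k (sec s ⊤) le_top he + co k (sec t ⊤) le_top he := by
  refine co_unique _ _ _ ?_
  rw [add_smul, ← co_spec, ← co_spec, ← map_add]
  rfl

/-- Adding a section vanishing at a point does not change generation there. -/
theorem mem_genLocus_add (hL : PicF.IsInvertible L) (s t : Coh.structureModule X ⟶ CohB1.tensorPow L k)
    {x : X} (hs : x ∉ CohB1.genLocus _ s) (ht : x ∈ CohB1.genLocus _ t) :
    x ∈ CohB1.genLocus _ (s + t) := by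
  obtain ⟨W, e, hxW, he⟩ := exists_isGen hL x
  have key : ∀ r : Coh.structureModule X ⟶ CohB1.tensorPow L k, x ∈ CohB1.genLocus _ r ↔
      IsUnit (X.presheaf.germ W x hxW (co k (sec r ⊤) le_top he)) := fun r => by
    rw [← X.mem_basicOpen _ x hxW, ← genLocus_inf_eq he r]
    exact ⟨fun h => ⟨h, hxW⟩, fun h => h.1⟩
  rw [key] at hs ht ⊢
  rw [co_add, map_add]
  by_contra hc
  refine (IsLocalRing.mem_maximalIdeal _).mp ?_ ht
  have := (IsLocalRing.maximalIdeal (X.presheaf.stalk x)).sub_mem ((IsLocalRing.mem_maximalIdeal _).mpr hc)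
    ((IsLocalRing.mem_maximalIdeal _).mpr hs)
  simpa using this

variable [X.IsQuasiAffine]

/-- Around a point, a section of `L` with affine basic open locus. -/
theorem exists_hom_at (hL : PicF.IsInvertible L) {O : X.Opens} {x : X} (hx : x ∈ O) :
    ∃ (a : Γ(X, ⊤)) (t : Coh.structureModule X ⟶ CohB1.tensorPow L 1),
      x ∈ X.basicOpen a ∧ X.basicOpen a ≤ O ∧ IsAffineOpen (X.basicOpen a) ∧
        CohB1.genLocus _ t = X.basicOpen a := by
  obtain ⟨U, e, hxU, he⟩ := exists_isGen hL x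
  obtain ⟨a, ha, hxa, hle⟩ := exists_affine_basicOpen (W := U ⊓ O) (Set.finite_singleton x)
    (Set.singleton_subset_iff.mpr ⟨hxU, hx⟩)
  have hge : IsGen L (X.basicOpen a) (res L (hle.trans inf_le_left) e) := he.restrict _
  let σ : Γ(CohB1.tensorPow L 1, X.basicOpen a) := pw L (res L (hle.trans inf_le_left) e) 1
  obtain ⟨sa, hsa⟩ := exists_hom_zero (L := L) a
  obtain ⟨N, hN⟩ := AmpleCoeff.exists_locus (O := X.basicOpen a) hL sa hsa.symm σ fun W o ho => by
    obtain ⟨u, hu, hoe⟩ := exists_unit_smul (ho.restrict (inf_le_right : X.basicOpen a ⊓ W ≤ W))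
      (hge.restrict (inf_le_left : X.basicOpen a ⊓ W ≤ X.basicOpen a))
    have h1 : co 1 σ (inf_le_left : X.basicOpen a ⊓ W ≤ X.basicOpen a) (ho.restrict inf_le_right) = u ^ 1 :=
      co_unique _ _ _ (by rw [res_pw, hoe, pw_smul])
    rw [h1, Scheme.basicOpen_of_isUnit _ (hu.pow 1)]
  obtain ⟨t, ht⟩ := hN N le_rfl
  refine ⟨a, ?_⟩
  obtain ⟨K, hK⟩ : ∃ K, K = 1 + 0 * N := ⟨_, rfl⟩
  revert t
  rw [← hK]
  obtain rfl : K = 1 := by omega
  exact fun t ht => ⟨t, hxa rfl, hle.trans inf_le_right, ha, ht⟩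

/-- An invertible module on a quasi-affine scheme is ample. -/
theorem isAmple (hL : PicF.IsInvertible L) : CohB1.IsAmple L := by
  refine ⟨hL, inferInstance, fun x => ?_⟩
  obtain ⟨a, t, hxa, -, ha, ht⟩ := exists_hom_at hL (O := ⊤) (x := x) trivial
  exact ⟨0, t, ht ▸ hxa, ht ▸ ha⟩

/-- A section of `L` generating at finitely many given points. -/
theorem exists_nonvanishing (hL : PicF.IsInvertible L) (E : Finset X) :
    ∃ s : Coh.structureModule X ⟶ CohB1.tensorPow L 1, (E : Set X) ⊆ CohB1.genLocus _ s := by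
  classical
  induction hn : E.card using Nat.strong_induction_on generalizing E with
  | _ n ih =>
    rcases E.eq_empty_or_nonempty with rfl | hne
    · exact ⟨0, by simp⟩
    obtain ⟨q, hq⟩ := (E.image fun y => (X.toSpecΓ y).asIdeal).exists_minimal (hne.image _)
    obtain ⟨z, hz, rfl⟩ := Finset.mem_image.mp hq.1
    obtain ⟨s, hs⟩ := ih (E.erase z).card (hn ▸ Finset.card_erase_lt_of_mem hz) _ rfl
    by_cases hzs : z ∈ CohB1.genLocus _ s
    · exact ⟨s, fun y hy => if h : y = z then h ▸ hzs else hs (by simp [h, Finset.mem_coe.mp hy])⟩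
    obtain ⟨b, hb, hbz⟩ : ∃ b ∈ ∏ y ∈ E.erase z, (X.toSpecΓ y).asIdeal, b ∉ (X.toSpecΓ z).asIdeal := by
      refine SetLike.not_le_iff_exists.mp fun hle => ?_
      obtain ⟨y, hy, hyz⟩ := ((X.toSpecΓ z).isPrime.prod_le).mp hle
      have h2 := hq.eq_of_le (Finset.mem_image_of_mem _ (Finset.mem_of_mem_erase hy)) hyz
      exact Finset.ne_of_mem_erase hy
        (X.toSpecΓ.isOpenEmbedding.injective (PrimeSpectrum.ext h2))
    obtain ⟨a, t, hza, -, -, ht⟩ := exists_hom_at hL (O := ⊤) (x := z) trivial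
    obtain ⟨sb, hsb⟩ := exists_hom_zero (L := L) b
    obtain ⟨r, hr⟩ := exists_mul hL sb t 1 rfl
    have hloc := genLocus_mul hL sb t r hr
    rw [hsb, ← Scheme.toSpecΓ_preimage_basicOpen] at hloc
    refine ⟨s + r, fun y hy => ?_⟩
    by_cases h : y = z
    · subst h
      exact mem_genLocus_add hL s r hzs (hloc.ge ⟨hbz, ht ▸ hza⟩)
    · rw [add_comm]
      refine mem_genLocus_add hL r s (fun hyr => ?_) (hs (by simp [h, Finset.mem_coe.mp hy]))
      have hle : ∏ w ∈ E.erase z, (X.toSpecΓ w).asIdeal ≤ (X.toSpecΓ y).asIdeal :=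
        Ideal.prod_le_inf.trans (Finset.inf_le (Finset.mem_erase.mpr ⟨h, hy⟩))
      exact (hloc.le hyr).1 (hle hb)

/-- A section of `L` with affine locus between a finite set and an open. -/
theorem exists_hom_affine (hL : PicF.IsInvertible L) {W : X.Opens} {E : Set X} (hE : E.Finite)
    (hEW : E ⊆ W) :
    ∃ s : Coh.structureModule X ⟶ CohB1.tensorPow L 1, IsAffineOpen (CohB1.genLocus _ s) ∧
      E ⊆ CohB1.genLocus _ s ∧ CohB1.genLocus _ s ≤ W := by
  obtain ⟨s, hs⟩ := exists_nonvanishing hL hE.toFinset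
  rw [hE.coe_toFinset] at hs
  obtain ⟨a, haff, hEa, haW⟩ := exists_affine_basicOpen (W := CohB1.genLocus _ s ⊓ W) hE
    (fun x hx => ⟨hs hx, hEW hx⟩)
  obtain ⟨sa, hsa⟩ := exists_hom_zero (L := L) a
  obtain ⟨r, hr⟩ := exists_mul hL sa s 1 rfl
  have hloc := genLocus_mul hL sa s r hr
  rw [hsa, inf_eq_left.mpr (haW.trans inf_le_left)] at hloc
  exact ⟨r, hloc ▸ haff, hloc ▸ hEa, hloc ▸ haW.trans inf_le_right⟩

end Groth.Agent.Props.AmpleQA

end
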