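import Groth.Agent.AmpleLib.Rel
import Groth.Agent.AmpleLib.Basic
import Groth.Agent.Props.AmpleFrames

/-!
# Products of sections of two invertible modules
-/

set_option autoImplicit false

universe u

open CategoryTheory Limits AlgebraicGeometry Opposite TopologicalSpace

noncomputable section

namespace Groth.Agent.Props.AmpleTensor

open Groth.Agent.QCoh Groth.Agent.Props.GenLocus Groth.Agent.Props.GenTensor Groth.Agent.Props.GenProd
  Groth.Agent.Props.GenExt Groth.Agent.Props.AmpleFrames Groth.Agent.AmpleLib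

variable {X : Scheme.{u}} {L M N : X.Modules}

/-- A pairing sending pairs of frames of `L` and `M` to frames of `N`, with weights `a`, `b`. -/
structure FrameMap2 (L M N : X.Modules) (a b : ℕ) where
  φ : ∀ {W : X.Opens}, Γ(L, W) → Γ(M, W) → Γ(N, W)
  res_φ : ∀ {W V : X.Opens} (h : V ≤ W) (e : Γ(L, W)) (f : Γ(M, W)),
    res N h (φ e f) = φ (res L h e) (res M h f)
  φ_smul : ∀ {W : X.Opens} (u v : Γ(X, W)) (e : Γ(L, W)) (f : Γ(M, W)),
    φ (u • e) (v • f) = (u ^ a * v ^ b) • φ e f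
  isGen : ∀ {W : X.Opens} {e : Γ(L, W)} {f : Γ(M, W)}, IsGen L W e → IsGen M W f →
    IsGen N W (φ e f)

/-- The tensor product. -/
def FrameMap2.tensor (L M : X.Modules) : FrameMap2 L M (CohB1.tensorMod L M) 1 1 where
  φ e f := tmul e f
  res_φ h e f := res_tmul h e f
  φ_smul u v e f := by rw [tmul_smul_left, tmul_smul_right, smul_smul, pow_one, pow_one]
  isGen he hf := isGen_tmul he hf

/-- Composition with a map of frames. -/
def FrameMap2.compMap {a b : ℕ} (F : FrameMap2 L M N a b) {N' : X.Modules} {c : ℕ}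
    (G : FrameMap N N' c) : FrameMap2 L M N' (a * c) (b * c) where
  φ e f := G.φ (F.φ e f)
  res_φ h e f := by rw [G.res_φ, F.res_φ]
  φ_smul u v e f := by rw [F.φ_smul, G.φ_smul, mul_pow, pow_mul, pow_mul]
  isGen he hf := G.isGen (F.isGen he hf)

/-- A power of the first module, tensored with the second. -/
def FrameMap2.powTensor (L M : X.Modules) (n : ℕ) :
    FrameMap2 L M (CohB1.tensorMod (CohB1.tensorPow L n) M) n 1 where
  φ e f := tmul (pw L e n) f
  res_φ h e f := by rw [res_tmul, res_pw]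
  φ_smul u v e f := by rw [pw_smul, tmul_smul_left, tmul_smul_right, smul_smul, pow_one]
  isGen he hf := isGen_tmul (isGen_pw he n) hf

/-- Frames of both modules at a point of an open. -/
theorem exists_pair (hL : PicF.IsInvertible L) (hM : PicF.IsInvertible M) {O : X.Opens} {x : X}
    (hx : x ∈ O) : ∃ (W : X.Opens) (e : Γ(L, W)) (f : Γ(M, W)),
      x ∈ W ∧ W ≤ O ∧ IsGen L W e ∧ IsGen M W f := by
  obtain ⟨U, e, hxU, he⟩ := exists_isGen hL x
  obtain ⟨V, f, hxV, hf⟩ := exists_isGen hM x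
  exact ⟨U ⊓ V ⊓ O, res L (inf_le_left.trans inf_le_left) e, res M (inf_le_left.trans inf_le_right) f,
    ⟨⟨hxU, hxV⟩, hx⟩, inf_le_right, he.restrict _, hf.restrict _⟩

theorem isInvertible (hL : PicF.IsInvertible L) (hM : PicF.IsInvertible M) {a b : ℕ}
    (F : FrameMap2 L M N a b) : PicF.IsInvertible N :=
  isInvertible_of_exists_isGen fun x =>
    let ⟨W, e, f, hx, _, he, hf⟩ := exists_pair hL hM (O := ⊤) (x := x) trivial
    ⟨W, F.φ e f, hx, F.isGen he hf⟩

/-- The product of sections of `L^(a m)` and `M^(b m)` as a section of `N^m`. -/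
theorem exists_mul_sec (hL : PicF.IsInvertible L) (hM : PicF.IsInvertible M) {a b : ℕ}
    (F : FrameMap2 L M N a b) {m K K' : ℕ} (hK : K = a * m) (hK' : K' = b * m) {O : X.Opens}
    (σ : Γ(CohB1.tensorPow L K, O)) (τ : Γ(CohB1.tensorPow M K', O)) :
    ∃ r : Γ(CohB1.tensorPow N m, O), locus r = locus σ ⊓ locus τ := by
  let ι := {p : Σ W : X.Opens, Γ(L, W) × Γ(M, W) // p.1 ≤ O ∧ IsGen L p.1 p.2.1 ∧ IsGen M p.1 p.2.2}
  have hcov : O ≤ iSup fun i : ι => i.1.1 := fun x hx => by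
    obtain ⟨W, e, f, hxW, hWO, he, hf⟩ := exists_pair hL hM hx
    exact Opens.mem_iSup.mpr ⟨(⟨⟨W, e, f⟩, hWO, he, hf⟩ : ι), hxW⟩
  let c : ∀ i : ι, Γ(X, i.1.1) := fun i => co K σ i.2.1 i.2.2.1 * co K' τ i.2.1 i.2.2.2
  obtain ⟨r, hr⟩ := exists_glue (CohB1.tensorPow N m) (U := fun i : ι => i.1.1) (fun i => i.2.1) hcov
    (fun i => c i • pw N (F.φ i.1.2.1 i.1.2.2) m) (by
      rintro ⟨⟨W, e, f⟩, hW, he, hf⟩ ⟨⟨W', e', f'⟩, hW', he', hf'⟩
      obtain ⟨u, -, hu⟩ := exists_unit_smul (he.restrict (inf_le_left : W ⊓ W' ≤ W))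
        (he'.restrict (inf_le_right : W ⊓ W' ≤ W'))
      obtain ⟨v, -, hv⟩ := exists_unit_smul (hf.restrict (inf_le_left : W ⊓ W' ≤ W))
        (hf'.restrict (inf_le_right : W ⊓ W' ≤ W'))
      simp only [c, res_smul, map_mul, res_pw, F.res_φ, co_res]
      have hF := F.φ_smul u v (res L (inf_le_left : W ⊓ W' ≤ W) e) (res M (inf_le_left : W ⊓ W' ≤ W) f)
      rw [← hu, ← hv] at hF
      rw [hF, pw_smul, smul_smul, mul_pow, ← pow_mul, ← pow_mul, ← hK, ← hK',
        co_of_eq_smul σ _ _ (he'.restrict inf_le_right) hu,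
        co_of_eq_smul τ _ _ (hf'.restrict inf_le_right) hv]
      congr 1
      ring)
  refine ⟨r, ?_⟩
  ext x
  by_cases hxO : x ∈ O
  · obtain ⟨W, e, f, hxW, hWO, he, hf⟩ := exists_pair hL hM hxO
    have h0 := locus_inf hWO (isGen_pw (F.isGen he hf) m) r (hr (⟨⟨W, e, f⟩, hWO, he, hf⟩ : ι))
    simp only [c, Scheme.basicOpen_mul] at h0
    rw [← locus_inf_eq hWO he σ, ← locus_inf_eq hWO hf τ] at h0
    have h1 := congrArg (fun V : X.Opens => x ∈ V) h0
    simp only [Opens.mem_inf, hxW, and_true, eq_iff_iff] at h1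
    exact h1
  · exact ⟨fun h => absurd (locus_le _ h) hxO, fun h => absurd (locus_le _ h.1) hxO⟩

/-- The product of global sections. -/
theorem exists_mul_hom (hL : PicF.IsInvertible L) (hM : PicF.IsInvertible M) {a b : ℕ}
    (F : FrameMap2 L M N a b) {m K K' : ℕ} (hK : K = a * m) (hK' : K' = b * m)
    (s : Coh.structureModule X ⟶ CohB1.tensorPow L K)
    (t : Coh.structureModule X ⟶ CohB1.tensorPow M K') :
    ∃ r : Coh.structureModule X ⟶ CohB1.tensorPow N m,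
      CohB1.genLocus _ r = CohB1.genLocus _ s ⊓ CohB1.genLocus _ t := by
  obtain ⟨r, hr⟩ := exists_mul_sec hL hM F hK hK' (sec s ⊤) (sec t ⊤)
  exact ⟨homOfSec r, by rw [genLocus_homOfSec, hr, genLocus_eq_locus, genLocus_eq_locus]⟩

/-- The product of sections of arbitrary positive powers. -/
theorem exists_succ_hom (hL : PicF.IsInvertible L) (hM : PicF.IsInvertible M) {a b : ℕ} (ha : 0 < a)
    (hb : 0 < b) (F : FrameMap2 L M N a b) {n n' : ℕ}
    (s : Coh.structureModule X ⟶ CohB1.tensorPow L (n + 1))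
    (t : Coh.structureModule X ⟶ CohB1.tensorPow M (n' + 1)) :
    ∃ (j : ℕ) (r : Coh.structureModule X ⟶ CohB1.tensorPow N (j + 1)),
      CohB1.genLocus _ r = CohB1.genLocus _ s ⊓ CohB1.genLocus _ t := by
  obtain ⟨σ, hσ⟩ := exists_pow_section hL (sec s ⊤) (Nat.mul_pos ha n'.succ_pos)
    (a * ((n + 1) * (n' + 1))) (by simp only [Nat.succ_eq_add_one]; ring)
  obtain ⟨τ, hτ⟩ := exists_pow_section hM (sec t ⊤) (Nat.mul_pos hb n.succ_pos)
    (b * ((n + 1) * (n' + 1))) (by simp only [Nat.succ_eq_add_one]; ring)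
  obtain ⟨r, hr⟩ := exists_mul_sec hL hM F rfl rfl σ τ
  obtain ⟨j, q, hq⟩ := exists_succ (Nat.mul_pos n.succ_pos n'.succ_pos) (homOfSec r)
  exact ⟨j, q, by rw [hq, genLocus_homOfSec, hr, hσ, hτ, genLocus_eq_locus, genLocus_eq_locus]⟩

/-- `L` ample and `M` with pointwise generated powers give an ample product. -/
theorem isAmple_of_frameMap2 (hL : CohB1.IsAmple L) (hM : PicF.IsInvertible M) {a b : ℕ}
    (ha : 0 < a) (hb : 0 < b) (F : FrameMap2 L M N a b)
    (h : ∀ x : X, ∃ (n : ℕ) (t : Coh.structureModule X ⟶ CohB1.tensorPow M (n + 1)),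
      x ∈ CohB1.genLocus _ t) : CohB1.IsAmple N := by
  refine ⟨isInvertible hL.1 hM F, hL.2.1, fun x => ?_⟩
  obtain ⟨n, s, hxs, hs⟩ := hL.2.2 x
  obtain ⟨n', t, hxt⟩ := h x
  obtain ⟨j, r, hr⟩ := exists_succ_hom hL.1 hM ha hb F s t
  refine ⟨j, r, hr ▸ ⟨hxs, hxt⟩, hr ▸ ?_⟩
  rw [inf_comm]
  exact isAffineOpen_inf_genLocus (AmpleLib.isInvertible_tensorPow hM _) t hs

/-- The product of two modules ample on an open is ample there. -/
theorem ampleOn_of_frameMap2 (hL : PicF.IsInvertible L) (hM : PicF.IsInvertible M) {a b : ℕ}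
    (ha : 0 < a) (hb : 0 < b) (F : FrameMap2 L M N a b) {O : X.Opens}
    (hLO : AmpleOn L O) (hMO : AmpleOn M O) : AmpleOn N O := by
  refine ⟨hLO.1, fun x hx => ?_⟩
  obtain ⟨n, σ, hxσ, hσa⟩ := hLO.2 x hx
  obtain ⟨n', τ, hxτ, hτa⟩ := hMO.2 x hx
  obtain ⟨σ', hσ⟩ := exists_pow_section hL σ (Nat.mul_pos ha n'.succ_pos)
    (a * ((n + 1) * (n' + 1))) (by simp only [Nat.succ_eq_add_one]; ring)
  obtain ⟨τ', hτ⟩ := exists_pow_section hM τ (Nat.mul_pos hb n.succ_pos)
    (b * ((n + 1) * (n' + 1))) (by simp only [Nat.succ_eq_add_one]; ring)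
  obtain ⟨j, hj⟩ := Nat.exists_eq_add_one.mpr (Nat.mul_pos n.succ_pos n'.succ_pos)
  obtain ⟨r, hr⟩ := exists_mul_sec hL hM F (m := j + 1) (hj ▸ rfl) (hj ▸ rfl) σ' τ'
  rw [hσ, hτ] at hr
  refine ⟨j, r, hr ▸ ⟨hxσ, hxτ⟩, hr ▸ ?_⟩
  haveI := isSeparated_of_ampleOn hL hLO
  have key : ∀ {P : X.Opens}, P ≤ O → IsAffineOpen P → IsAffineOpen (O.ι ⁻¹ᵁ P) := fun {P} hP hPa => by
    rw [← O.ι.isAffineOpen_iff_of_isOpenImmersion, Scheme.Hom.image_preimage_eq_opensRange_inf,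
      Scheme.Opens.opensRange_ι, inf_eq_right.mpr hP]
    exact hPa
  have h1 := ((key (locus_le σ) hσa).inf (key (locus_le τ) hτa)).image_of_isOpenImmersion O.ι
  rwa [← Scheme.Hom.preimage_inf, Scheme.Hom.image_preimage_eq_opensRange_inf,
    Scheme.Opens.opensRange_ι, inf_eq_right.mpr (inf_le_left.trans (locus_le σ))] at h1

end Groth.Agent.Props.AmpleTensor

end
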