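import Groth.Agent.Props.GenPull

/-!
# The external tensor product of invertible modules and products of sections
-/

universe u

open CategoryTheory Limits AlgebraicGeometry Opposite TopologicalSpace

noncomputable section

namespace Groth.Agent.Props.GenBox

open Groth.Agent.QCoh Groth.Agent.Props.GenLocus Groth.Agent.Props.GenTensor Groth.Agent.Props.GenProd
  Groth.Agent.Props.GenExt Groth.Agent.Props.GenPull

variable {P X Y : Scheme.{u}} (p : P ⟶ X) (q : P ⟶ Y) {L : X.Modules} {N : Y.Modules}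

/-- The external tensor product. -/
abbrev box (L : X.Modules) (N : Y.Modules) : P.Modules :=
  CohB1.tensorMod ((Scheme.Modules.pullback p).obj L) ((Scheme.Modules.pullback q).obj N)

/-- The external tensor product of two sections. -/
abbrev boxSec {U : X.Opens} {V : Y.Opens} (e : Γ(L, U)) (e' : Γ(N, V)) :
    Γ(box p q L N, p ⁻¹ᵁ U ⊓ q ⁻¹ᵁ V) :=
  tmul (res _ inf_le_left (pb p e)) (res _ inf_le_right (pb q e'))

theorem isGen_box {U : X.Opens} {V : Y.Opens} {e : Γ(L, U)} {e' : Γ(N, V)} (he : IsGen L U e)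
    (he' : IsGen N V e') : IsGen (box p q L N) (p ⁻¹ᵁ U ⊓ q ⁻¹ᵁ V) (boxSec p q e e') :=
  isGen_tmul ((isGen_pb p he).restrict _) ((isGen_pb q he').restrict _)

theorem isInvertible_box (hL : PicF.IsInvertible L) (hN : PicF.IsInvertible N) :
    PicF.IsInvertible (box p q L N) := by
  intro x
  obtain ⟨U, e, hxU, he⟩ := exists_isGen hL (p x)
  obtain ⟨V, e', hxV, he'⟩ := exists_isGen hN (q x)
  exact ⟨p ⁻¹ᵁ U ⊓ q ⁻¹ᵁ V, ⟨hxU, hxV⟩,
    ((isGen_iff_isFrame _).mp (isGen_box p q he he')).nonempty_restrict_iso⟩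

lemma co_change {X : Scheme.{u}} {L : X.Modules} {K : ℕ} (σ : Γ(CohB1.tensorPow L K, ⊤))
    {W W' : X.Opens} {e : Γ(L, W)} {e' : Γ(L, W')} (he : IsGen L W e) (he' : IsGen L W' e')
    {u : Γ(X, W ⊓ W')}
    (hu : res L (inf_le_right : W ⊓ W' ≤ W') e' = u • res L (inf_le_left : W ⊓ W' ≤ W) e) :
    rres (inf_le_left : W ⊓ W' ≤ W) (co K σ le_top he) =
      u ^ K * rres (inf_le_right : W ⊓ W' ≤ W') (co K σ le_top he') := by
  rw [co_res, co_res]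
  exact co_of_eq_smul _ _ _ _ hu

/-- The external product of two sections of powers of the same degree. -/
theorem exists_box (hL : PicF.IsInvertible L) (hN : PicF.IsInvertible N) {K : ℕ}
    (s : Coh.structureModule X ⟶ CohB1.tensorPow L K) (t : Coh.structureModule Y ⟶ CohB1.tensorPow N K) :
    ∃ r : Coh.structureModule P ⟶ CohB1.tensorPow (box p q L N) K,
      CohB1.genLocus _ r = p ⁻¹ᵁ CohB1.genLocus _ s ⊓ q ⁻¹ᵁ CohB1.genLocus _ t := by
  let ι := {a : Σ U : X.Opens, Γ(L, U) // IsGen L a.1 a.2} × {b : Σ V : Y.Opens, Γ(N, V) // IsGen N b.1 b.2}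
  obtain ⟨r, hr⟩ := exists_hom_of_cover (L := box p q L N)
    (fun i : ι => p ⁻¹ᵁ i.1.1.1 ⊓ q ⁻¹ᵁ i.2.1.1) (by
      intro x _
      obtain ⟨U, e, hxU, he⟩ := exists_isGen hL (p x)
      obtain ⟨V, e', hxV, he'⟩ := exists_isGen hN (q x)
      exact Opens.mem_iSup.mpr ⟨(⟨⟨⟨U, e⟩, he⟩, ⟨⟨V, e'⟩, he'⟩⟩ : ι), hxU, hxV⟩)
    (fun i => boxSec p q i.1.1.2 i.2.1.2) (fun i => isGen_box p q i.1.2 i.2.2) K
    (fun i => rres inf_le_left (p.app i.1.1.1 (co K (sec s ⊤) le_top i.1.2)) *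
      rres inf_le_right (q.app i.2.1.1 (co K (sec t ⊤) le_top i.2.2))) (by
      rintro ⟨⟨⟨U, e⟩, he⟩, ⟨⟨V, f⟩, hf⟩⟩ ⟨⟨⟨U', e'⟩, he'⟩, ⟨⟨V', f'⟩, hf'⟩⟩ u' hu'
      obtain ⟨a, -, ha⟩ := exists_unit_smul (he.restrict (inf_le_left : U ⊓ U' ≤ U))
        (he'.restrict (inf_le_right : U ⊓ U' ≤ U'))
      obtain ⟨b, -, hb⟩ := exists_unit_smul (hf.restrict (inf_le_left : V ⊓ V' ≤ V))
        (hf'.restrict (inf_le_right : V ⊓ V' ≤ V'))
      let O : P.Opens := (p ⁻¹ᵁ U ⊓ q ⁻¹ᵁ V) ⊓ (p ⁻¹ᵁ U' ⊓ q ⁻¹ᵁ V')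
      have hOU : O ≤ p ⁻¹ᵁ (U ⊓ U') := fun x hx => ⟨hx.1.1, hx.2.1⟩
      have hOV : O ≤ q ⁻¹ᵁ (V ⊓ V') := fun x hx => ⟨hx.1.2, hx.2.2⟩
      have h1 := congrArg (LFFrame.unitSec p L (U ⊓ U')) ha
      have h2 := congrArg (LFFrame.unitSec q N (V ⊓ V')) hb
      rw [LFFrame.unitSec_smul, LFFrame.unitSec_res, LFFrame.unitSec_res] at h1 h2
      have h1' := congrArg (res ((Scheme.Modules.pullback p).obj L) hOU) h1
      have h2' := congrArg (res ((Scheme.Modules.pullback q).obj N) hOV) h2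
      rw [res_smul, res_res, res_res] at h1' h2'
      have hu : u' = rres hOU (p.app (U ⊓ U') a) * rres hOV (q.app (V ⊓ V') b) := by
        refine ((isGen_box p q he hf).restrict (inf_le_left : O ≤ _)).injective le_rfl ?_
        rw [res_self]
        refine hu'.symm.trans ?_
        rw [res_tmul, res_tmul, res_res, res_res, res_res, res_res]
        refine (congrArg₂ tmul h1' h2').trans ?_
        rw [tmul_smul_left, tmul_smul_right, smul_smul]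
      have h3 := congrArg (fun z => rres hOU (p.app (U ⊓ U') z)) (co_change (sec s ⊤) he he' ha)
      have h4 := congrArg (fun z => rres hOV (q.app (V ⊓ V') z)) (co_change (sec t ⊤) hf hf' hb)
      simp only [map_mul, map_pow, app_rres, rres_rres] at h3 h4 ⊢
      rw [hu, mul_pow, h3, h4]
      ring)
  refine ⟨r, ?_⟩
  ext x
  obtain ⟨U, e, hxU, he⟩ := exists_isGen hL (p x)
  obtain ⟨V, e', hxV, he'⟩ := exists_isGen hN (q x)
  have h1 := (hr (⟨⟨⟨U, e⟩, he⟩, ⟨⟨V, e'⟩, he'⟩⟩ : ι)).2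
  rw [Scheme.basicOpen_mul, Scheme.basicOpen_res, Scheme.basicOpen_res, ← Scheme.preimage_basicOpen p,
    ← Scheme.preimage_basicOpen q, ← genLocus_inf_eq he s, ← genLocus_inf_eq he' t] at h1
  have h2 := congrArg (fun O : P.Opens => x ∈ O) h1
  simp only [Opens.mem_inf, eq_iff_iff, SetLike.mem_coe] at h2 ⊢
  have hA : x ∈ p ⁻¹ᵁ U := hxU
  have hB : x ∈ q ⁻¹ᵁ V := hxV
  have e1 : x ∈ p ⁻¹ᵁ (CohB1.genLocus _ s ⊓ U) ↔ x ∈ p ⁻¹ᵁ CohB1.genLocus _ s ∧ x ∈ p ⁻¹ᵁ U :=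
    Iff.rfl
  have e2 : x ∈ q ⁻¹ᵁ (CohB1.genLocus _ t ⊓ V) ↔ x ∈ q ⁻¹ᵁ CohB1.genLocus _ t ∧ x ∈ q ⁻¹ᵁ V :=
    Iff.rfl
  rw [e1, e2] at h2
  tauto

end Groth.Agent.Props.GenBox

end
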