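import Groth.Agent.Props.QProj
import Mathlib.RingTheory.LocalRing.Module
import Mathlib.LinearAlgebra.Dimension.Constructions
import Mathlib.RingTheory.OrzechProperty
import Mathlib.LinearAlgebra.Dimension.OrzechProperty

/-!
# Generators and ranks of quasi-coherent modules of finite type
-/

universe u

open CategoryTheory Limits AlgebraicGeometry Opposite TopologicalSpace
open scoped TensorProduct

noncomputable section

namespace Groth.Agent.Props.QRank

open Groth.Agent.QCoh Groth.Agent.Props.QStalk Groth.Agent.PullStalk.Sky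

variable {X : Scheme.{u}} (M : X.Modules)

/-- The fibre dimension at a point. -/
abbrev fibreRank (x : X) : ℕ :=
  Module.finrank (IsLocalRing.ResidueField (X.presheaf.stalk x))
    (IsLocalRing.ResidueField (X.presheaf.stalk x) ⊗[X.presheaf.stalk x] M.presheaf.stalk x)

lemma fibreRank_eq_of_free (x : X) [Module.Free (X.presheaf.stalk x) (M.presheaf.stalk x)] :
    fibreRank M x = Module.finrank (X.presheaf.stalk x) (M.presheaf.stalk x) :=
  Module.finrank_baseChange

variable [M.IsQuasicoherent]

/-- As many generators near `x` as the fibre dimension at `x`. -/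
theorem exists_generators {U : X.Opens} (hU : IsAffineOpen U) [Module.Finite Γ(X, U) Γ(M, U)]
    {x : X} (hx : x ∈ U) {O : X.Opens} (hO : x ∈ O) :
    ∃ g : Γ(X, U), x ∈ X.basicOpen g ∧ X.basicOpen g ≤ O ∧
      ∃ m : Fin (fibreRank M x) → Γ(M, X.basicOpen g),
        Submodule.span Γ(X, X.basicOpen g) (Set.range m) = ⊤ := by
  classical
  let _ := moduleSections M hx
  let _ := X.presheaf.algebra_section_stalk ⟨x, hx⟩
  have : IsScalarTower Γ(X, U) (X.presheaf.stalk x) (M.presheaf.stalk x) :=
    IsScalarTower.of_algebraMap_smul fun _ _ ↦ rfl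
  have hL := isLocalizedModule_germLin M hx hU
  have hA : IsLocalization.AtPrime (X.presheaf.stalk x) (hU.primeIdealOf ⟨x, hx⟩).asIdeal :=
    hU.isLocalization_stalk ⟨x, hx⟩
  have := QProj.finite_stalk M hU hx
  let S := (hU.primeIdealOf ⟨x, hx⟩).asIdeal.primeCompl
  let k := IsLocalRing.ResidueField (X.presheaf.stalk x)
  let b : Module.Basis (Fin (fibreRank M x)) k (k ⊗[X.presheaf.stalk x] M.presheaf.stalk x) :=
    Module.finBasisOfFinrankEq k _ rfl
  have hsurj : Function.Surjective
      (TensorProduct.mk (X.presheaf.stalk x) k (M.presheaf.stalk x) 1) :=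
    TensorProduct.mk_surjective _ _ _ IsLocalRing.residue_surjective
  choose f hf using fun i => hsurj (b i)
  have hspan : Submodule.span (X.presheaf.stalk x) (Set.range f) = ⊤ :=
    IsLocalRing.span_eq_top_of_tmul_eq_basis f b hf
  choose ms hms using fun i => IsLocalizedModule.surj S (germLin M hx) (f i)
  let N : Submodule Γ(X, U) Γ(M, U) := Submodule.span Γ(X, U) (Set.range fun i => (ms i).1)
  have key : ∀ s : Γ(M, U), ∃ a ∈ S, a • s ∈ N := by
    intro s
    have P : ∀ t : M.presheaf.stalk x, ∃ a ∈ S, ∃ v ∈ N, a • t = germLin M hx v := by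
      intro t
      have ht : t ∈ Submodule.span (X.presheaf.stalk x) (Set.range f) := hspan ▸ Submodule.mem_top
      induction ht using Submodule.span_induction with
      | mem y hy =>
        obtain ⟨i, rfl⟩ := hy
        exact ⟨(ms i).2.1, (ms i).2.2, (ms i).1, Submodule.subset_span ⟨i, rfl⟩, hms i⟩
      | zero => exact ⟨1, one_mem S, 0, zero_mem _, by simp⟩
      | add y z _ _ hy hz =>
        obtain ⟨a, ha, v, hv, e⟩ := hy
        obtain ⟨a', ha', v', hv', e'⟩ := hz
        refine ⟨a * a', mul_mem ha ha', a' • v + a • v',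
          add_mem (N.smul_mem _ hv) (N.smul_mem _ hv'), ?_⟩
        rw [smul_add, map_add, map_smul, map_smul, ← e, ← e', smul_smul, smul_smul, mul_comm a a']
      | smul c y _ hy =>
        obtain ⟨a, ha, v, hv, e⟩ := hy
        obtain ⟨⟨r, q⟩, hr⟩ := IsLocalization.surj S c
        refine ⟨q.1 * a, mul_mem q.2 ha, r • v, N.smul_mem _ hv, ?_⟩
        rw [map_smul, ← e, mul_smul, smul_comm a c y, ← algebraMap_smul (X.presheaf.stalk x) q.1,
          smul_smul, mul_comm _ c, hr, algebraMap_smul]
    obtain ⟨a, ha, v, hv, e⟩ := P (germLin M hx s)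
    rw [← map_smul] at e
    obtain ⟨c, hc⟩ := IsLocalizedModule.exists_of_eq (S := S) e
    refine ⟨c.1 * a, mul_mem c.2 ha, ?_⟩
    rw [mul_smul, ← Submonoid.smul_def, hc]
    exact N.smul_mem _ hv
  obtain ⟨σ, hσ⟩ := (‹Module.Finite Γ(X, U) Γ(M, U)›).fg_top
  choose a haS haN using fun s : σ => key s.1
  have hunit : ∀ c : Γ(X, U), c ∈ S → x ∈ X.basicOpen c := fun c hc =>
    (X.mem_basicOpen c x hx).mpr ((IsLocalization.AtPrime.isUnit_to_map_iff (X.presheaf.stalk x)
      (hU.primeIdealOf ⟨x, hx⟩).asIdeal c).mpr hc)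
  obtain ⟨g₀, hg₀O, hxg₀⟩ := hU.exists_basicOpen_le ⟨x, hO⟩ hx
  refine ⟨g₀ * ∏ s, a s, ?_, ?_, fun i => resLin M _ (ms i).1, ?_⟩
  · rw [Scheme.basicOpen_mul]
    exact ⟨hxg₀, hunit _ (prod_mem fun s _ => haS s)⟩
  · rw [Scheme.basicOpen_mul]
    exact inf_le_left.trans hg₀O
  have : Fact (IsAffineOpen U) := ⟨hU⟩
  have := hU.isLocalization_basicOpen (g₀ * ∏ s, a s)
  set g := g₀ * ∏ s, a s with hgdef
  set T := Submodule.span Γ(X, X.basicOpen g) (Set.range fun i => resLin M g (ms i).1)
  have hgN : ∀ s : Γ(M, U), g • s ∈ N := by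
    intro s
    have hs : s ∈ Submodule.span Γ(X, U) (σ : Set Γ(M, U)) := hσ ▸ Submodule.mem_top
    induction hs using Submodule.span_induction with
    | mem y hy =>
      rw [hgdef, ← Finset.prod_erase_mul _ _ (Finset.mem_univ (⟨y, hy⟩ : σ)), ← mul_assoc,
        mul_smul]
      exact N.smul_mem _ (haN ⟨y, hy⟩)
    | zero => simp
    | add y z _ _ hy hz => rw [smul_add]; exact add_mem hy hz
    | smul c y _ hy => rw [smul_comm]; exact N.smul_mem _ hy
  have hNT : ∀ v ∈ N, resLin M g v ∈ T := by
    intro v hv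
    induction hv using Submodule.span_induction with
    | mem y hy =>
      obtain ⟨i, rfl⟩ := hy
      exact Submodule.subset_span ⟨i, rfl⟩
    | zero => simp
    | add y z _ _ hy hz => rw [map_add]; exact add_mem hy hz
    | smul c y _ hy =>
      rw [map_smul, ← algebraMap_smul Γ(X, X.basicOpen g) c]
      exact T.smul_mem _ hy
  rw [eq_top_iff, ← span_eq_top_of_isLocalizedModule Γ(X, X.basicOpen g)
    (Submonoid.powers g) (resLin M g) (Submodule.span_univ), Submodule.span_le]
  rintro _ ⟨s, -, rfl⟩
  obtain ⟨w, hw⟩ := IsLocalization.Away.algebraMap_isUnit (S := Γ(X, X.basicOpen g)) g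
  have h2 := hNT _ (hgN s)
  rw [map_smul, ← algebraMap_smul Γ(X, X.basicOpen g) g, ← hw] at h2
  have h3 := T.smul_mem (↑w⁻¹ : Γ(X, X.basicOpen g)) h2
  rwa [smul_smul, w.inv_mul, one_smul] at h3

/-- Generators of a quasi-coherent module span the stalks. -/
theorem span_germ_eq_top {W : X.Opens} (hW : IsAffineOpen W) {n : ℕ} {m : Fin n → Γ(M, W)}
    (hm : Submodule.span Γ(X, W) (Set.range m) = ⊤) {y : X} (hy : y ∈ W) :
    Submodule.span (X.presheaf.stalk y) (Set.range fun i => germM M W y hy (m i)) = ⊤ := by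
  let _ := moduleSections M hy
  let _ := X.presheaf.algebra_section_stalk ⟨y, hy⟩
  have : IsScalarTower Γ(X, W) (X.presheaf.stalk y) (M.presheaf.stalk y) :=
    IsScalarTower.of_algebraMap_smul fun _ _ ↦ rfl
  have hL := isLocalizedModule_germLin M hy hW
  have hA : IsLocalization.AtPrime (X.presheaf.stalk y) (hW.primeIdealOf ⟨y, hy⟩).asIdeal :=
    hW.isLocalization_stalk ⟨y, hy⟩
  have := span_eq_top_of_isLocalizedModule (X.presheaf.stalk y)
    (hW.primeIdealOf ⟨y, hy⟩).asIdeal.primeCompl (germLin M hy) hm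
  rwa [← Set.range_comp] at this

/-- The relation among generators, in the stalk. -/
lemma germ_relation {W : X.Opens} {n : ℕ} (m : Fin n → Γ(M, W)) (v : Fin n → Γ(X, W))
    (hv : ∑ i, v i • m i = 0) {y : X} (hy : y ∈ W) :
    ∑ i, X.presheaf.germ W y hy (v i) • germM M W y hy (m i) = 0 := by
  let _ := moduleSections M hy
  have := congrArg (germLin M hy) hv
  rw [map_zero, map_sum] at this
  simp only [map_smul] at this
  exact this

/-- Generators in the number of the rank of the free stalks form a basis. -/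
theorem basis_of_free_stalks {W : X.Opens} (hW : IsAffineOpen W) {n : ℕ} (m : Fin n → Γ(M, W))
    (hm : Submodule.span Γ(X, W) (Set.range m) = ⊤)
    (hfree : ∀ y ∈ W, Module.Free (X.presheaf.stalk y) (M.presheaf.stalk y) ∧
      Module.finrank (X.presheaf.stalk y) (M.presheaf.stalk y) = n) :
    Nonempty (Module.Basis (Fin n) Γ(X, W) Γ(M, W)) := by
  have hfin : Module.Finite Γ(X, W) Γ(M, W) := Module.finite_def.mpr
    ⟨(Set.finite_range m).toFinset, by rw [Set.Finite.coe_toFinset, hm]⟩
  refine ⟨Module.Basis.mk (Fintype.linearIndependent_iff.mpr fun v hv i => ?_) hm.ge⟩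
  refine TopCat.Presheaf.section_ext X.sheaf W (v i) 0 fun y hy => ?_
  obtain ⟨hf, hr⟩ := hfree y hy
  have := QProj.finite_stalk M hW hy
  let e : (Fin n → X.presheaf.stalk y) ≃ₗ[X.presheaf.stalk y] M.presheaf.stalk y :=
    ((Module.finBasisOfFinrankEq _ _ hr).equivFun).symm
  let φ : (Fin n → X.presheaf.stalk y) →ₗ[X.presheaf.stalk y] M.presheaf.stalk y :=
    Fintype.linearCombination (X.presheaf.stalk y) fun i => germM M W y hy (m i)
  have hφ : Function.Surjective φ := by
    rw [← LinearMap.range_eq_top, Fintype.range_linearCombination]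
    exact span_germ_eq_top M hW hm hy
  have hinj : Function.Injective φ := by
    have h' := OrzechProperty.injective_of_surjective_endomorphism (e.symm.toLinearMap ∘ₗ φ)
      (e.symm.surjective.comp hφ)
    exact fun a b hab => h' (congrArg e.symm hab)
  have h0 : φ (fun i => X.presheaf.germ W y hy (v i)) = φ 0 := by
    rw [map_zero]
    exact germ_relation M m v hv hy
  exact (congrFun (hinj h0) i).trans (map_zero _).symm

/-- Generators in the number of the fibre dimensions form a basis on a reduced scheme. -/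
theorem basis_of_isReduced [IsReduced X] {W : X.Opens} (hW : IsAffineOpen W) {n : ℕ}
    (m : Fin n → Γ(M, W)) (hm : Submodule.span Γ(X, W) (Set.range m) = ⊤)
    (hrank : ∀ y ∈ W, fibreRank M y = n) :
    Nonempty (Module.Basis (Fin n) Γ(X, W) Γ(M, W)) := by
  refine ⟨Module.Basis.mk (Fintype.linearIndependent_iff.mpr fun v hv i => ?_) hm.ge⟩
  rw [← basicOpen_eq_bot_iff (X := X), ← SetLike.coe_set_eq, Opens.coe_bot,
    Set.eq_empty_iff_forall_notMem]
  intro y hy
  have hyW : y ∈ W := X.basicOpen_le _ hy
  have hu := (X.mem_basicOpen (v i) y hyW).mp hy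
  let k := IsLocalRing.ResidueField (X.presheaf.stalk y)
  let w : Fin n → k ⊗[X.presheaf.stalk y] M.presheaf.stalk y :=
    fun i => 1 ⊗ₜ germM M W y hyW (m i)
  have hspan : Submodule.span k (Set.range w) = ⊤ := by
    rw [eq_top_iff]
    rintro t -
    induction t using TensorProduct.induction_on with
    | zero => exact zero_mem _
    | add a b ha hb => exact add_mem ha hb
    | tmul c t =>
      have ht : t ∈ Submodule.span (X.presheaf.stalk y)
          (Set.range fun i => germM M W y hyW (m i)) :=
        span_germ_eq_top M hW hm hyW ▸ Submodule.mem_top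
      induction ht using Submodule.span_induction with
      | mem z hz =>
        obtain ⟨j, rfl⟩ := hz
        have : c ⊗ₜ[X.presheaf.stalk y] germM M W y hyW (m j) = c • w j := by
          rw [TensorProduct.smul_tmul', smul_eq_mul, mul_one]
        rw [this]
        exact Submodule.smul_mem _ _ (Submodule.subset_span ⟨j, rfl⟩)
      | zero => simp
      | add a b _ _ ha hb => rw [TensorProduct.tmul_add]; exact add_mem ha hb
      | smul r z _ hz =>
        rw [TensorProduct.tmul_smul, ← algebraMap_smul k r]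
        exact Submodule.smul_mem _ _ hz
  have hcard : Fintype.card (Fin n) = Module.finrank k (k ⊗[X.presheaf.stalk y] M.presheaf.stalk y) :=
    (Fintype.card_fin n).trans (hrank y hyW).symm
  have hli := linearIndependent_of_top_le_span_of_card_eq_finrank hspan.ge hcard
  have h0 := congrArg (TensorProduct.mk (X.presheaf.stalk y) k (M.presheaf.stalk y) 1)
    (germ_relation M m v hv hyW)
  rw [map_zero, map_sum] at h0
  simp only [map_smul, TensorProduct.mk_apply] at h0
  simp only [← algebraMap_smul k (X.presheaf.germ W y hyW _)] at h0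
  have := Fintype.linearIndependent_iff.mp hli _ h0 i
  exact (hu.map (algebraMap (X.presheaf.stalk y) k)).ne_zero this

/-- Finite type, free stalks and locally constant rank imply finite locally free. -/
theorem isFinLocFree_of_free (hFT : SheafOfModules.IsFiniteType.{u} M)
    (hfree : ∀ x : X, Module.Free (X.presheaf.stalk x) (M.presheaf.stalk x))
    (hloc : IsLocallyConstant (fibreRank M)) : FlatMod.IsFinLocFree M := fun x => by
  obtain ⟨U, hU, hx, -⟩ := exists_isAffineOpen_mem_and_subset (X := X) (Opens.mem_top x)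
  have := finite_sections_of_isFiniteType M hU
  obtain ⟨g, hxg, hgO, m, hm⟩ := exists_generators M hU hx
    (O := ⟨fibreRank M ⁻¹' {fibreRank M x}, hloc.isOpen_fiber _⟩) rfl
  obtain ⟨b⟩ := basis_of_free_stalks M (hU.basicOpen g) m hm fun y hy =>
    ⟨hfree y, by
      have := hfree y
      exact (fibreRank_eq_of_free M y).symm.trans (hgO hy)⟩
  obtain ⟨k, hk⟩ := QProj.nonempty_restrict_iso_free M (hU.basicOpen g) b
  exact ⟨_, k, hxg, hk⟩

/-- On a reduced scheme, finite type and locally constant rank imply finite locally free. -/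
theorem isFinLocFree_of_isReduced [IsReduced X] (hFT : SheafOfModules.IsFiniteType.{u} M)
    (hloc : IsLocallyConstant (fibreRank M)) : FlatMod.IsFinLocFree M := fun x => by
  obtain ⟨U, hU, hx, -⟩ := exists_isAffineOpen_mem_and_subset (X := X) (Opens.mem_top x)
  have := finite_sections_of_isFiniteType M hU
  obtain ⟨g, hxg, hgO, m, hm⟩ := exists_generators M hU hx
    (O := ⟨fibreRank M ⁻¹' {fibreRank M x}, hloc.isOpen_fiber _⟩) rfl
  obtain ⟨b⟩ := basis_of_isReduced M (hU.basicOpen g) m hm fun y hy => hgO hy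
  obtain ⟨k, hk⟩ := QProj.nonempty_restrict_iso_free M (hU.basicOpen g) b
  exact ⟨_, k, hxg, hk⟩

/-- Finite locally free modules have locally constant fibre dimension. -/
theorem isLocallyConstant_fibreRank (h : FlatMod.IsFinLocFree M) :
    IsLocallyConstant (fibreRank M) := by
  refine (IsLocallyConstant.iff_exists_open _).mpr fun x => ?_
  obtain ⟨V, n, hxV, ⟨e⟩⟩ := h x
  obtain ⟨W, hW, hxW, hWV⟩ := exists_isAffineOpen_mem_and_subset hxV
  refine ⟨W, W.2, hxW, fun y hy => ?_⟩
  have key : ∀ z ∈ W, fibreRank M z = n := by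
    intro z hz
    obtain ⟨b⟩ := QProj.free_sections_of_restrict_iso M e hW hWV
    have := (QProj.free_stalk M h z).1
    rw [fibreRank_eq_of_free]
    let _ := moduleSections M hz
    let _ := X.presheaf.algebra_section_stalk ⟨z, hz⟩
    have : IsScalarTower Γ(X, W) (X.presheaf.stalk z) (M.presheaf.stalk z) :=
      IsScalarTower.of_algebraMap_smul fun _ _ ↦ rfl
    have hL := isLocalizedModule_germLin M hz hW
    have hA : IsLocalization.AtPrime (X.presheaf.stalk z) (hW.primeIdealOf ⟨z, hz⟩).asIdeal :=
      hW.isLocalization_stalk ⟨z, hz⟩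
    have : Module.Free Γ(X, W) Γ(M, W) := .of_basis b
    have : Nontrivial Γ(X, W) := (algebraMap Γ(X, W) (X.presheaf.stalk z)).domain_nontrivial
    rw [Module.finrank_of_isLocalizedModule_of_free (X.presheaf.stalk z)
      (hW.primeIdealOf ⟨z, hz⟩).asIdeal.primeCompl (germLin M hz),
      Module.finrank_eq_card_basis b, Fintype.card_fin]
  rw [key y hy, key x hxW]

end Groth.Agent.Props.QRank

end
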