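import Groth.Agent.Props.SubSheaf
import Groth.Agent.Props.QStalk
import Groth.Agent.QCoh.Qcqs

/-!
# Extending quasi-coherent modules from open subschemes
-/

universe u

open CategoryTheory Limits AlgebraicGeometry Opposite TopologicalSpace

noncomputable section

namespace Groth.Agent.Props.SubExt

open Groth.Agent.QCoh Groth.Agent.Props.QStalk Groth.Agent.PullStalk.Sky Groth.Agent.Props.SubMod
  Groth.Agent.Props.SubSheaf

variable {X : Scheme.{u}}

instance preservesFiniteLimits_restrict (U : X.Opens) :
    PreservesFiniteLimits (Scheme.Modules.restrictFunctor U.ι) := by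
  have : ReflectsFiniteLimits (Scheme.Modules.toPresheaf (U : Scheme.{u})) := by
    constructor
    intro J _ _
    exact reflectsLimitsOfShape_of_reflectsIsomorphisms
  have hw : PreservesFiniteLimits ((Functor.whiskeringLeft _ _ Ab.{u}).obj U.ι.opensFunctor.op) := by
    constructor
    intro J _ _
    infer_instance
  have h : PreservesFiniteLimits
      (Scheme.Modules.restrictFunctor U.ι ⋙ Scheme.Modules.toPresheaf _) :=
    comp_preservesFiniteLimits (Scheme.Modules.toPresheaf X)
      ((Functor.whiskeringLeft _ _ Ab.{u}).obj U.ι.opensFunctor.op)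
  exact preservesFiniteLimits_of_reflects_of_preserves (Scheme.Modules.restrictFunctor U.ι)
    (Scheme.Modules.toPresheaf _)

/-- A biproduct of quasi-coherent modules is quasi-coherent. -/
theorem isQuasicoherent_biprod (A B : X.Modules) [A.IsQuasicoherent] [B.IsQuasicoherent] :
    (A ⊞ B).IsQuasicoherent :=
  @QCoh.isQuasicoherent_X₂ _ (ShortComplex.mk (biprod.inl : A ⟶ A ⊞ B) biprod.snd biprod.inl_snd)
    (ShortComplex.Splitting.ofHasBinaryBiproduct A B).shortExact ‹_› ‹_›

/-- Finite type is invariant under isomorphism. -/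
theorem isFiniteType_of_iso {Z : Scheme.{u}} {A B : Z.Modules} (e : A ≅ B) [A.IsQuasicoherent]
    (hA : SheafOfModules.IsFiniteType.{u} A) : SheafOfModules.IsFiniteType.{u} B := by
  have : B.IsQuasicoherent := QCoh.isQuasicoherent_of_iso e
  rw [QCoh.isFiniteType_iff]
  intro V hV
  have := QCoh.finite_sections_of_isFiniteType A hV
  let f : Γ(A, V) →ₗ[Γ(Z, V)] Γ(B, V) :=
    { toFun := e.hom.app V, map_add' := map_add _,
      map_smul' := fun r a => Scheme.Modules.Hom.app_smul e.hom r a }
  exact Module.Finite.of_surjective f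
    (ConcreteCategory.bijective_of_isIso (e.hom.app V)).2

variable (U : X.Opens)

/-- `(j_* G)|_U ≅ G`. -/
def restrictPushIso (G : (U : Scheme.{u}).Modules) :
    ((Scheme.Modules.pushforward U.ι).obj G).restrict U.ι ≅ G :=
  (asIso (Scheme.Modules.restrictAdjunction U.ι).counit).app G

variable {U} in
/-- A module of finite type on `U` gives a finitely generated family on `U`. -/
theorem ftOn_top {M : X.Modules} [M.IsQuasicoherent]
    (hM : SheafOfModules.IsFiniteType.{u} (M.restrict U.ι)) :
    FTOn (fun _ => ⊤ : StalkSub M) U := by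
  intro x hx
  obtain ⟨V₀, hV₀, hxV₀, -⟩ :=
    exists_isAffineOpen_mem_and_subset (X := (U : Scheme.{u})) (Opens.mem_top ⟨x, hx⟩)
  obtain ⟨s, hs⟩ := (QCoh.finite_sections_of_isFiniteType (M.restrict U.ι) hV₀).fg_top
  let V : X.Opens := U.ι ''ᵁ V₀
  have hV : IsAffineOpen V := hV₀.image_of_isOpenImmersion U.ι
  let s' : Finset Γ(M, V) := s
  refine ⟨V, hV, ⟨⟨x, hx⟩, hxV₀, rfl⟩, (U.ι.image_le_opensRange _).trans U.opensRange_ι.le, s',
    fun y hy => ?_⟩
  symm
  rw [eq_top_iff]
  have key : ∀ m : Γ(M.restrict U.ι, V₀), germM M V y hy m ∈ spanGerm (s' : Set Γ(M, V)) y hy := by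
    intro m
    have hm : m ∈ Submodule.span Γ((U : Scheme.{u}), V₀) (s : Set Γ(M.restrict U.ι, V₀)) :=
      hs ▸ Submodule.mem_top
    induction hm using Submodule.span_induction with
    | mem z hz => exact Submodule.subset_span ⟨z, hz, rfl⟩
    | zero =>
      change M.presheaf.germ V y hy 0 ∈ spanGerm (s' : Set Γ(M, V)) y hy
      simp only [map_zero, zero_mem]
    | add a b _ _ ha hb =>
      change M.presheaf.germ V y hy ((show Γ(M, V) from a) + (show Γ(M, V) from b)) ∈
        spanGerm (s' : Set Γ(M, V)) y hy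
      simp only [map_add]
      exact add_mem ha hb
    | smul r a _ ha =>
      have e : (show Γ(M, V) from r • a) = (U.ι.appIso V₀).inv r • (show Γ(M, V) from a) :=
        restrict_smul U.ι M r a
      exact (congrArg (germM M V y hy) e).trans (germM_smul M V y hy _ _) ▸
        Submodule.smul_mem _ _ ha
  intro t _
  let _ := moduleSections M hy
  let _ := X.presheaf.algebra_section_stalk ⟨y, hy⟩
  have : IsScalarTower Γ(X, V) (X.presheaf.stalk y) (M.presheaf.stalk y) :=
    IsScalarTower.of_algebraMap_smul fun _ _ ↦ rfl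
  have hL := isLocalizedModule_germLin M hy hV
  have hA : IsLocalization.AtPrime (X.presheaf.stalk y) (hV.primeIdealOf ⟨y, hy⟩).asIdeal :=
    hV.isLocalization_stalk ⟨y, hy⟩
  obtain ⟨⟨m, a⟩, ht⟩ := IsLocalizedModule.surj (hV.primeIdealOf ⟨y, hy⟩).asIdeal.primeCompl
    (germLin M hy) t
  obtain ⟨w, hw⟩ := IsLocalization.map_units (X.presheaf.stalk y) a
  have ht' : algebraMap Γ(X, V) (X.presheaf.stalk y) a.1 • t ∈ spanGerm (s' : Set Γ(M, V)) y hy := by
    rw [algebraMap_smul, ← Submonoid.smul_def, ht]
    exact key m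
  rw [← hw] at ht'
  have := Submodule.smul_mem _ (↑w⁻¹ : X.presheaf.stalk y) ht'
  rwa [smul_smul, w.inv_mul, one_smul] at this

/-- A finite type module on a compact open extends. -/
theorem exists_finiteType_extension [CompactSpace X] [QuasiSeparatedSpace X]
    (hU : IsCompact (U : Set X)) (G : (U : Scheme.{u}).Modules) [G.IsQuasicoherent]
    (hG : SheafOfModules.IsFiniteType.{u} G) :
    ∃ G' : X.Modules, G'.IsQuasicoherent ∧ SheafOfModules.IsFiniteType.{u} G' ∧
      Nonempty (G'.restrict U.ι ≅ G) := by
  have : CompactSpace U := isCompact_iff_compactSpace.mp hU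
  have : QuasiCompact U.ι := inferInstance
  let M : X.Modules := (Scheme.Modules.pushforward U.ι).obj G
  have : M.IsQuasicoherent := QCoh.isQuasicoherent_pushforward U.ι G
  have hM : SheafOfModules.IsFiniteType.{u} (M.restrict U.ι) :=
    isFiniteType_of_iso (restrictPushIso U G).symm hG
  obtain ⟨S', hS', h1, -⟩ := exists_global hU (ftOn_top hM)
  have := isIso_restrict_incl (S := S') (U := U) h1
  exact ⟨sub S', isQuasicoherent_sub hS', isFiniteType_sub hS',
    ⟨asIso ((Scheme.Modules.restrictFunctor U.ι).map (incl S')) ≪≫ restrictPushIso U G⟩⟩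

/-- Through a given section over an affine open passes a finite type submodule. -/
theorem exists_sub_through_section [CompactSpace X] [QuasiSeparatedSpace X] (F : X.Modules)
    [F.IsQuasicoherent] (W : X.Opens) (hW : IsAffineOpen W) (s : Γ(F, W)) :
    ∃ (S : StalkSub F), FTOn S ⊤ ∧ s ∈ Set.range ((incl S).app W) := by
  classical
  let S₀ : StalkSub F := fun y => if hy : y ∈ W then spanGerm ({s} : Set Γ(F, W)) y hy else ⊥
  have h0 : GenBy S₀ W ({s} : Set Γ(F, W)) := fun y hy => dif_pos hy
  have hS₀ : FTOn S₀ W := fun x hx => ⟨W, hW, hx, le_rfl, {s}, by rwa [Finset.coe_singleton]⟩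
  obtain ⟨S', hS', h1, -⟩ := exists_global hW.isCompact hS₀
  refine ⟨S', hS', (mem_range_incl S' s).mpr fun y hy => ?_⟩
  rw [h1 y hy, h0 y hy]
  exact Submodule.subset_span ⟨s, rfl, rfl⟩

/-- A map to a restriction extends, by pulling back the pushforward. -/
theorem exists_extension_with_map [QuasiCompact U.ι] (F : X.Modules) [F.IsQuasicoherent]
    (G : (U : Scheme.{u}).Modules) [G.IsQuasicoherent] (φ : G ⟶ F.restrict U.ι) :
    ∃ (H : X.Modules) (ψ : H ⟶ F) (e : H.restrict U.ι ≅ G), H.IsQuasicoherent ∧
      e.hom ≫ φ = (Scheme.Modules.restrictFunctor U.ι).map ψ := by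
  let R := Scheme.Modules.restrictFunctor U.ι
  let P := Scheme.Modules.pushforward U.ι
  let adj := Scheme.Modules.restrictAdjunction U.ι
  let η : F ⟶ P.obj (R.obj F) := adj.unit.app F
  let A : X.Modules := P.obj G
  let B : X.Modules := P.obj (R.obj F)
  have hA : A.IsQuasicoherent := QCoh.isQuasicoherent_pushforward U.ι G
  have hRF : (R.obj F).IsQuasicoherent := Scheme.Modules.isQuasicoherent_restrictFunctor U.ι F
  have hB : B.IsQuasicoherent := QCoh.isQuasicoherent_pushforward U.ι (R.obj F)
  let H := pullback (P.map φ) η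
  have sq := IsPullback.of_hasPullback (P.map φ) η
  have sq' := sq.map R
  have hη : IsIso (R.map η) := by
    have h := adj.left_triangle_components F
    have : IsIso (R.map η ≫ adj.counit.app (R.obj F)) := by rw [h]; infer_instance
    exact IsIso.of_isIso_comp_right _ (adj.counit.app (R.obj F))
  have hfst : IsIso (R.map (pullback.fst (P.map φ) η)) :=
    sq'.isIso_fst_of_isIso
  refine ⟨H, pullback.snd (P.map φ) η,
    asIso (R.map (pullback.fst (P.map φ) η)) ≪≫ restrictPushIso U G, ?_, ?_⟩
  · have : (A ⊞ F).IsQuasicoherent := isQuasicoherent_biprod A F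
    let d : A ⊞ F ⟶ B := biprod.desc (P.map φ) (-η)
    have : (kernel d).IsQuasicoherent := QCoh.isQuasicoherent_kernel d
    exact QCoh.isQuasicoherent_of_iso (M := kernel d)
      ((kernelIsKernel d).conePointUniqueUpToIso
        (Abelian.PullbackToBiproductIsKernel.isLimitPullbackToBiproduct (P.map φ) η))
  · change (R.map _ ≫ adj.counit.app G) ≫ φ = _
    have hn : adj.counit.app G ≫ φ = R.map (P.map φ) ≫ adj.counit.app (R.obj F) :=
      (adj.counit.naturality φ).symm
    rw [Category.assoc, hn, ← Category.assoc, ← R.map_comp, pullback.condition, R.map_comp,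
      Category.assoc, adj.left_triangle_components, Category.comp_id]

end Groth.Agent.Props.SubExt

end
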