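import Groth.Agent.S9815
import Groth.Agent.Props.AmpleBase
import Groth.Prelude.Def_LCI2
import Mathlib.AlgebraicGeometry.Morphisms.Separated

/-!
# Relatively ample modules
-/

universe u

open CategoryTheory Limits AlgebraicGeometry Opposite TopologicalSpace

noncomputable section

namespace Groth.Agent.Props.AmpleRel

open Groth.Agent.Props.GenProd Groth.Agent.Props.AmpleFrames Groth.Agent.Props.AmpleBase

variable {X Y : Scheme.{u}} {L : X.Modules}

theorem isAmple_comp_iff {A B : Scheme.{u}} (h : A ⟶ B) (g : B ⟶ X) :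
    CohB1.IsAmple ((Scheme.Modules.pullback h).obj ((Scheme.Modules.pullback g).obj L)) ↔
      CohB1.IsAmple ((Scheme.Modules.pullback (h ≫ g)).obj L) :=
  ⟨isAmple_of_iso ((Scheme.Modules.pullbackComp h g).app L),
    isAmple_of_iso ((Scheme.Modules.pullbackComp h g).app L).symm⟩

theorem isAmple_restrict_restrict_iff (U : X.Opens) (W : U.toScheme.Opens) :
    CohB1.IsAmple ((L.restrict U.ι).restrict W.ι) ↔
      CohB1.IsAmple ((Scheme.Modules.pullback (W.ι ≫ U.ι)).obj L) := by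
  let e : (L.restrict U.ι).restrict W.ι ≅ (Scheme.Modules.pullback (W.ι ≫ U.ι)).obj L :=
    (Scheme.Modules.restrictFunctorIsoPullback W.ι).app _ ≪≫
      (Scheme.Modules.pullback W.ι).mapIso ((Scheme.Modules.restrictFunctorIsoPullback U.ι).app L) ≪≫
      (Scheme.Modules.pullbackComp W.ι U.ι).app L
  exact ⟨isAmple_of_iso e, isAmple_of_iso e.symm⟩

/-- Ampleness passes to quasi-compact subspaces. -/
theorem isAmple_of_range_subset {A B : Scheme.{u}} (h : A ⟶ X) (hh : Topology.IsEmbedding h)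
    [CompactSpace A] (k : B ⟶ X) [IsOpenImmersion k] (hle : Set.range h ⊆ Set.range k)
    (H : CohB1.IsAmple ((Scheme.Modules.pullback k).obj L)) :
    CohB1.IsAmple ((Scheme.Modules.pullback h).obj L) := by
  let φ := IsOpenImmersion.lift k h hle
  have hφ : φ ≫ k = h := IsOpenImmersion.lift_fac _ _ _
  have hemb : Topology.IsEmbedding φ := by
    refine Topology.IsEmbedding.of_comp φ.continuous k.continuous ?_
    rw [← TopCat.coe_comp, ← Scheme.Hom.comp_base, hφ]
    exact hh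
  have h1 := (isAmple_comp_iff φ k).mp (Groth.Agent.S9815.result φ hemb _ H)
  rwa [hφ] at h1

theorem isAmple_pullback_opens (h : CohB1.IsAmple L) {U : X.Opens} (hU : IsCompact (U : Set X)) :
    CohB1.IsAmple ((Scheme.Modules.pullback U.ι).obj L) :=
  have : CompactSpace U.toScheme := isCompact_iff_compactSpace.mp hU
  Groth.Agent.S9815.result U.ι U.ι.isOpenEmbedding.isEmbedding L h

variable {f : X ⟶ Y}

theorem isAmple_pullback_preimage (h : RelAmple.IsRelAmple f L) (V : Y.affineOpens) :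
    CohB1.IsAmple ((Scheme.Modules.pullback (f ⁻¹ᵁ V.1).ι).obj L) :=
  (isAmple_restrict_iff _).mp (h.2 V)

theorem isInvertible_of_isRelAmple (h : RelAmple.IsRelAmple f L) : PicF.IsInvertible L := by
  refine isInvertible_of_cover fun x => ?_
  obtain ⟨V, hV, hxV, -⟩ := exists_isAffineOpen_mem_and_subset (U := (⊤ : Y.Opens)) (x := f x) trivial
  exact ⟨f ⁻¹ᵁ V, hxV, (isAmple_pullback_preimage h ⟨V, hV⟩).1⟩

variable (f) in
theorem isSeparated_of_cover
    (H : ∀ y : Y, ∃ V : Y.Opens, y ∈ V ∧ CohB1.IsAmple ((Scheme.Modules.pullback (f ⁻¹ᵁ V).ι).obj L)) :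
    IsSeparated f := by
  choose V hyV hV using H
  refine (IsZariskiLocalAtTarget.iff_of_iSup_eq_top (P := @IsSeparated) V
    (top_le_iff.mp fun y _ => Opens.mem_iSup.mpr ⟨y, hyV y⟩)).mpr fun y => ?_
  have := AmpleBase.isSeparated_of_isAmple (hV y)
  have : IsSeparated ((f ∣_ V y) ≫ terminal.from _) := by rw [terminal.comp_from]; infer_instance
  exact IsSeparated.of_comp _ (terminal.from _)

variable (f) in
/-- Relative ampleness may be checked on an affine cover of the base. -/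
theorem isRelAmple_of_cover [QuasiCompact f]
    (H : ∀ y : Y, ∃ V : Y.Opens, IsAffineOpen V ∧ y ∈ V ∧
      CohB1.IsAmple ((Scheme.Modules.pullback (f ⁻¹ᵁ V).ι).obj L)) : RelAmple.IsRelAmple f L := by
  have : IsSeparated f := isSeparated_of_cover f fun y => let ⟨V, _, hy, hV⟩ := H y; ⟨V, hy, hV⟩
  refine ⟨inferInstance, fun ⟨V, hV⟩ => (isAmple_restrict_iff _).mpr ?_⟩
  let X' := (f ⁻¹ᵁ V).toScheme
  have : CompactSpace X' := isCompact_iff_compactSpace.mp (f.isCompact_preimage hV.isCompact)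
  have : IsAffine V.toScheme := hV
  have : QuasiSeparatedSpace X' := quasiSeparatedSpace_of_quasiSeparated (f ∣_ V)
  refine isAmple_of_basicOpen_cover fun x => ?_
  obtain ⟨V₀, hV₀, hxV₀, hamp⟩ := H (f x.1)
  obtain ⟨g, g', hgg', hxg⟩ := exists_basicOpen_le_affine_inter hV hV₀ (f x.1) ⟨x.2, hxV₀⟩
  let a : Γ(X', ⊤) := (f ⁻¹ᵁ V).topIso.inv (f.app V g)
  have ha : (f ⁻¹ᵁ V).ι ''ᵁ X'.basicOpen a = f ⁻¹ᵁ Y.basicOpen g :=
    ((f ⁻¹ᵁ V).ι_image_basicOpen_topIso_inv (f.app V g)).trans (Scheme.preimage_basicOpen f g).symm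
  have hxa : x ∈ X'.basicOpen a := by
    obtain ⟨y, hy, hyx⟩ := ha.ge (show x.1 ∈ f ⁻¹ᵁ Y.basicOpen g from hxg)
    obtain rfl := Subtype.ext hyx
    exact hy
  refine ⟨a, hxa, (isAmple_comp_iff _ _).mpr ?_⟩
  have : CompactSpace (X'.basicOpen a).toScheme := by
    refine isCompact_iff_compactSpace.mp ?_
    rw [(f ⁻¹ᵁ V).ι.isOpenEmbedding.isEmbedding.isCompact_iff]
    have hc := f.isCompact_preimage (hV.basicOpen g).isCompact
    rwa [← ha] at hc
  refine isAmple_of_range_subset _ ((Scheme.Hom.isOpenEmbedding _).isEmbedding) (f ⁻¹ᵁ V₀).ι ?_ hamp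
  rintro _ ⟨z, rfl⟩
  rw [Scheme.Opens.range_ι]
  have hz : (f ⁻¹ᵁ V).ι z.1 ∈ f ⁻¹ᵁ Y.basicOpen g := ha.le ⟨z.1, z.2, rfl⟩
  rw [hgg'] at hz
  exact Y.basicOpen_le g' hz

variable (f) in
theorem isRelAmple_iff_isAmple [IsAffine Y] [QuasiCompact f] :
    RelAmple.IsRelAmple f L ↔ CohB1.IsAmple L := by
  have hc : CompactSpace X := QuasiCompact.compactSpace_of_compactSpace f
  constructor
  · intro h
    have h1 := isAmple_pullback_preimage h ⟨⊤, isAffineOpen_top Y⟩
    have h2 : CohB1.IsAmple ((Scheme.Modules.pullback (𝟙 X)).obj L) :=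
      isAmple_of_range_subset _ Topology.IsEmbedding.id _
        (fun x _ => by rw [Scheme.Opens.range_ι]; trivial) h1
    exact isAmple_of_iso ((Scheme.Modules.pullbackId X).app L) h2
  · intro h
    refine isRelAmple_of_cover f fun y => ⟨⊤, isAffineOpen_top Y, trivial, ?_⟩
    exact isAmple_pullback_opens h isCompact_univ

end Groth.Agent.Props.AmpleRel

end
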