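import Groth.Agent.Props.SubSheaf
import Groth.Agent.ClUnit.Basic
import Groth.Prelude.Def_Dual3
import Mathlib.AlgebraicGeometry.Morphisms.FinitePresentation
import Mathlib.CategoryTheory.Adjunction.FullyFaithful

/-!
# Sections killed by the ideal of a closed immersion; the right adjoint of `i_*`
-/

universe u

open CategoryTheory Limits AlgebraicGeometry Opposite TopologicalSpace

noncomputable section

namespace Groth.Agent.Props.KilledSub

open Groth.Agent.QCoh Groth.Agent.PullStalk.Sky Groth.Agent.Props.SubSheaf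

variable {Z X : Scheme.{u}} (i : Z ⟶ X) (F : X.Modules)

/-- Germs killed by the germs of the ideal of `i`. -/
def killed : SubMod.StalkSub F := fun x =>
  Submodule.torsionBySet (X.presheaf.stalk x) (F.presheaf.stalk x)
    {r | ∃ (U : X.affineOpens) (a : Γ(X, U.1)) (hx : x ∈ U.1),
      a ∈ i.ker.ideal U ∧ X.presheaf.germ U.1 x hx a = r}

lemma mem_killed {x : X} {t : F.presheaf.stalk x} :
    t ∈ killed i F x ↔ ∀ (U : X.affineOpens) (a : Γ(X, U.1)) (hx : x ∈ U.1),
      a ∈ i.ker.ideal U → X.presheaf.germ U.1 x hx a • t = 0 := by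
  rw [killed, Submodule.mem_torsionBySet_iff]
  exact ⟨fun h U a hx ha => h ⟨_, U, a, hx, ha, rfl⟩,
    fun h => fun ⟨_, U, a, hx, ha, hr⟩ => hr ▸ h U a hx ha⟩

/-- The subsheaf of sections killed by the ideal. -/
abbrev A : X.Modules := sub (killed i F)

/-- Its inclusion. -/
abbrev ι : A i F ⟶ F := incl (killed i F)

variable {F}

theorem smul_app_eq_zero (U : X.affineOpens) {a : Γ(X, U.1)} (ha : a ∈ i.ker.ideal U)
    (s : Γ(A i F, U.1)) : a • s = 0 := by
  refine incl_injective (killed i F) U.1 ?_
  rw [Scheme.Modules.Hom.app_smul, map_zero]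
  refine TopCat.Presheaf.section_ext (⟨F.presheaf, F.isSheaf⟩ : TopCat.Sheaf AddCommGrpCat X)
    U.1 _ _ fun x hx => ?_
  refine Eq.trans ?_ (map_zero (F.presheaf.germ U.1 x hx).hom).symm
  change germM F U.1 x hx (a • (incl (killed i F)).app U.1 s) = 0
  rw [germM_smul]
  exact (mem_killed i F).mp ((mem_range_incl _ _).mp ⟨s, rfl⟩ x hx) U a hx ha

/-- Sections of `F` over an affine open killed by the ideal. -/
theorem mem_range_iff (U : X.affineOpens) (m : Γ(F, U.1)) :
    m ∈ Set.range ((ι i F).app U.1) ↔ ∀ a ∈ i.ker.ideal U, a • m = 0 := by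
  refine ⟨?_, fun h => (mem_range_incl _ _).mpr fun y hy => (mem_killed i F).mpr fun U' a hy' ha => ?_⟩
  · rintro ⟨s, rfl⟩ a ha
    rw [← Scheme.Modules.Hom.app_smul, smul_app_eq_zero i U ha, map_zero]
  · obtain ⟨f, g, hfg, hxf⟩ := exists_basicOpen_le_affine_inter U.2 U'.2 y ⟨hy, hy'⟩
    have hle : X.basicOpen f ≤ U'.1 := hfg ▸ X.basicOpen_le g
    let W : X.affineOpens := ⟨X.basicOpen f, U.2.basicOpen f⟩
    have ha' : rres hle a ∈ i.ker.ideal W := i.ker.ideal_le_comap_ideal (U := W) (V := U') hle ha
    rw [← i.ker.map_ideal (U := W) (V := U) (X.basicOpen_le f)] at ha'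
    have key : ∀ b ∈ (i.ker.ideal U).map (X.presheaf.map (homOfLE (X.basicOpen_le f)).op).hom,
        b • res F (X.basicOpen_le f) m = 0 := by
      intro b hb
      induction hb using Submodule.span_induction with
      | mem b hb =>
        obtain ⟨c, hc, rfl⟩ := hb
        exact (res_smul F (X.basicOpen_le f) c m).symm.trans
          ((congrArg (res F (X.basicOpen_le f)) (h c hc)).trans (map_zero _))
      | zero => exact zero_smul _ _
      | add b c _ _ hb hc => rw [add_smul, hb, hc, add_zero]
      | smul r b _ hb => rw [smul_assoc, hb, smul_zero]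
    have h1 := congrArg (germM F (X.basicOpen f) y hxf) (key _ ha')
    rw [germM_smul, X.presheaf.germ_res_apply] at h1
    refine Eq.trans ?_ (h1.trans (map_zero (F.presheaf.germ (X.basicOpen f) y hxf).hom))
    exact congrArg (_ • ·) (F.presheaf.germ_res_apply (homOfLE (X.basicOpen_le f)) y hxf m).symm

/-- Maps landing in killed sections factor through `A`. -/
theorem exists_lift {N : X.Modules} (g : N ⟶ F)
    (h : ∀ (U : X.affineOpens) (a : Γ(X, U.1)), a ∈ i.ker.ideal U → ∀ s : Γ(N, U.1), a • s = 0) :
    ∃ k : N ⟶ A i F, k ≫ ι i F = g := by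
  refine ⟨kernel.lift _ g (Pi.hom_ext _ _ fun x => ?_), kernel.lift_ι _ _ _⟩
  rw [Category.assoc, toQuot, Pi.lift_π, zero_comp]
  apply Scheme.Modules.hom_ext
  intro V
  ext m
  funext hx
  refine (toSky_app (killed i F x).mkQ V (g.app V m) hx).trans ((Submodule.Quotient.mk_eq_zero _).mpr ?_)
  refine (mem_killed i F).mpr fun U a hxU ha => ?_
  obtain ⟨W, hW, hxW, hWle⟩ :=
    exists_isAffineOpen_mem_and_subset (U := V ⊓ U.1) (x := x) ⟨hx.down, hxU⟩
  let W' : X.affineOpens := ⟨W, hW⟩
  have ha' : rres (hWle.trans inf_le_right) a ∈ i.ker.ideal W' :=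
    i.ker.ideal_le_comap_ideal (U := W') (V := U) (hWle.trans inf_le_right) ha
  have h1 := congrArg (fun z => germM F W x hxW (g.app W z))
    (h W' _ ha' (res N (hWle.trans inf_le_left) m))
  simp only [Scheme.Modules.Hom.app_smul, map_zero, germM_smul, app_res] at h1
  rw [X.presheaf.germ_res_apply] at h1
  refine Eq.trans ?_ h1
  exact congrArg (_ • ·) (F.presheaf.germ_res_apply (homOfLE (hWle.trans inf_le_left)) x hxW _).symm

variable [IsClosedImmersion i]

/-- The ideal kills direct images. -/
theorem smul_push_eq_zero (M : Z.Modules) (U : X.affineOpens) {a : Γ(X, U.1)}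
    (ha : a ∈ i.ker.ideal U) (s : Γ((Scheme.Modules.pushforward i).obj M, U.1)) : a • s = 0 := by
  rw [Scheme.Hom.ker_apply, RingHom.mem_ker] at ha
  let s' : Γ(M, i ⁻¹ᵁ U.1) := s
  change i.app U.1 a • s' = 0
  rw [ha, zero_smul]

instance isIso_unit_A :
    IsIso ((Scheme.Modules.pullbackPushforwardAdjunction i).unit.app (A i F)) :=
  (ClUnit.isIso_unit_iff i _).mpr fun U _ ha s => smul_app_eq_zero i U ha s

instance isIso_unit_push (M : Z.Modules) :
    IsIso ((Scheme.Modules.pullbackPushforwardAdjunction i).unit.app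
      ((Scheme.Modules.pushforward i).obj M)) :=
  (ClUnit.isIso_unit_iff i _).mpr fun U _ ha s => smul_push_eq_zero i M U ha s

instance isIso_counit (M : Z.Modules) :
    IsIso ((Scheme.Modules.pullbackPushforwardAdjunction i).counit.app M) := by
  let ε := (Scheme.Modules.pullbackPushforwardAdjunction i).counit.app M
  have h1 : IsIso ((Scheme.Modules.pushforward i).map ε) := by
    have h := (Scheme.Modules.pullbackPushforwardAdjunction i).right_triangle_components M
    rw [← IsIso.eq_inv_comp] at h
    rw [h]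
    infer_instance
  rw [Scheme.Modules.Hom.isIso_iff_isIso_app] at h1 ⊢
  intro V
  obtain ⟨O, hO, hOV⟩ := i.isClosedEmbedding.isInducing.isOpen_iff.mp V.2
  obtain rfl : i ⁻¹ᵁ (⟨O, hO⟩ : X.Opens) = V := Opens.ext hOV
  exact h1 ⟨O, hO⟩

instance : IsIso (Scheme.Modules.pullbackPushforwardAdjunction i).counit := NatIso.isIso_of_isIso_app _

/-- `i_*` is fully faithful. -/
def fullyFaithful : (Scheme.Modules.pushforward i).FullyFaithful :=
  (Scheme.Modules.pullbackPushforwardAdjunction i).fullyFaithfulROfIsIsoCounit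

variable (F) in
/-- The right adjoint of `i_*` on objects. -/
abbrev G : Z.Modules := (Scheme.Modules.pullback i).obj (A i F)

/-- `i_* G(F) ≅ A`. -/
def isoA : A i F ≅ (Scheme.Modules.pushforward i).obj (G i F) :=
  asIso ((Scheme.Modules.pullbackPushforwardAdjunction i).unit.app (A i F))

lemma exists_lift_push {M : Z.Modules} (g : (Scheme.Modules.pushforward i).obj M ⟶ F) :
    ∃ k, k ≫ ι i F = g :=
  exists_lift i g fun U _ ha s => smul_push_eq_zero i M U ha s

variable (F) in
/-- The universal property. -/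
def homEquiv (M : Z.Modules) : ((Scheme.Modules.pushforward i).obj M ⟶ F) ≃ (M ⟶ G i F) where
  toFun g := (fullyFaithful i).preimage ((exists_lift_push i g).choose ≫ (isoA i).hom)
  invFun φ := (Scheme.Modules.pushforward i).map φ ≫ (isoA i).inv ≫ ι i F
  left_inv g := by
    dsimp only
    rw [(fullyFaithful i).map_preimage, Category.assoc, Iso.hom_inv_id_assoc]
    exact (exists_lift_push i g).choose_spec
  right_inv φ := by
    let g := (Scheme.Modules.pushforward i).map φ ≫ (isoA i).inv ≫ ι i F
    have h : (exists_lift_push i g).choose = (Scheme.Modules.pushforward i).map φ ≫ (isoA i).inv := by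
      rw [← cancel_mono (ι i F), (exists_lift_push i g).choose_spec, Category.assoc]
    refine (fullyFaithful i).map_injective ?_
    rw [(fullyFaithful i).map_preimage, h, Category.assoc, Iso.inv_hom_id, Category.comp_id]

lemma homEquiv_symm_apply {M : Z.Modules} (φ : M ⟶ G i F) :
    (homEquiv i F M).symm φ = (Scheme.Modules.pushforward i).map φ ≫ (isoA i).inv ≫ ι i F := rfl

theorem isLeftAdjoint : (Scheme.Modules.pushforward i).IsLeftAdjoint :=
  ⟨_, ⟨Adjunction.adjunctionOfEquivRight (G_obj := fun F => G i F) (fun M F => homEquiv i F M)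
    fun M' M F f g => by
      refine (homEquiv i F M').symm.injective ?_
      rw [Equiv.symm_apply_apply, homEquiv_symm_apply, Functor.map_comp, Category.assoc,
        ← homEquiv_symm_apply, Equiv.symm_apply_apply]⟩⟩

variable [Dual3.HasHomO i]

variable (F) in
/-- The counit of the chosen adjunction is the inclusion of the killed sections. -/
theorem exists_iso_counit : ∃ e : (Scheme.Modules.pushforward i).obj ((Dual3.homO i).obj F) ≅ A i F,
    e.hom ≫ ι i F = (Dual3.homOAdj i).counit.app F := by
  let adj := Dual3.homOAdj i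
  obtain ⟨h, hh⟩ := exists_lift_push (F := F) i (adj.counit.app F)
  let g : (Scheme.Modules.pushforward i).obj (G i F) ⟶ F := (isoA i).inv ≫ ι i F
  let φ : G i F ⟶ (Dual3.homO i).obj F := adj.homEquiv _ _ g
  have hφ : (Scheme.Modules.pushforward i).map φ ≫ adj.counit.app F = g := by
    exact (Adjunction.homEquiv_counit adj _ _ _).symm.trans ((adj.homEquiv _ _).symm_apply_apply g)
  let θ : (Dual3.homO i).obj F ⟶ (Dual3.homO i).obj F :=
    (fullyFaithful i).preimage (h ≫ (isoA i).hom) ≫ φ
  have hθ : (Scheme.Modules.pushforward i).map θ ≫ adj.counit.app F = adj.counit.app F := by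
    rw [Functor.map_comp, Category.assoc, hφ, (fullyFaithful i).map_preimage, Category.assoc]
    simp only [g, Iso.hom_inv_id_assoc]
    exact hh
  have hid : θ = 𝟙 _ := by
    refine (adj.homEquiv _ _).symm.injective ?_
    rw [Adjunction.homEquiv_counit, Adjunction.homEquiv_counit, hθ, CategoryTheory.Functor.map_id,
      Category.id_comp]
  refine ⟨⟨h, (isoA i).hom ≫ (Scheme.Modules.pushforward i).map φ, ?_, ?_⟩, hh⟩
  · have : h ≫ (isoA i).hom ≫ (Scheme.Modules.pushforward i).map φ =
        (Scheme.Modules.pushforward i).map θ := by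
      rw [Functor.map_comp, (fullyFaithful i).map_preimage, Category.assoc]
    rw [this, hid, CategoryTheory.Functor.map_id]
  · rw [← cancel_mono (ι i F), Category.assoc, Category.assoc, hh, hφ, Category.id_comp]
    simp only [g, Iso.hom_inv_id_assoc]

end Groth.Agent.Props.KilledSub

end
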