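import Groth.Agent.Props.AmpleTensor
import Groth.Agent.Props.AmpleCoeff
import Groth.Agent.Props.AmpleBase
import Groth.Prelude.Def_Curv2

/-!
# Twisting by high powers of an ample module
-/

set_option autoImplicit false

universe u

open CategoryTheory Limits AlgebraicGeometry Opposite TopologicalSpace

noncomputable section

namespace Groth.Agent.Props.AmpleGG

open Groth.Agent.QCoh Groth.Agent.Props.GenLocus Groth.Agent.Props.GenTensor Groth.Agent.Props.GenProd
  Groth.Agent.Props.GenExt Groth.Agent.AmpleLib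

variable {X : Scheme.{u}}

/-- A module generated at every point by a global section is globally generated. -/
theorem isGloballyGenerated_of_genLocus {N : X.Modules}
    (h : ∀ x : X, ∃ s : Coh.structureModule X ⟶ N, x ∈ CohB1.genLocus N s) :
    Curv2.IsGloballyGenerated N := by
  let p : (SheafOfModules.free (Coh.structureModule X ⟶ N) : X.Modules) ⟶ N :=
    Sigma.desc fun s => s
  refine ⟨_, p, Preadditive.epi_of_cancel_zero p fun {Z} g hg => ?_⟩
  have hzero : ∀ s : Coh.structureModule X ⟶ N, s ≫ g = 0 := fun s => by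
    have : Sigma.ι (fun _ : (Coh.structureModule X ⟶ N) => Coh.structureModule X) s ≫ p = s :=
      Sigma.ι_desc _ s
    rw [← this, Category.assoc]
    exact (congrArg (_ ≫ ·) hg).trans comp_zero
  let g' : @Quiver.Hom X.Modules _ N Z := g
  change g' = 0
  refine Scheme.Modules.hom_ext g' 0 fun V => ?_
  ext m
  choose s hs using h
  refine eq_of_locally_eq Z (U := fun x : X => V ⊓ CohB1.genLocus N (s x)) (fun x => inf_le_left)
    (fun x hx => Opens.mem_iSup.mpr ⟨x, hx, hs x⟩) _ _ fun x => ?_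
  obtain ⟨a, ha, -⟩ := (isGen_genLocus (s x)).exists_eq (inf_le_right : V ⊓ CohB1.genLocus N (s x) ≤ _)
    (res N inf_le_left m)
  rw [sec_res] at ha
  have h0 : g'.app (V ⊓ CohB1.genLocus N (s x)) (sec (s x) (V ⊓ CohB1.genLocus N (s x))) = 0 := by
    change sec (s x ≫ g') _ = 0
    rw [show s x ≫ g' = 0 from hzero (s x)]
    rfl
  simp only [Scheme.Modules.Hom.zero_app, AddCommGrpCat.hom_zero, AddMonoidHom.zero_apply, map_zero]
  rw [← app_res, ha, Scheme.Modules.Hom.app_smul, h0, smul_zero]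

/-- A finite affine cover by common frames of two invertible modules. -/
theorem exists_frame_cover₂ [CompactSpace X] [X.IsSeparated] {L L' : X.Modules}
    (hL : PicF.IsInvertible L) (hL' : PicF.IsInvertible L') :
    ∃ (p : ℕ) (W : Fin p → X.Opens) (e : ∀ i, Γ(L, W i)) (f : ∀ i, Γ(L', W i)),
      (∀ i, IsAffineOpen (W i)) ∧ (∀ i, IsGen L (W i) (e i)) ∧ (∀ i, IsGen L' (W i) (f i)) ∧
        ⊤ ≤ iSup W := by
  obtain ⟨m, W, e, hW, he, hcov⟩ := AmpleCoeff.exists_frame_cover hL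
  obtain ⟨m', W', f, hW', hf, hcov'⟩ := AmpleCoeff.exists_frame_cover hL'
  let E := (finProdFinEquiv : Fin m × Fin m' ≃ Fin (m * m'))
  refine ⟨m * m', fun k => W (E.symm k).1 ⊓ W' (E.symm k).2, fun k => res L inf_le_left (e _),
    fun k => res L' inf_le_right (f _), fun k => (hW _).inf (hW' _),
    fun k => (he _).restrict _, fun k => (hf _).restrict _, fun x hx => ?_⟩
  obtain ⟨i, hi⟩ := Opens.mem_iSup.mp (hcov hx)
  obtain ⟨j, hj⟩ := Opens.mem_iSup.mp (hcov' hx)
  refine Opens.mem_iSup.mpr ⟨E (i, j), ?_⟩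
  simp only [Equiv.symm_apply_apply]
  exact ⟨hi, hj⟩

variable {L L' : X.Modules}

local notation "𝒩" => fun n : ℕ => CohB1.tensorMod (CohB1.tensorPow L n) L'

/-- Near a point, high twists in one residue class have sections generating there. -/
theorem exists_twist_section [CompactSpace X] [X.IsSeparated] (hL : PicF.IsInvertible L)
    (hL' : PicF.IsInvertible L') {k : ℕ} (s : Coh.structureModule X ⟶ CohB1.tensorPow L k)
    (hs : IsAffineOpen (CohB1.genLocus _ s)) (r : ℕ) {x : X} (hx : x ∈ CohB1.genLocus _ s) :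
    ∃ (O : X.Opens) (N : ℕ), x ∈ O ∧ ∀ M, N ≤ M →
      ∃ t : Coh.structureModule X ⟶ CohB1.tensorPow ((𝒩) (k * M + r)) 1,
        O ≤ CohB1.genLocus _ t := by
  obtain ⟨p, W, e, f, hW, he, hf, hcov⟩ := exists_frame_cover₂ hL hL'
  set U := CohB1.genLocus _ s with hU
  let F := AmpleTensor.FrameMap2.powTensor L L' r
  have hN : PicF.IsInvertible ((𝒩) r) := AmpleTensor.isInvertible hL hL' F
  -- a section over `U` generating at `x`
  obtain ⟨i₀, hi₀⟩ := Opens.mem_iSup.mp (hcov (trivial : x ∈ (⊤ : X.Opens)))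
  obtain ⟨g, hg, hxg⟩ := hs.exists_basicOpen_le (V := W i₀) ⟨x, hi₀⟩ hx
  let h₀ := F.φ (res L hg (e i₀)) (res L' hg (f i₀))
  have hh₀ : IsGen ((𝒩) r) (X.basicOpen g) h₀ := F.isGen ((he i₀).restrict hg) ((hf i₀).restrict hg)
  obtain ⟨σ, hσ⟩ := AmpleLib.exists_locus_eq hN hs.isCompact hs.isQuasiSeparated g rfl h₀
  have hxσ : x ∈ locus σ := by
    rw [hσ]
    exact le_locus le_rfl (by rw [res_self]; exact hh₀) hxg
  -- its coefficients
  have hgen : ∀ i, IsGen ((𝒩) r) (W i) (F.φ (e i) (f i)) := fun i => F.isGen (he i) (hf i)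
  choose c hc hc' using fun i => (hgen i).exists_eq (inf_le_right : U ⊓ W i ≤ W i)
    (res _ (inf_le_left : U ⊓ W i ≤ U) σ)
  have hu : ∀ i j, ∃ u : Γ(X, W i ⊓ W j),
      res L (inf_le_right : W i ⊓ W j ≤ W j) (e j) = u • res L (inf_le_left : W i ⊓ W j ≤ W i) (e i) :=
    fun i j => let ⟨u, _, hu⟩ := exists_unit_smul ((he i).restrict _) ((he j).restrict _); ⟨u, hu⟩
  have hv : ∀ i j, ∃ v : Γ(X, W i ⊓ W j),
      res L' (inf_le_right : W i ⊓ W j ≤ W j) (f j) = v • res L' (inf_le_left : W i ⊓ W j ≤ W i) (f i) :=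
    fun i j => let ⟨v, _, hv⟩ := exists_unit_smul ((hf i).restrict _) ((hf j).restrict _); ⟨v, hv⟩
  choose u hu using hu
  choose v hv using hv
  obtain ⟨N, hN'⟩ := AmpleCoeff.extend_coeff W hW U (fun i => co k (sec s ⊤) le_top (he i))
    (fun i => genLocus_inf_eq (he i) s) c (fun i j => u i j ^ k) (fun i j => u i j ^ r * v i j)
    (fun i j => by rw [co_res, co_res]; exact co_of_eq_smul _ _ _ _ (hu i j))
    (fun i j => by
      have h1 := congrArg (res _ (inf_le_inf_left U (inf_le_left : W i ⊓ W j ≤ W i))) (hc i)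
      have h2 := congrArg (res _ (inf_le_inf_left U (inf_le_right : W i ⊓ W j ≤ W j))) (hc j)
      have h3 : res ((𝒩) r) (inf_le_right.trans inf_le_right : U ⊓ (W i ⊓ W j) ≤ W j) (F.φ (e j) (f j)) =
          rres (inf_le_right : U ⊓ (W i ⊓ W j) ≤ W i ⊓ W j) (u i j ^ r * v i j) •
            res ((𝒩) r) (inf_le_right.trans inf_le_left : U ⊓ (W i ⊓ W j) ≤ W i) (F.φ (e i) (f i)) := by
        have h4 := F.φ_smul (u i j) (v i j) (res L (inf_le_left : W i ⊓ W j ≤ W i) (e i))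
          (res L' (inf_le_left : W i ⊓ W j ≤ W i) (f i))
        rw [← hu i j, ← hv i j, ← F.res_φ, ← F.res_φ, pow_one] at h4
        have h5 := congrArg (res ((𝒩) r) (inf_le_right : U ⊓ (W i ⊓ W j) ≤ W i ⊓ W j)) h4
        rwa [res_smul, res_res, res_res] at h5
      rw [res_res, res_smul, res_res] at h1 h2
      rw [h3, smul_smul] at h2
      refine (hgen i).injective (inf_le_right.trans inf_le_left) ?_
      rw [← h1, h2, mul_comm])
  refine ⟨U ⊓ locus σ, N + 1, ⟨hx, hxσ⟩, fun M hM => ?_⟩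
  obtain ⟨a, ha, hac⟩ := hN' M (by omega)
  let G := AmpleTensor.FrameMap2.powTensor L L' (k * M + r)
  have hG : ∀ i, IsGen ((𝒩) (k * M + r)) (W i) (G.φ (e i) (f i)) := fun i => G.isGen (he i) (hf i)
  obtain ⟨t, ht⟩ := exists_hom_of_cover (L := (𝒩) (k * M + r)) W hcov (fun i => G.φ (e i) (f i)) hG 1 a
    fun i j w hw => by
      have h4 := G.φ_smul (u i j) (v i j) (res L (inf_le_left : W i ⊓ W j ≤ W i) (e i))
        (res L' (inf_le_left : W i ⊓ W j ≤ W i) (f i))
      rw [← hu i j, ← hv i j, ← G.res_φ, ← G.res_φ, pow_one] at h4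
      obtain rfl : w = u i j ^ (k * M + r) * v i j :=
        (hG i).injective (inf_le_left : W i ⊓ W j ≤ W i) (hw.symm.trans h4)
      rw [hac i j, pow_one, pow_add, ← pow_mul]
      ring
  refine ⟨t, fun y hy => ?_⟩
  obtain ⟨i, hi⟩ := Opens.mem_iSup.mp (hcov (trivial : y ∈ (⊤ : X.Opens)))
  have h1 : y ∈ X.basicOpen (c i) := by
    rw [← locus_inf (inf_le_left : U ⊓ W i ≤ U) ((hgen i).restrict inf_le_right) σ (hc i)]
    exact ⟨hy.2, hy.1, hi⟩
  have h2 : y ∈ X.basicOpen (rres (inf_le_right : U ⊓ W i ≤ W i) (co k (sec s ⊤) le_top (he i))) := by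
    rw [Scheme.basicOpen_res, ← genLocus_inf_eq (he i) s]
    exact ⟨⟨hy.1, hi⟩, hy.1, hi⟩
  have h3 : y ∈ X.basicOpen (rres (inf_le_right : U ⊓ W i ≤ W i) (a i)) := by
    rw [ha i, Scheme.basicOpen_mul, Scheme.basicOpen_pow _ _ (by omega : 0 < M)]
    exact ⟨h2, h1⟩
  rw [Scheme.basicOpen_res, ← (ht i).2] at h3
  exact h3.2.1

/-- High twists have sections generating everywhere. -/
theorem exists_bound [CompactSpace X] [X.IsSeparated] (hL : CohB1.IsAmple L)
    (hL' : PicF.IsInvertible L') :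
    ∃ n₁ : ℕ, ∀ n, n₁ ≤ n → ∀ x : X,
      ∃ t : Coh.structureModule X ⟶ CohB1.tensorPow ((𝒩) n) 1, x ∈ CohB1.genLocus _ t := by
  classical
  have key : ∀ x : X, ∃ (O : X.Opens) (N : ℕ), x ∈ O ∧ ∀ n, N ≤ n →
      ∃ t : Coh.structureModule X ⟶ CohB1.tensorPow ((𝒩) n) 1, O ≤ CohB1.genLocus _ t := by
    intro x
    obtain ⟨k, s, hxs, hs⟩ := hL.2.2 x
    choose O N hxO hO using fun r : Fin (k + 1) => exists_twist_section hL.1 hL' s hs r hxs
    refine ⟨⨅ r, O r, (k + 1) * (Finset.univ.sup N + 1), ?_, fun n hn => ?_⟩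
    · rw [← SetLike.mem_coe, Opens.coe_iInf]
      exact Set.mem_iInter.mpr hxO
    · let r : Fin (k + 1) := ⟨n % (k + 1), Nat.mod_lt _ k.succ_pos⟩
      have hM : N r ≤ n / (k + 1) := by
        rw [Nat.le_div_iff_mul_le k.succ_pos]
        have := Finset.le_sup (f := N) (Finset.mem_univ r)
        calc N r * (k + 1) ≤ (Finset.univ.sup N + 1) * (k + 1) :=
              Nat.mul_le_mul_right _ (by omega)
          _ ≤ n := by rw [mul_comm]; exact hn
      have he : n = (k + 1) * (n / (k + 1)) + r.1 := (Nat.div_add_mod n (k + 1)).symm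
      obtain ⟨t, ht⟩ := hO r (n / (k + 1)) hM
      exact he ▸ ⟨t, (iInf_le O r).trans ht⟩
  choose O N hxO hO using key
  obtain ⟨F, hF⟩ := isCompact_univ.elim_finite_subcover (fun x : X => (O x : Set X))
    (fun x => (O x).2) fun x _ => Set.mem_iUnion.mpr ⟨x, hxO x⟩
  refine ⟨F.sup N, fun n hn x => ?_⟩
  obtain ⟨y, hy, hxy⟩ := Set.mem_iUnion₂.mp (hF (Set.mem_univ x))
  obtain ⟨t, ht⟩ := hO y n ((Finset.le_sup (f := N) hy).trans hn)
  exact ⟨t, ht hxy⟩

/-- One more twist makes a pointwise generated twist ample. -/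
theorem isAmple_succ [X.IsSeparated] (hL : CohB1.IsAmple L) (hL' : PicF.IsInvertible L') {n : ℕ}
    (h : ∀ x : X, ∃ t : Coh.structureModule X ⟶ CohB1.tensorPow ((𝒩) n) 1, x ∈ CohB1.genLocus _ t) :
    CohB1.IsAmple ((𝒩) (n + 1)) := by
  have := hL.2.1
  obtain ⟨p, W, e, f, hW, he, hf, hcov⟩ := exists_frame_cover₂ hL.1 hL'
  let F := AmpleTensor.FrameMap2.powTensor L L' n
  let G := AmpleTensor.FrameMap2.powTensor L L' (n + 1)
  have hFi : ∀ i, IsGen ((𝒩) n) (W i) (F.φ (e i) (f i)) := fun i => F.isGen (he i) (hf i)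
  have hGi : ∀ i, IsGen ((𝒩) (n + 1)) (W i) (G.φ (e i) (f i)) := fun i => G.isGen (he i) (hf i)
  have hNn : PicF.IsInvertible ((𝒩) n) := AmpleTensor.isInvertible hL.1 hL' F
  refine ⟨AmpleTensor.isInvertible hL.1 hL' G, hL.2.1, fun x => ?_⟩
  obtain ⟨j, s, hxs, hs⟩ := hL.2.2 x
  obtain ⟨t, hxt⟩ := h x
  obtain ⟨r, hr⟩ := exists_hom_of_cover (L := (𝒩) (n + 1)) W hcov (fun i => G.φ (e i) (f i)) hGi (j + 1)
    (fun i => co (j + 1) (sec s ⊤) le_top (he i) * co 1 (sec t ⊤) le_top (hFi i) ^ (j + 1))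
    fun i i' w hw => by
      obtain ⟨u, -, hu⟩ := exists_unit_smul ((he i).restrict (inf_le_left : W i ⊓ W i' ≤ W i))
        ((he i').restrict (inf_le_right : W i ⊓ W i' ≤ W i'))
      obtain ⟨v, -, hv⟩ := exists_unit_smul ((hf i).restrict (inf_le_left : W i ⊓ W i' ≤ W i))
        ((hf i').restrict (inf_le_right : W i ⊓ W i' ≤ W i'))
      have h4 := G.φ_smul u v (res L (inf_le_left : W i ⊓ W i' ≤ W i) (e i))
        (res L' (inf_le_left : W i ⊓ W i' ≤ W i) (f i))
      rw [← hu, ← hv, ← G.res_φ, ← G.res_φ, pow_one] at h4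
      obtain rfl : w = u ^ (n + 1) * v :=
        (hGi i).injective (inf_le_left : W i ⊓ W i' ≤ W i) (hw.symm.trans h4)
      have h5 := F.φ_smul u v (res L (inf_le_left : W i ⊓ W i' ≤ W i) (e i))
        (res L' (inf_le_left : W i ⊓ W i' ≤ W i) (f i))
      rw [← hu, ← hv, ← F.res_φ, ← F.res_φ, pow_one] at h5
      simp only [map_mul, map_pow, co_res]
      rw [co_of_eq_smul (sec s ⊤) le_top ((he i).restrict inf_le_left) ((he i').restrict inf_le_right) hu,
        co_of_eq_smul (sec t ⊤) le_top ((hFi i).restrict inf_le_left) ((hFi i').restrict inf_le_right) h5]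
      ring
  have key : CohB1.genLocus _ r = CohB1.genLocus _ s ⊓ CohB1.genLocus _ t := by
    ext y
    obtain ⟨i, hi⟩ := Opens.mem_iSup.mp (hcov (trivial : y ∈ (⊤ : X.Opens)))
    have h1 := congrArg (fun V : X.Opens => y ∈ V) (hr i).2
    simp only [Scheme.basicOpen_mul, Scheme.basicOpen_pow _ _ j.succ_pos,
      ← genLocus_inf_eq (he i) s, ← genLocus_inf_eq (hFi i) t, Opens.mem_inf, eq_iff_iff] at h1
    exact ⟨fun hy => ⟨(h1.mp ⟨hy, hi⟩).1.1, (h1.mp ⟨hy, hi⟩).2.1⟩,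
      fun hy => (h1.mpr ⟨⟨hy.1, hi⟩, hy.2, hi⟩).1⟩
  refine ⟨j, r, key ▸ ⟨hxs, hxt⟩, key ▸ ?_⟩
  rw [inf_comm]
  exact isAffineOpen_inf_genLocus (AmpleLib.isInvertible_tensorPow hNn 1) t hs

end Groth.Agent.Props.AmpleGG

end
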