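import Groth.Agent.Props.ProjFrame
import Groth.Agent.Props.AmpleTensor
import Groth.Agent.Props.AmpleQA
import Groth.Agent.ProjTwist.Zero
import Groth.Agent.LFFrame.Basic
import Groth.Agent.S0024
import Groth.Agent.AmpleLib.GenIso

/-!
# Ampleness of the twisting sheaves
-/

set_option autoImplicit false

universe u

open CategoryTheory Limits AlgebraicGeometry Opposite TopologicalSpace

noncomputable section

namespace Groth.Agent.Props.AmpleTwist

open Groth.Agent.QCoh Groth.Agent.Props.GenLocus Groth.Agent.Props.GenTensor Groth.Agent.Props.GenProd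
  Groth.Agent.Props.GenExt Groth.Agent.Props.ProjFrame Twist Groth.Agent.ProjTwist

variable {R A : Type u} [CommRing R] [CommRing A] [Algebra R A] {𝒜 : ℕ → Submodule R A}
  [GradedAlgebra 𝒜]

section cover

variable {D : ℕ} {ι : Type u} {F : ι → A}

theorem isInvertible_twist (hF : ∀ i, F i ∈ 𝒜 D)
    (hcov : ⨆ i, Proj.basicOpen 𝒜 (F i) = ⊤) : PicF.IsInvertible (twist 𝒜 (D : ℤ)) :=
  AmpleLib.isInvertible_of_exists_isGen fun x =>
    let ⟨i, hi⟩ := Opens.mem_iSup.mp (hcov.ge (trivial : x ∈ (⊤ : (Proj 𝒜).Opens)))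
    ⟨_, _, hi, isGen_frac (hF i)⟩

/-- Forms of degree `D` are sections of `O(D)`, with the expected loci. -/
theorem exists_section (hF : ∀ i, F i ∈ 𝒜 D) (hcov : ⨆ i, Proj.basicOpen 𝒜 (F i) = ⊤) {G : A}
    (hG : G ∈ 𝒜 D) :
    ∃ s : Coh.structureModule (Proj 𝒜) ⟶ CohB1.tensorPow (twist 𝒜 (D : ℤ)) 1,
      CohB1.genLocus _ s = Proj.basicOpen 𝒜 G := by
  have hle : ∀ a : A, Proj.basicOpen 𝒜 a ≤ Proj.basicOpen 𝒜 (a ^ 1) := fun a => by rw [pow_one]
  have hG' : G ∈ 𝒜 (D * 1) := by rwa [mul_one]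
  have hF' : ∀ i, F i ^ 1 ∈ 𝒜 (D * 1) := fun i => by rw [pow_one, mul_one]; exact hF i
  obtain ⟨s, hs⟩ := exists_hom_of_cover (L := twist 𝒜 (D : ℤ)) (fun i => Proj.basicOpen 𝒜 (F i))
    hcov.ge (fun i => frac (hF i) _) (fun i => isGen_frac (hF i)) 1
    (fun i => coeff hG' (hF' i) _ (hle _))
    fun i j u hu => coeff_change (hF i) (hF j) hG' hu (hF' i) (hF' j) (hle _) (hle _)
  refine ⟨s, ?_⟩
  ext x
  obtain ⟨i, hi⟩ := Opens.mem_iSup.mp (hcov.ge (trivial : x ∈ (⊤ : (Proj 𝒜).Opens)))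
  have h1 := congrArg (fun V : (Proj 𝒜).Opens => x ∈ V) ((hs i).2.trans (basicOpen_coeff _ _ _ _))
  simp only [Opens.mem_inf, eq_iff_iff] at h1
  exact ⟨fun h => (h1.mp ⟨h, hi⟩).2, fun h => (h1.mpr ⟨hi, h⟩).1⟩

/-- `O(D)` is ample when the `D₊(F)`, `F` of degree `D > 0`, cover. -/
theorem isAmple_twist [CompactSpace (Proj 𝒜)] (hD : 0 < D) (hF : ∀ i, F i ∈ 𝒜 D)
    (hcov : ⨆ i, Proj.basicOpen 𝒜 (F i) = ⊤) : CohB1.IsAmple (twist 𝒜 (D : ℤ)) := by
  refine ⟨isInvertible_twist hF hcov, inferInstance, fun x => ?_⟩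
  obtain ⟨i, hi⟩ := Opens.mem_iSup.mp (hcov.ge (trivial : x ∈ (⊤ : (Proj 𝒜).Opens)))
  obtain ⟨s, hs⟩ := exists_section hF hcov (hF i)
  exact ⟨0, s, hs ▸ hi, hs ▸ Proj.isAffineOpen_basicOpen 𝒜 (F i) (hF i) hD⟩

/-- `1/F` as a section of `O(-D)`. -/
def inv' {G : A} (hG : G ∈ 𝒜 D) : Γ(twist 𝒜 (-(D : ℤ)), Proj.basicOpen 𝒜 G) :=
  fracInv hG _ le_rfl

/-- `1/F` generates `O(-D)` over `D₊(F)`. -/
theorem isGen_inv {G : A} (hG : G ∈ 𝒜 D) :
    IsGen (twist 𝒜 (-(D : ℤ))) (Proj.basicOpen 𝒜 G) (inv' hG) := by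
  intro V h
  change Function.Bijective (fun c : O (𝒜 := 𝒜) (op V) => c • fracInv hG V h)
  constructor
  · intro c d hcd
    refine Subtype.ext (funext fun x => HomogeneousLocalization.val_injective _ ?_)
    have hx := congrArg (fun s : sectN (𝒜 := 𝒜) (-(D : ℤ)) (op V) => (s.1 x).1) hcd
    simp only [smul_coe] at hx
    have hu : IsUnit (Localization.mk 1 ⟨G, h x.2⟩ : Loc 𝒜 x.1) :=
      isUnit_iff_exists_inv.mpr ⟨_, mk_mul_inv (h x.2)⟩
    exact hu.mul_right_cancel hx
  · intro g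
    obtain ⟨c, hc⟩ := exists_O_of_sectN_zero
      (mulSec (neg_add_cancel (D : ℤ)) g
        (show sectN (𝒜 := 𝒜) (D : ℤ) (op V) from frac hG V))
    refine ⟨c, sectN_ext fun x => ?_⟩
    refine (smul_coe c _ x).trans ?_
    rw [hc x]
    refine (mul_assoc (g.1 x).1 _ _).trans ?_
    refine (congrArg _ ?_).trans (mul_one _)
    exact (mul_comm _ _).trans (mk_mul_inv (h x.2))

/-- `O(-D) ⊗ O(D) ≅ O`. -/
theorem exists_iso_unit (hF : ∀ i, F i ∈ 𝒜 D) (hcov : ⨆ i, Proj.basicOpen 𝒜 (F i) = ⊤) :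
    PicF.IsInvertible (twist 𝒜 (-(D : ℤ))) ∧
    Nonempty (CohB1.tensorMod (twist 𝒜 (-(D : ℤ))) (twist 𝒜 (D : ℤ)) ≅
      Coh.structureModule (Proj 𝒜)) := by
  refine ⟨AmpleLib.isInvertible_of_exists_isGen fun x =>
    let ⟨i, hi⟩ := Opens.mem_iSup.mp (hcov.ge (trivial : x ∈ (⊤ : (Proj 𝒜).Opens)))
    ⟨_, _, hi, isGen_inv (hF i)⟩, ?_⟩
  obtain ⟨e, -⟩ := AmpleLib.exists_iso_of_gen
    (M := CohB1.tensorMod (twist 𝒜 (-(D : ℤ))) (twist 𝒜 (D : ℤ)))
    (N := Coh.structureModule (Proj 𝒜)) (fun i => Proj.basicOpen 𝒜 (F i)) hcov.ge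
    (fun i => tmul (inv' (hF i)) (frac (hF i) _))
    (fun i => isGen_tmul (isGen_inv (hF i)) (isGen_frac (hF i)))
    (fun i => one' _) (fun i => isGen_one _) (by
      intro i j V hi hj u hu
      obtain ⟨a, -, ha⟩ := exists_unit_smul ((isGen_inv (hF i)).restrict hi) ((isGen_inv (hF j)).restrict hj)
      obtain ⟨b, -, hb⟩ := exists_unit_smul ((isGen_frac (hF i)).restrict hi) ((isGen_frac (hF j)).restrict hj)
      rw [res_tmul, res_tmul, ha, hb, tmul_smul_left, tmul_smul_right, smul_smul, ← res_tmul] at hu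
      have hab : a * b = 1 := by
        refine valAt_ext fun x => ?_
        have hxa := congrArg (fun s : sectN (𝒜 := 𝒜) (-(D : ℤ)) (op V) => (s.1 x).1) ha
        have hxb := congrArg (fun s : sectN (𝒜 := 𝒜) (D : ℤ) (op V) => (s.1 x).1) hb
        have e1 : (Localization.mk 1 ⟨F j, hj x.2⟩ : Loc 𝒜 x.1) =
            valAt a x * Localization.mk 1 ⟨F i, hi x.2⟩ :=
          hxa.trans (smul_coe (show O (𝒜 := 𝒜) (op V) from a) _ x)
        have e2 : (Localization.mk (F j) ⟨1, one_nin x.1⟩ : Loc 𝒜 x.1) =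
            valAt b x * Localization.mk (F i) ⟨1, one_nin x.1⟩ :=
          hxb.trans (smul_coe (show O (𝒜 := 𝒜) (op V) from b) _ x)
        rw [valAt_mul]
        have e3 := congrArg₂ (· * ·) e1 e2
        rw [mk_mul_inv, mul_mul_mul_comm, mk_mul_inv, mul_one] at e3
        exact e3.symm.trans HomogeneousLocalization.val_one.symm
      obtain rfl : u = a * b := (((isGen_tmul (isGen_inv (hF i)) (isGen_frac (hF i)))).injective hi hu).symm
      rw [hab, one_smul]
      exact (map_one ((Proj 𝒜).presheaf.map (homOfLE hj).op).hom).trans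
        (map_one ((Proj 𝒜).presheaf.map (homOfLE hi).op).hom).symm)
  exact ⟨e⟩

/-- `O(-D)` ample makes `Proj` quasi-affine. -/
theorem isQuasiAffine_of_ample_neg (hF : ∀ i, F i ∈ 𝒜 D)
    (hcov : ⨆ i, Proj.basicOpen 𝒜 (F i) = ⊤) (h : CohB1.IsAmple (twist 𝒜 (-(D : ℤ)))) :
    CohB1.IsAmple (Coh.structureModule (Proj 𝒜)) := by
  obtain ⟨-, ⟨e⟩⟩ := exists_iso_unit hF hcov
  refine AmpleTensor.isAmple_of_frameMap2 h (isInvertible_twist hF hcov) Nat.one_pos Nat.one_pos
    ((AmpleTensor.FrameMap2.tensor _ _).compMap (AmpleFrames.FrameMap.ofIso e)) fun x => ?_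
  obtain ⟨i, hi⟩ := Opens.mem_iSup.mp (hcov.ge (trivial : x ∈ (⊤ : (Proj 𝒜).Opens)))
  obtain ⟨s, hs⟩ := exists_section hF hcov (hF i)
  exact ⟨0, s, hs ▸ hi⟩

end cover

section projSpace

variable (n : ℕ) (k : Type u) [CommRing k]

theorem iSup_basicOpen_X_pow {D : ℕ} (hD : 0 < D) :
    ⨆ i : ULift.{u} (Fin (n + 1)),
      Proj.basicOpen (CohB1.polyGrading n k) ((MvPolynomial.X i.down : MvPolynomial (Fin (n + 1)) k) ^ D) = ⊤ := by
  simp only [Proj.basicOpen_pow _ _ _ hD]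
  refine Proj.iSup_basicOpen_eq_top' _ _ (fun i => ⟨1, (MvPolynomial.mem_homogeneousSubmodule 1 _).mpr
    (MvPolynomial.isHomogeneous_X k i.down)⟩) ?_
  refine top_le_iff.mp fun p _ => ?_
  induction p using MvPolynomial.induction_on with
  | C a =>
    exact Subalgebra.algebraMap_mem _ (⟨MvPolynomial.C a, MvPolynomial.isHomogeneous_C _ _⟩ : CohB1.polyGrading n k 0)
  | add p q hp hq => exact add_mem (hp trivial) (hq trivial)
  | mul_X p i hp => exact mul_mem (hp trivial) (Algebra.subset_adjoin ⟨⟨i⟩, rfl⟩)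

theorem X_pow_mem (D : ℕ) (i : Fin (n + 1)) :
    (MvPolynomial.X i : MvPolynomial (Fin (n + 1)) k) ^ D ∈ CohB1.polyGrading n k D :=
  (MvPolynomial.mem_homogeneousSubmodule D _).mpr (MvPolynomial.isHomogeneous_X_pow i D)

theorem compactSpace : CompactSpace (Proj (CohB1.polyGrading n k)) := by
  refine ⟨?_⟩
  have h := iSup_basicOpen_X_pow n k Nat.one_pos
  rw [← Opens.coe_top, ← h, Opens.coe_iSup]
  exact isCompact_iUnion fun i =>
    (Proj.isAffineOpen_basicOpen _ _ (X_pow_mem n k 1 i.down) Nat.one_pos).isCompact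

/-- Projective space of positive dimension over a nonzero ring is not quasi-affine. -/
theorem not_isQuasiAffine [Nontrivial k] (hn : 1 ≤ n) :
    ¬ (CohB1.ProjSpace n k).IsQuasiAffine := by
  intro hqa
  have hiso := Groth.Agent.S0024.result n k
  have hmono : Mono (CohB1.ProjSpace.toSpec n k) := by
    have : CohB1.ProjSpace.toSpec n k = (CohB1.ProjSpace n k).toSpecΓ ≫
        Spec.map (CohB1.ProjSpace.toSpec n k).appTop ≫ (Spec (CommRingCat.of k)).isoSpec.inv := by
      rw [← Category.assoc, ← Scheme.toSpecΓ_naturality, Category.assoc, Scheme.toSpecΓ_isoSpec_inv,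
        Category.comp_id]
    rw [this]
    infer_instance
  let i₀ : Fin (n + 1) := 0
  let i₁ : Fin (n + 1) := ⟨1, by omega⟩
  have hne : i₀ ≠ i₁ := fun h => by simpa [i₀, i₁] using congrArg Fin.val h
  let t : MvPolynomial (Fin (n + 1)) k := MvPolynomial.X i₀
  have ht : t ∈ CohB1.polyGrading n k 1 := by simpa [pow_one] using X_pow_mem n k 1 i₀
  let P : k → (Fin (n + 1) → k) := fun a j => if j = i₀ then 1 else if j = i₁ then a else 0
  have hu : ∀ a, IsUnit ((MvPolynomial.eval (P a)) t) := fun a => by simp [t, P]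
  let ψ : k → HomogeneousLocalization.Away (CohB1.polyGrading n k) t →+* k := fun a =>
    (IsLocalization.Away.lift t (hu a) : Localization.Away t →+* k).comp
      (algebraMap (HomogeneousLocalization.Away (CohB1.polyGrading n k) t) (Localization.Away t))
  have hψ : ∀ a, (ψ a).comp ((HomogeneousLocalization.fromZeroRingHom (CohB1.polyGrading n k) (Submonoid.powers t)).comp
      (algebraMap k (CohB1.polyGrading n k 0))) = RingHom.id k := fun a => by
    ext r
    simp only [ψ, RingHom.comp_apply, HomogeneousLocalization.algebraMap_apply, RingHom.id_apply]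
    rw [show (HomogeneousLocalization.fromZeroRingHom (CohB1.polyGrading n k) (Submonoid.powers t)
      (algebraMap k (CohB1.polyGrading n k 0) r)).val = algebraMap _ (Localization.Away t)
        (MvPolynomial.C r : MvPolynomial (Fin (n + 1)) k) from by
        simp only [HomogeneousLocalization.fromZeroRingHom, RingHom.coe_mk, MonoidHom.coe_mk, OneHom.coe_mk,
          HomogeneousLocalization.val_mk]
        exact Localization.mk_one_eq_algebraMap _, IsLocalization.Away.lift_eq]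
    exact MvPolynomial.eval_C r
  let p : k → (Spec (CommRingCat.of k) ⟶ CohB1.ProjSpace n k) := fun a =>
    Spec.map (CommRingCat.ofHom (ψ a)) ≫ Proj.awayι (CohB1.polyGrading n k) t ht Nat.one_pos
  have hp : ∀ a, p a ≫ CohB1.ProjSpace.toSpec n k = 𝟙 _ := fun a => by
    change (Spec.map (CommRingCat.ofHom (ψ a)) ≫ Proj.awayι (CohB1.polyGrading n k) t ht Nat.one_pos) ≫
      (Proj.toSpecZero _ ≫ Spec.map (CommRingCat.ofHom (algebraMap k (CohB1.polyGrading n k 0)))) = _
    rw [Category.assoc, Proj.awayι_toSpecZero_assoc, ← Spec.map_comp, ← Spec.map_comp,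
      ← CommRingCat.ofHom_comp, ← CommRingCat.ofHom_comp, RingHom.comp_assoc]
    refine (congrArg (fun g => Spec.map (CommRingCat.ofHom g)) ?_).trans (Spec.map_id _)
    exact hψ a
  have h01 : p 0 = p 1 := (cancel_mono (CohB1.ProjSpace.toSpec n k)).mp ((hp 0).trans (hp 1).symm)
  have h2 : ψ 0 = ψ 1 := congrArg CommRingCat.Hom.hom
    (Spec.map_injective ((cancel_mono (Proj.awayι (CohB1.polyGrading n k) t ht Nat.one_pos)).mp h01))
  have h3 : ∀ a, ψ a (HomogeneousLocalization.Away.mk (CohB1.polyGrading n k) ht 1 (MvPolynomial.X i₁)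
      (by simpa using X_pow_mem n k 1 i₁)) = a := fun a => by
    simp only [ψ, RingHom.comp_apply, HomogeneousLocalization.algebraMap_apply,
      HomogeneousLocalization.Away.val_mk]
    have e : (Localization.mk (MvPolynomial.X i₁) ⟨t ^ 1, ⟨1, rfl⟩⟩ : Localization.Away t) *
        algebraMap _ _ t = algebraMap _ _ (MvPolynomial.X i₁ : MvPolynomial (Fin (n + 1)) k) := by
      rw [Localization.mk_eq_mk']
      simpa [pow_one] using IsLocalization.mk'_spec (Localization.Away t)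
        (MvPolynomial.X i₁ : MvPolynomial (Fin (n + 1)) k) (⟨t ^ 1, ⟨1, rfl⟩⟩ : Submonoid.powers t)
    have e' := congrArg (IsLocalization.Away.lift t (hu a) : Localization.Away t →+* k) e
    rw [map_mul, IsLocalization.Away.lift_eq, IsLocalization.Away.lift_eq] at e'
    simpa [t, P, hne.symm] using e'
  exact zero_ne_one ((h3 0).symm.trans ((RingHom.congr_fun h2 _).trans (h3 1)))

end projSpace

end Groth.Agent.Props.AmpleTwist

end
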