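import Groth.Agent.AmpleLib.Rel
import Groth.Agent.Props.AmpleBase
import Groth.Agent.Props.AmpleFrames
import Mathlib.AlgebraicGeometry.Morphisms.UniversallyClosed
import Mathlib.AlgebraicGeometry.Morphisms.ClosedImmersion
import Mathlib.AlgebraicGeometry.QuasiAffine

/-!
# Loci of sections of ample modules on universally closed schemes are affine
-/

set_option autoImplicit false

universe u

open CategoryTheory Limits AlgebraicGeometry Opposite TopologicalSpace

noncomputable section

namespace Groth.Agent.Props.AmpleProper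

open Groth.Agent.QCoh Groth.Agent.Props.GenLocus Groth.Agent.Props.GenTensor Groth.Agent.Props.GenProd
  Groth.Agent.Props.GenExt Groth.Agent.Props.AmpleFrames

variable {X : Scheme.{u}} {L : X.Modules}

/-- A section of `L` as a section of `L^1`. -/
theorem exists_pow_one (hL : PicF.IsInvertible L) (s : Coh.structureModule X ⟶ L) :
    ∃ t : Coh.structureModule X ⟶ CohB1.tensorPow L 1,
      CohB1.genLocus _ t = CohB1.genLocus _ s := by
  let ι := {p : Σ W : X.Opens, Γ(L, W) // IsGen L p.1 p.2}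
  choose c hc hc' using fun i : ι => i.2.exists_eq le_rfl (sec s i.1.1)
  simp only [res_self] at hc
  obtain ⟨t, ht⟩ := exists_hom_of_cover (L := L) (fun i : ι => i.1.1) (by
      intro x _
      obtain ⟨U, e, hxU, he⟩ := exists_isGen hL x
      exact Opens.mem_iSup.mpr ⟨(⟨⟨U, e⟩, he⟩ : ι), hxU⟩)
    (fun i => i.1.2) (fun i => i.2) 1 c (by
      intro i j u hu
      rw [pow_one]
      have h1 := congrArg (res L (inf_le_left : i.1.1 ⊓ j.1.1 ≤ i.1.1)) (hc i)
      have h2 := congrArg (res L (inf_le_right : i.1.1 ⊓ j.1.1 ≤ j.1.1)) (hc j)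
      rw [sec_res, res_smul] at h1 h2
      rw [hu, smul_smul] at h2
      refine (i.2.restrict inf_le_left).injective le_rfl ?_
      rw [res_self, ← h1, h2, mul_comm])
  refine ⟨t, genLocus_ext hL fun W e he => ?_⟩
  rw [(ht (⟨⟨W, e⟩, he⟩ : ι)).2]
  exact (genLocus_inf he s (hc ⟨⟨W, e⟩, he⟩)).symm

/-- The pieces needed from a pair of sections of the same power. -/
theorem exists_ratio (h : CohB1.IsAmple L) (s : Coh.structureModule X ⟶ CohB1.tensorPow L 1) (x : X) :
    ∃ (Q : X.Opens) (φ : Γ(X, Q)) (a : Γ(X, CohB1.genLocus _ s)), x ∈ Q ∧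
      X.basicOpen φ ≤ CohB1.genLocus _ s ∧
      rres (inf_le_right : CohB1.genLocus _ s ⊓ Q ≤ Q) φ *
        rres (inf_le_left : CohB1.genLocus _ s ⊓ Q ≤ _) a = 1 := by
  obtain ⟨n, t, hxt, -⟩ := h.2.2 x
  obtain ⟨S, hS⟩ := exists_pow h.1 s (n + 1) (n + 1) (one_mul _).symm
  have eS := genLocus_pow h.1 s n.succ_pos S hS
  have gS : IsGen _ (CohB1.genLocus _ s) (sec S (CohB1.genLocus _ s)) := eS ▸ isGen_genLocus S
  have gT := isGen_genLocus t
  obtain ⟨a, ha, -⟩ := gS.exists_eq le_rfl (sec t (CohB1.genLocus _ s))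
  rw [res_self] at ha
  obtain ⟨φ, hφ, -⟩ := gT.exists_eq le_rfl (sec S (CohB1.genLocus _ t))
  rw [res_self] at hφ
  refine ⟨CohB1.genLocus _ t, φ, a, hxt, ?_, ?_⟩
  · rw [← genLocus_inf gT S hφ, eS]
    exact inf_le_left
  · have h1 := congrArg (res _ (inf_le_left : CohB1.genLocus _ s ⊓ CohB1.genLocus _ t ≤ _)) ha
    have h2 := congrArg (res _ (inf_le_right : CohB1.genLocus _ s ⊓ CohB1.genLocus _ t ≤ _)) hφ
    rw [sec_res, res_smul, sec_res] at h1 h2
    rw [h1, smul_smul] at h2
    refine (gS.restrict inf_le_left).injective le_rfl ?_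
    rw [res_self, sec_res, ← h2, one_smul]

/-- Units in a local ring: `b c = 1 + (non-unit)` makes `b` a unit. -/
lemma isUnit_left_of_not_isUnit_sub {R : Type*} [CommRing R] [IsLocalRing R] {b c : R}
    (h : ¬ IsUnit (b * c - 1)) : IsUnit b := by
  by_contra hb
  refine h ?_
  have : ¬ IsUnit (b * c) := fun hh => hb (isUnit_of_mul_isUnit_left hh)
  rcases IsLocalRing.isUnit_or_isUnit_of_add_one (a := b * c) (b := 1 - b * c) (by ring) with hu | hu
  · exact absurd hu this
  · simpa using hu.neg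

/-- In a local ring, elements with non-unit difference are simultaneously units. -/
lemma isUnit_of_not_isUnit_sub {R : Type*} [CommRing R] [IsLocalRing R] {b c : R}
    (h : ¬ IsUnit (b - c)) (hc : IsUnit c) : IsUnit b := by
  obtain ⟨d, hd⟩ := isUnit_iff_exists_inv.mp hc
  refine isUnit_left_of_not_isUnit_sub (c := d) fun hu => h ?_
  refine isUnit_of_mul_isUnit_left (y := d) ?_
  rwa [sub_mul, hd]

lemma appLE_app {A B C : Scheme.{u}} {γ : A ⟶ B} {π : B ⟶ C} {k : A ⟶ C} (hk : γ ≫ π = k)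
    (Q : C.Opens) (e : k ⁻¹ᵁ Q ≤ γ ⁻¹ᵁ (π ⁻¹ᵁ Q)) (φ : Γ(C, Q)) :
    γ.appLE (π ⁻¹ᵁ Q) (k ⁻¹ᵁ Q) e (π.app Q φ) = k.app Q φ := by
  subst hk
  rw [Scheme.Hom.app_eq_appLE, ← ConcreteCategory.comp_apply, Scheme.Hom.appLE_comp_appLE,
    ← Scheme.Hom.app_eq_appLE]

lemma appLE_rres_top {A B : Scheme.{u}} (γ : A ⟶ B) {U : B.Opens} {W : A.Opens} (e : W ≤ γ ⁻¹ᵁ U)
    (x : Γ(B, ⊤)) :
    γ.appLE U W e (rres (le_top : U ≤ ⊤) x) = rres (le_top : W ≤ ⊤) (γ.appTop x) := by
  change (B.presheaf.map (homOfLE le_top).op ≫ γ.appLE U W e) x =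
    (γ.app ⊤ ≫ A.presheaf.map (homOfLE le_top).op) x
  rw [Scheme.Hom.app_eq_appLE, Scheme.Hom.map_appLE, Scheme.Hom.appLE_map]

lemma map_map_apply {U V W : X.Opens} (i : V ⟶ U) (k : W ⟶ V) (x : Γ(X, U)) :
    X.presheaf.map k.op (X.presheaf.map i.op x) = rres (k ≫ i).le x := by
  rw [← ConcreteCategory.comp_apply, ← Functor.map_comp]
  rfl

lemma map_eq_rres {U V : X.Opens} (i : V ⟶ U) (x : Γ(X, U)) :
    X.presheaf.map i.op x = rres i.le x := rfl

/-- Sections of the open subscheme as sections of the scheme. -/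
lemma ι_app_eq (P Q : X.Opens) (φ : Γ(X, Q)) :
    P.ι.app Q φ = rres (P.ι.image_preimage_eq_opensRange_inf Q ▸ inf_le_right :
      P.ι ''ᵁ (P.ι ⁻¹ᵁ Q) ≤ Q) φ := by
  rw [Scheme.Opens.ι_app]
  rfl

lemma rres_topIso_inv (P : X.Opens) (W : P.toScheme.Opens) (a : Γ(X, P)) :
    rres (le_top : W ≤ ⊤) (P.topIso.inv a) =
      rres ((P.ι.image_le_opensRange W).trans P.opensRange_ι.le) a := by
  rw [Scheme.Opens.topIso_inv]
  exact map_map_apply _ _ a

/-- On a scheme universally closed over an affine scheme, the locus of a section of an ample module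
is affine. -/
theorem isAffineOpen_genLocus {S : Scheme.{u}} [IsAffine S] (f : X ⟶ S) [UniversallyClosed f]
    (h : CohB1.IsAmple L) (s : Coh.structureModule X ⟶ CohB1.tensorPow L 1) :
    IsAffineOpen (CohB1.genLocus _ s) := by
  have := AmpleBase.isQuasiAffine_genLocus h Nat.one_pos s
  set P := CohB1.genLocus _ s with hP
  let j := P.toScheme.toSpecΓ
  let c : Spec Γ(P.toScheme, ⊤) ⟶ S := Spec.map (P.ι ≫ f).appTop ≫ S.isoSpec.inv
  have hc : j ≫ c = P.ι ≫ f := by
    simp only [j, c, ← Category.assoc, ← Scheme.toSpecΓ_naturality]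
    simp
  let γ : P.toScheme ⟶ pullback f c := pullback.lift P.ι j hc.symm
  have hγ1 : γ ≫ pullback.fst f c = P.ι := pullback.lift_fst _ _ _
  have hγ2 : γ ≫ pullback.snd f c = j := pullback.lift_snd _ _ _
  -- an open of the product missed by the graph misses its closure
  have hmiss : ∀ (q : (pullback f c : Scheme.{u})), q ∈ closure (Set.range γ) →
      ∀ (U : (pullback f c : Scheme.{u}).Opens) (hqU : q ∈ U) (g : Γ(pullback f c, U)),
        γ.app U g = 0 → ¬ IsUnit ((pullback f c).presheaf.germ U q hqU g) := by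
    intro q hq U hqU g hg hu
    have hqb : q ∈ (pullback f c).basicOpen g := ((pullback f c).mem_basicOpen g q hqU).mpr hu
    obtain ⟨_, hy, y, rfl⟩ := mem_closure_iff.mp hq _ ((pullback f c).basicOpen g).2 hqb
    have hy' : y ∈ γ ⁻¹ᵁ (pullback f c).basicOpen g := hy
    rw [Scheme.preimage_basicOpen, hg, Scheme.basicOpen_zero] at hy'
    exact hy'
  have hsurj : Function.Surjective j := by
    intro p
    have hcl : IsClosed (pullback.snd f c '' closure (Set.range γ)) :=
      (pullback.snd f c).isClosedMap _ isClosed_closure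
    have hsub : Set.range j ⊆ pullback.snd f c '' closure (Set.range γ) := by
      rintro _ ⟨y, rfl⟩
      exact ⟨γ y, subset_closure ⟨y, rfl⟩, by rw [← Scheme.Hom.comp_apply, hγ2]⟩
    have : CompactSpace P.toScheme := inferInstance
    have hd : DenseRange j := IsDominant.denseRange
    obtain ⟨q, hq, hqp⟩ := closure_minimal hsub hcl (hd.closure_range ▸ (Set.mem_univ p))
    -- the first coordinate lies in the locus
    obtain ⟨Q, φ, a, hxQ, hφ, hmul⟩ := exists_ratio h s (pullback.fst f c q)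
    have hxP : pullback.fst f c q ∈ P := by
      let a' : Γ(P.toScheme, ⊤) := P.topIso.inv a
      let ã : Γ(Spec Γ(P.toScheme, ⊤), ⊤) := (Scheme.ΓSpecIso Γ(P.toScheme, ⊤)).inv a'
      let U := pullback.fst f c ⁻¹ᵁ Q
      let g : Γ(pullback f c, U) := (pullback.fst f c).app Q φ *
        rres (le_top : U ≤ ⊤) ((pullback.snd f c).appTop ã) - 1
      have hW : P.ι ⁻¹ᵁ Q ≤ γ ⁻¹ᵁ U := by
        rw [← Scheme.Hom.comp_preimage, hγ1]
      have hg : γ.app U g = 0 := by
        have hUW : γ ⁻¹ᵁ U = P.ι ⁻¹ᵁ Q := by rw [← Scheme.Hom.comp_preimage, hγ1]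
        have h3 : γ.appTop ((pullback.snd f c).appTop ã) = a' := by
          rw [← ConcreteCategory.comp_apply, ← Scheme.Hom.comp_appTop, hγ2, Scheme.toSpecΓ_appTop]
          exact (Scheme.ΓSpecIso Γ(P.toScheme, ⊤)).inv_hom_id_apply a'
        have h4 : γ.appLE U (P.ι ⁻¹ᵁ Q) hW g = 0 := by
          simp only [g]
          rw [map_sub, map_mul, map_one, appLE_app hγ1 Q hW φ, appLE_rres_top, h3, sub_eq_zero,
            ι_app_eq]
          simp only [a']
          rw [rres_topIso_inv]
          have hle : P.ι ''ᵁ (P.ι ⁻¹ᵁ Q) ≤ P ⊓ Q := by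
            rw [Scheme.Hom.image_preimage_eq_opensRange_inf, Scheme.Opens.opensRange_ι]
          have h5 := congrArg (rres hle) hmul
          rw [map_mul, map_one, rres_rres, rres_rres] at h5
          exact h5
        refine (ConcreteCategory.bijective_of_isIso
          (P.toScheme.presheaf.map (eqToHom hUW.symm).op)).1 ?_
        rw [map_zero]
        exact h4
      have hu := hmiss q hq U hxQ g hg
      simp only [g, map_sub, map_mul, map_one] at hu
      have hb := ((pullback f c).mem_basicOpen _ q hxQ).mpr (isUnit_left_of_not_isUnit_sub hu)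
      rw [← Scheme.preimage_basicOpen] at hb
      exact hφ hb
    -- the second coordinate is then determined
    refine ⟨⟨pullback.fst f c q, hxP⟩, ?_⟩
    have key : ∀ r : Γ(P.toScheme, ⊤), p ∈ PrimeSpectrum.basicOpen r ↔
        (⟨pullback.fst f c q, hxP⟩ : P.toScheme) ∈ P.toScheme.basicOpen r := by
      intro r
      let r₀ : Γ(X, P) := P.topIso.hom r
      let U := pullback.fst f c ⁻¹ᵁ P
      let rt : Γ(Spec Γ(P.toScheme, ⊤), ⊤) := (Scheme.ΓSpecIso Γ(P.toScheme, ⊤)).inv r
      let b : Γ(pullback f c, U) := rres (le_top : U ≤ ⊤) ((pullback.snd f c).appTop rt)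
      let d : Γ(pullback f c, U) := (pullback.fst f c).app P r₀
      have hg : γ.app U (b - d) = 0 := by
        have hW : P.ι ⁻¹ᵁ P ≤ γ ⁻¹ᵁ U := by rw [← Scheme.Hom.comp_preimage, hγ1]
        have hUW : γ ⁻¹ᵁ U = P.ι ⁻¹ᵁ P := by rw [← Scheme.Hom.comp_preimage, hγ1]
        have h3 : γ.appTop ((pullback.snd f c).appTop rt) = r := by
          rw [← ConcreteCategory.comp_apply, ← Scheme.Hom.comp_appTop, hγ2, Scheme.toSpecΓ_appTop]
          exact (Scheme.ΓSpecIso Γ(P.toScheme, ⊤)).inv_hom_id_apply r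
        have h4 : γ.appLE U (P.ι ⁻¹ᵁ P) hW (b - d) = 0 := by
          simp only [b, d]
          rw [map_sub, appLE_app hγ1 P hW r₀, appLE_rres_top, h3, sub_eq_zero, ι_app_eq]
          have hr : P.topIso.inv r₀ = r := P.topIso.hom_inv_id_apply r
          conv_lhs => rw [← hr]
          exact rres_topIso_inv P _ r₀
        refine (ConcreteCategory.bijective_of_isIso
          (P.toScheme.presheaf.map (eqToHom hUW.symm).op)).1 ?_
        rw [map_zero]
        exact h4
      have hu := hmiss q hq U hxP _ hg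
      rw [map_sub] at hu
      have hu' : ¬ IsUnit ((pullback f c).presheaf.germ U q hxP d -
          (pullback f c).presheaf.germ U q hxP b) := fun hh => hu (by simpa using hh.neg)
      have hb : q ∈ (pullback f c).basicOpen b ↔ p ∈ PrimeSpectrum.basicOpen r := by
        simp only [b, rres]
        rw [Scheme.basicOpen_res, ← basicOpen_eq_of_affine, ← hqp]
        change q ∈ U ⊓ (pullback f c).basicOpen ((pullback.snd f c).appTop rt) ↔
          q ∈ pullback.snd f c ⁻¹ᵁ (Spec Γ(P.toScheme, ⊤)).basicOpen rt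
        rw [Scheme.preimage_basicOpen_top]
        exact ⟨fun hh => hh.2, fun hh => ⟨hxP, hh⟩⟩
      have hd : q ∈ (pullback f c).basicOpen d ↔
          (⟨pullback.fst f c q, hxP⟩ : P.toScheme) ∈ P.toScheme.basicOpen r := by
        simp only [d]
        rw [← Scheme.preimage_basicOpen]
        have hr : P.topIso.inv r₀ = r := P.topIso.hom_inv_id_apply r
        conv_rhs => rw [← hr]
        rw [← P.ι_image_basicOpen_topIso_inv r₀]
        exact ⟨fun ⟨z, hz, hzq⟩ => (Subtype.ext hzq : z = ⟨pullback.fst f c q, hxP⟩) ▸ hz, fun hh => ⟨_, hh, rfl⟩⟩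
      rw [← hb, ← hd, (pullback f c).mem_basicOpen _ q hxP, (pullback f c).mem_basicOpen _ q hxP]
      exact ⟨isUnit_of_not_isUnit_sub hu', isUnit_of_not_isUnit_sub hu⟩
    apply PrimeSpectrum.ext
    ext r
    have h6 := key r
    rw [← P.toScheme.toSpecΓ_preimage_basicOpen] at h6
    simp only [PrimeSpectrum.mem_basicOpen] at h6
    exact (not_iff_not.mp (h6.trans (by rfl))).symm
  have : IsIso j := by
    have : Epi j.base := (TopCat.epi_iff_surjective _).mpr hsurj
    exact IsOpenImmersion.isIso j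
  exact IsAffine.of_isIso j

end Groth.Agent.Props.AmpleProper

end
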