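import Mathlib.AlgebraicGeometry.Morphisms.Separated
import Mathlib.AlgebraicGeometry.Limits
import Mathlib.Topology.KrullDimension
import Mathlib.AlgebraicGeometry.Morphisms.Immersion
import Mathlib.RingTheory.Spectrum.Prime.ConstructibleSet

/-!
# Zero-dimensional schemes

A quasi-separated scheme whose points are closed is Hausdorff; a Hausdorff scheme is separated and
its quasi-compact opens are affine.
-/

set_option autoImplicit false

namespace Groth.Agent.Props.DimZero

open AlgebraicGeometry CategoryTheory Limits TopologicalSpace Topology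

universe u

theorem t1Space_of_topologicalKrullDim_le_zero {X : Type u} [TopologicalSpace X] [T0Space X]
    (h : topologicalKrullDim X ≤ 0) : T1Space X := by
  refine t1Space_iff_specializes_imp_eq.mpr fun x y hxy => ?_
  let px : IrreducibleCloseds X :=
    ⟨closure {x}, isIrreducible_singleton.closure, isClosed_closure⟩
  let py : IrreducibleCloseds X :=
    ⟨closure {y}, isIrreducible_singleton.closure, isClosed_closure⟩
  have h1 : py ≤ px := specializes_iff_closure_subset.mp hxy
  have h2 : px ≤ py := Order.krullDim_nonpos_iff_forall_isMax.mp h py h1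
  exact (hxy.antisymm (specializes_iff_closure_subset.mpr h2)).eq

theorem t2Space_primeSpectrum (R : Type u) [CommRing R] [T1Space (PrimeSpectrum R)] :
    T2Space (PrimeSpectrum R) := by
  refine ⟨fun x y hxy => ?_⟩
  have hne : ¬ y.asIdeal ≤ x.asIdeal := fun h =>
    hxy ((PrimeSpectrum.le_iff_specializes y x).mp h).eq.symm
  obtain ⟨f, hfy, hfx⟩ := Set.not_subset.mp hne
  have hcl : IsClosed (PrimeSpectrum.basicOpen f : Set (PrimeSpectrum R)) :=
    PrimeSpectrum.isClosed_of_stableUnderSpecialization_of_isConstructible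
      (fun a b hab ha => by rwa [← hab.eq]) PrimeSpectrum.isConstructible_basicOpen
  exact ⟨_, _, (PrimeSpectrum.basicOpen f).2, hcl.isOpen_compl, hfx, fun h => h hfy,
    disjoint_compl_right⟩

theorem t2Space_of_quasiSeparated_t1 (X : Scheme.{u}) [QuasiSeparatedSpace X] [T1Space X] :
    T2Space X := by
  have hcl : ∀ U : X.Opens, IsAffineOpen U → IsClosed (U : Set X) := by
    intro U hU
    rw [← isOpen_compl_iff, isOpen_iff_forall_mem_open]
    intro x hx
    obtain ⟨_, ⟨V, hV, rfl⟩, hxV, -⟩ :=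
      X.isBasis_affineOpens.exists_subset_of_mem_open (Set.mem_univ x) isOpen_univ
    have he := (IsAffineOpen.isOpenImmersion_fromSpec hV).base_open
    have : T1Space (PrimeSpectrum Γ(X, V)) := he.isEmbedding.t1Space
    have hT := t2Space_primeSpectrum Γ(X, V)
    have hK : IsCompact ((U : Set X) ∩ (V : Set X)) :=
      QuasiSeparatedSpace.inter_isCompact _ _ U.2 hU.isCompact V.2 hV.isCompact
    have hsub : (U : Set X) ∩ (V : Set X) ⊆ Set.range hV.fromSpec := by
      rw [hV.range_fromSpec]; exact Set.inter_subset_right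
    have hK' : IsCompact (X := PrimeSpectrum Γ(X, V)) (hV.fromSpec ⁻¹' ((U : Set X) ∩ V)) :=
      he.isInducing.isCompact_preimage' hK hsub
    refine ⟨hV.fromSpec '' (hV.fromSpec ⁻¹' ((U : Set X) ∩ V))ᶜ, ?_,
      he.isOpenMap _ hK'.isClosed.isOpen_compl, ?_⟩
    · rintro _ ⟨z, hz, rfl⟩ hzU
      exact hz ⟨hzU, (Set.ext_iff.mp hV.range_fromSpec _).mp ⟨z, rfl⟩⟩
    · obtain ⟨z, rfl⟩ := (Set.ext_iff.mp hV.range_fromSpec x).mpr hxV
      exact ⟨z, fun h => hx h.1, rfl⟩
  refine ⟨fun x y hxy => ?_⟩
  obtain ⟨_, ⟨U, hU, rfl⟩, hxU, hUy⟩ := X.isBasis_affineOpens.exists_subset_of_mem_open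
    (show x ∈ ({y}ᶜ : Set X) from hxy) isClosed_singleton.isOpen_compl
  exact ⟨_, _, U.2, (hcl U hU).isOpen_compl, hxU, fun h => hUy h rfl, disjoint_compl_right⟩

set_option backward.defeqAttrib.useBackward true in
set_option backward.isDefEq.respectTransparency false in
theorem mem_diagonalCoverDiagonalRange {X Y : Scheme.{u}} (f : X ⟶ Y) (𝒰 : Y.OpenCover)
    (𝒱 : ∀ i, (pullback f (𝒰.f i)).OpenCover) (x : (pullback f f : Scheme.{u}))
    (H : pullback.fst f f x = pullback.snd f f x) :
    x ∈ Scheme.Pullback.diagonalCoverDiagonalRange f 𝒰 𝒱 := by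
  simp only [Scheme.Pullback.diagonalCoverDiagonalRange, Scheme.Pullback.openCoverOfBase_I₀,
    Scheme.Pullback.openCoverOfBase_X, Scheme.Pullback.openCoverOfLeftRight_I₀, Opens.iSup_mk,
    Opens.carrier_eq_coe, Scheme.Hom.coe_opensRange, Opens.mem_mk, Set.mem_iUnion, Set.mem_range,
    Sigma.exists]
  let i := 𝒰.idx (f (pullback.fst f f x))
  obtain ⟨y : 𝒰.X i, hy : 𝒰.f i y = f _⟩ :=
    𝒰.covers (f (pullback.fst f f x))
  obtain ⟨z, hz₁, hz₂⟩ := Scheme.Pullback.exists_preimage_pullback _ _ hy.symm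
  let j := (𝒱 i).idx z
  obtain ⟨w : (𝒱 i).X j, hy : (𝒱 i).f j w = z⟩ := (𝒱 i).covers z
  refine ⟨i, j, ?_⟩
  simp_rw [Scheme.Pullback.diagonalCover_map]
  change x ∈ Set.range _
  simp only [Scheme.Pullback.diagonalCover, Scheme.Pullback.openCoverOfBase_I₀,
    Precoverage.ZeroHypercover.pullback₁_toPreZeroHypercover, PreZeroHypercover.pullback₁_X,
    Precoverage.ZeroHypercover.bind_toPreZeroHypercover, Scheme.Pullback.openCoverOfBase_X,
    PreZeroHypercover.bind_X, Scheme.Pullback.openCoverOfLeftRight_I₀,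
    Scheme.Pullback.openCoverOfLeftRight_X]
  rw [Scheme.Pullback.range_map]
  simp [← H, ← hz₁, ← hy]

theorem isSeparated_of_t2 (X : Scheme.{u}) [T2Space X] : X.IsSeparated := by
  refine ⟨⟨?_⟩⟩
  let f : X ⟶ ⊤_ Scheme.{u} := terminal.from X
  let 𝒰 := (⊤_ Scheme.{u}).affineCover
  let 𝒱 (i) := (pullback f (𝒰.f i)).affineCover
  have hcl : IsClosed (Set.range (pullback.diagonal f)) := by
    rw [← closure_subset_iff_isClosed]
    intro z hz
    have hfix : pullback.fst f f z = pullback.snd f f z := by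
      refine closure_minimal ?_ (isClosed_eq (pullback.fst f f).continuous
        (pullback.snd f f).continuous) hz
      rintro _ ⟨w, rfl⟩
      change pullback.fst f f (pullback.diagonal f w) = pullback.snd f f (pullback.diagonal f w)
      rw [← Scheme.Hom.comp_apply, ← Scheme.Hom.comp_apply, pullback.diagonal_fst,
        pullback.diagonal_snd]
    set W := Scheme.Pullback.diagonalCoverDiagonalRange f 𝒰 𝒱
    have hzW : z ∈ W := mem_diagonalCoverDiagonalRange f 𝒰 𝒱 z hfix
    have hci : IsClosedImmersion (pullback.diagonal f ∣_ W) :=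
      isClosedImmersion_diagonal_restrict_diagonalCoverDiagonalRange f 𝒰 𝒱
    have hr := hci.base_closed.isClosed_range
    obtain ⟨C, hC, hCr⟩ := isClosed_induced_iff.mp hr
    by_contra hzr
    have hzC : z ∉ C := fun h => by
      have : (⟨z, hzW⟩ : W) ∈ Set.range (pullback.diagonal f ∣_ W) := hCr ▸ h
      obtain ⟨w, hw⟩ := this
      exact hzr ⟨w.1, by
        have := congrArg Subtype.val hw
        rwa [morphismRestrict_base_coe] at this⟩
    obtain ⟨_, ⟨hw1, hw2⟩, w, rfl⟩ := mem_closure_iff.mp hz ((W : Set _) ∩ Cᶜ)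
      (W.2.inter hC.isOpen_compl) ⟨hzW, hzC⟩
    have : (⟨pullback.diagonal f w, hw1⟩ : W) ∈ (Subtype.val ⁻¹' C : Set W) := by
      rw [hCr]; exact ⟨⟨w, hw1⟩, Subtype.ext (morphismRestrict_base_coe _ _ _)⟩
    exact hw2 this
  exact .of_isPreimmersion _ hcl

theorem isAffineOpen_of_isClopen {X : Scheme.{u}} {B W : X.Opens} (hB : IsAffineOpen B)
    (hWB : W ≤ B) (hW : IsClosed (W : Set X)) : IsAffineOpen W := by
  have hclopen : IsClopen (hB.fromSpec ⁻¹' (W : Set X)) :=
    ⟨hW.preimage hB.fromSpec.continuous, W.2.preimage hB.fromSpec.continuous⟩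
  obtain ⟨e, -, he⟩ := PrimeSpectrum.exists_idempotent_basicOpen_eq_of_isClopen hclopen
  have : X.basicOpen e = W := by
    apply Opens.ext
    rw [← hB.fromSpec_image_basicOpen, Scheme.Hom.coe_image]
    refine (congrArg (hB.fromSpec '' ·) he.symm).trans ?_
    rw [Set.image_preimage_eq_inter_range]
    exact (congrArg ((W : Set X) ∩ ·) hB.range_fromSpec).trans (Set.inter_eq_left.mpr hWB)
  exact this ▸ hB.basicOpen e

theorem isAffineOpen_of_isCompact {X : Scheme.{u}} [T2Space X] (U : X.Opens)
    (hU : IsCompact (U : Set X)) : IsAffineOpen U := by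
  have hsup : ∀ A B : X.Opens, IsAffineOpen A → IsAffineOpen B → IsAffineOpen (A ⊔ B) := by
    intro A B hA hB
    have hAc : IsClosed (A : Set X) := hA.isCompact.isClosed
    let B' : X.Opens := ⟨(B : Set X) ∩ (A : Set X)ᶜ, B.2.inter hAc.isOpen_compl⟩
    have hB' : IsAffineOpen B' := isAffineOpen_of_isClopen hB (fun x hx => hx.1)
      (hB.isCompact.isClosed.inter A.2.isClosed_compl)
    have hd : Disjoint A B' := by
      exact disjoint_iff.mpr (Opens.ext (Set.eq_empty_iff_forall_notMem.mpr fun x hx => hx.2.2 hx.1))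
    have : A ⊔ B = A ⊔ B' := by
      ext x; simp [B']; tauto
    exact this ▸ IsAffineOpen.sup_of_disjoint hA hB' hd
  obtain ⟨s, hs, hUs⟩ := (isCompact_and_isOpen_iff_finite_and_eq_biUnion_affineOpens).mp ⟨hU, U.2⟩
  lift s to Finset X.affineOpens using hs
  have key : ∀ s : Finset X.affineOpens, IsAffineOpen (s.sup fun i => (i : X.Opens)) := by
    intro s
    induction s using Finset.cons_induction with
    | empty => simpa using isAffineOpen_bot X
    | cons a s ha ih => rw [Finset.sup_cons]; exact hsup _ _ a.2 ih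
  convert! key s
  apply Opens.ext
  rw [hUs, Finset.sup_eq_iSup]
  simp

end Groth.Agent.Props.DimZero
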