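import Groth.Agent.Props.QProj

/-!
# Sheaves associated to modules: finiteness, presentation, projectivity
-/

universe u

open CategoryTheory Limits AlgebraicGeometry Opposite TopologicalSpace

noncomputable section

namespace Groth.Agent.Props.QTilde

section Scalar

variable {A B M : Type*} [CommRing A] [CommRing B] [AddCommGroup M] [Module A M] [Module B M]
  (σ : A ≃+* B) (h : ∀ (a : A) (m : M), σ a • m = a • m)

include h

theorem finite_of_ringEquiv [Module.Finite B M] : Module.Finite A M := by
  let _ : Algebra A B := σ.toRingHom.toAlgebra
  have : IsScalarTower A B M := IsScalarTower.of_algebraMap_smul h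
  have : Module.Finite A B := Module.Finite.equiv
    ({ σ with map_smul' := fun r x => map_mul σ r x } : A ≃ₗ[A] B)
  exact Module.Finite.trans B M

theorem finitePresentation_of_ringEquiv [Module.FinitePresentation B M] :
    Module.FinitePresentation A M := by
  let _ : Algebra A B := σ.toRingHom.toAlgebra
  have : IsScalarTower A B M := IsScalarTower.of_algebraMap_smul h
  have : Module.FinitePresentation A B := Module.FinitePresentation.of_equiv
    ({ σ with map_smul' := fun r x => map_mul σ r x } : A ≃ₗ[A] B)
  exact Module.FinitePresentation.trans A M B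

theorem projective_of_ringEquiv [Module.Projective A M] : Module.Projective B M := by
  let σ₁ : A →+* B := σ
  let σ₂ : B →+* A := σ.symm
  have : RingHomInvPair σ₁ σ₂ := RingHomInvPair.of_ringEquiv σ
  have : RingHomInvPair σ₂ σ₁ := RingHomInvPair.of_ringEquiv σ.symm
  let e : M ≃ₛₗ[σ₁] M :=
    { AddEquiv.refl M with map_smul' := fun r x => (h r x).symm }
  exact Module.Projective.of_equiv e

omit [Module A M] h

theorem symm_apply [Module A M] (h : ∀ (a : A) (m : M), σ a • m = a • m) (b : B) (m : M) :
    σ.symm b • m = b • m := by
  rw [← h, σ.apply_symm_apply]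

end Scalar

variable {R : CommRingCat.{u}} (M : ModuleCat.{u} R)

/-- The ring `R` versus global functions on `Spec R`. -/
def topRingEquiv (R : CommRingCat.{u}) : R ≃+* Γ(Spec R, ⊤) :=
  (Scheme.ΓSpecIso R).symm.commRingCatIsoToRingEquiv

lemma topRingEquiv_smul (N : (Spec R).Modules) (r : R) (x : Γ(N, ⊤)) :
    topRingEquiv R r • x = r • x := by
  have := QCoh.top_pow_smul N r 1 x
  rw [pow_one, pow_one] at this
  exact this

/-- Global sections of the sheaf associated to `M`. -/
def topEquiv : M ≃ₗ[R] Γ(tilde M, ⊤) := (tilde.isoTop M).toLinearEquiv

theorem isFT_iff : CohB1.IsFT (tilde M) ↔ Module.Finite R M := by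
  constructor
  · intro h
    have := QCoh.finite_sections_of_isFiniteType (tilde M) (isAffineOpen_top (Spec R))
    have := finite_of_ringEquiv (topRingEquiv R) (topRingEquiv_smul (tilde M))
    exact Module.Finite.equiv (topEquiv M).symm
  · intro h
    refine QCoh.isFiniteType_of_forall_exists (tilde M) fun x => ⟨⊤, isAffineOpen_top _, trivial, ?_⟩
    have : Module.Finite R Γ(tilde M, ⊤) := Module.Finite.equiv (topEquiv M)
    exact finite_of_ringEquiv (topRingEquiv R).symm
      (symm_apply (topRingEquiv R) (topRingEquiv_smul (tilde M)))

theorem finitePresentation_top_iff :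
    Module.FinitePresentation Γ(Spec R, ⊤) Γ(tilde M, ⊤) ↔ Module.FinitePresentation R M := by
  constructor
  · intro h
    have := finitePresentation_of_ringEquiv (topRingEquiv R) (topRingEquiv_smul (tilde M))
    exact Module.FinitePresentation.of_equiv (topEquiv M).symm
  · intro h
    have : Module.FinitePresentation R Γ(tilde M, ⊤) :=
      Module.FinitePresentation.of_equiv (topEquiv M)
    exact finitePresentation_of_ringEquiv (topRingEquiv R).symm
      (symm_apply (topRingEquiv R) (topRingEquiv_smul (tilde M)))

theorem projective_top_iff :
    Module.Projective Γ(Spec R, ⊤) Γ(tilde M, ⊤) ↔ Module.Projective R M := by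
  constructor
  · intro h
    have := projective_of_ringEquiv (topRingEquiv R).symm
      (symm_apply (topRingEquiv R) (topRingEquiv_smul (tilde M)))
    exact Module.Projective.of_equiv' (topEquiv M).symm
  · intro h
    have : Module.Projective R Γ(tilde M, ⊤) := Module.Projective.of_equiv' (topEquiv M)
    exact projective_of_ringEquiv (topRingEquiv R) (topRingEquiv_smul (tilde M))

end Groth.Agent.Props.QTilde

end
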