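import Mathlib.AlgebraicGeometry.Properties
import Mathlib.AlgebraicGeometry.Stalk

/-!
# Irreducible components of schemes with domain stalks
-/

set_option autoImplicit false

namespace Groth.Agent.Props.Components

open AlgebraicGeometry TopologicalSpace

universe u

variable {X : Scheme.{u}}

theorem existsUnique_component (hX : ∀ x : X, IsDomain (X.presheaf.stalk x)) (x : X) :
    ∃! Z, Z ∈ irreducibleComponents (X : Type u) ∧ x ∈ Z := by
  refine ⟨irreducibleComponent x,
    ⟨irreducibleComponent_mem_irreducibleComponents x, mem_irreducibleComponent⟩, ?_⟩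
  have key : ∀ Z ∈ irreducibleComponents (X : Type u), x ∈ Z →
      ∃ b : PrimeSpectrum (X.presheaf.stalk x), Z = closure {X.fromSpecStalk x b} ∧
        b.asIdeal = ⊥ := by
    intro Z hZ hxZ
    have hcl := isClosed_of_mem_irreducibleComponents Z hZ
    have hη := hZ.1.isGenericPoint_genericPoint hcl
    have : hZ.1.genericPoint ∈ Set.range (X.fromSpecStalk x) := by
      rw [Scheme.range_fromSpecStalk]; exact hη.specializes hxZ
    obtain ⟨a, ha⟩ := this
    haveI := hX x
    let b : PrimeSpectrum (X.presheaf.stalk x) := ⟨⊥, Ideal.isPrime_bot⟩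
    have hba : b ⤳ a := (PrimeSpectrum.le_iff_specializes b a).mp bot_le
    have h1 : X.fromSpecStalk x b ⤳ hZ.1.genericPoint :=
      ha ▸ hba.map (X.fromSpecStalk x).continuous
    refine ⟨b, subset_antisymm ?_ ?_, rfl⟩
    · rw [← hη.def]; exact specializes_iff_closure_subset.mp h1
    · exact hZ.2 isIrreducible_singleton.closure
        (hη.def ▸ specializes_iff_closure_subset.mp h1)
  rintro Z ⟨hZ, hxZ⟩
  obtain ⟨b, hb, hb0⟩ := key Z hZ hxZ
  obtain ⟨c, hc, hc0⟩ := key _ (irreducibleComponent_mem_irreducibleComponents x)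
    mem_irreducibleComponent
  rw [hb, hc, show b = c from PrimeSpectrum.ext (hb0.trans hc0.symm)]

theorem isOpen_of_locally_finite (hX : ∀ x : X, IsDomain (X.presheaf.stalk x))
    (hfin : ∀ x : X, ∃ U : X.Opens, x ∈ U ∧
      {Z ∈ irreducibleComponents (X : Type u) | (Z ∩ (U : Set X)).Nonempty}.Finite)
    (Z : Set X) (hZ : Z ∈ irreducibleComponents (X : Type u)) : IsOpen Z := by
  rw [isOpen_iff_forall_mem_open]
  intro x hx
  obtain ⟨U, hxU, hU⟩ := hfin x
  have hB : IsClosed (⋃ W ∈ {W ∈ irreducibleComponents (X : Type u) |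
      (W ∩ (U : Set X)).Nonempty} \ {Z}, W) :=
    hU.sdiff.isClosed_biUnion fun W hW => isClosed_of_mem_irreducibleComponents W hW.1.1
  refine ⟨(U : Set X) ∩ (⋃ W ∈ {W ∈ irreducibleComponents (X : Type u) |
      (W ∩ (U : Set X)).Nonempty} \ {Z}, W)ᶜ, ?_, U.2.inter hB.isOpen_compl, hxU, ?_⟩
  · rintro y ⟨hyU, hy⟩
    by_contra hyZ
    exact hy (Set.mem_biUnion (x := irreducibleComponent y)
      ⟨⟨irreducibleComponent_mem_irreducibleComponents y, y, mem_irreducibleComponent, hyU⟩,
        fun e => hyZ ((Set.mem_singleton_iff.mp e) ▸ mem_irreducibleComponent)⟩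
      mem_irreducibleComponent)
  · intro hxB
    obtain ⟨W, ⟨⟨hW, -⟩, hne⟩, hxW⟩ := Set.mem_iUnion₂.mp hxB
    exact hne ((existsUnique_component hX x).unique ⟨hW, hxW⟩ ⟨hZ, hx⟩)

theorem finite_meeting (U : X.Opens) (h : (irreducibleComponents ↥U).Finite) :
    {Z ∈ irreducibleComponents (X : Type u) | (Z ∩ (U : Set X)).Nonempty}.Finite := by
  refine (h.image fun C => closure (Subtype.val '' C)).subset ?_
  rintro Z ⟨hZ, hne⟩
  refine ⟨Subtype.val ⁻¹' Z, preimage_mem_irreducibleComponents hZ U.isOpenEmbedding'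
    (by simpa using hne), ?_⟩
  refine closure_image_preimage_of_isPreirreducible _ U.isOpenEmbedding'.isOpenMap Z ?_ hZ.1.2
    (isClosed_of_mem_irreducibleComponents Z hZ)
  obtain ⟨z, hz, hzU⟩ := hne
  exact ⟨⟨z, hzU⟩, hz⟩

end Groth.Agent.Props.Components
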