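import Groth.Agent.Props.AffineCrit
import Groth.Agent.CohAff.AffineCech
import Groth.Agent.QCoh.Qcqs
import Groth.Agent.CohDev.Coh
import Mathlib.AlgebraicGeometry.QuasiAffine

/-!
# Serre's criterion with ideals of finite type
-/

set_option autoImplicit false

universe u

open CategoryTheory Limits AlgebraicGeometry Opposite TopologicalSpace

noncomputable section

namespace Groth.Agent.Props.AffineCritFT

open Groth.Agent.QCoh Groth.Agent.Props.GenLocus Groth.Agent.Props.AffineCrit Groth.Agent.CohAff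

variable {X : Scheme.{u}} {I : X.Modules}

/-- `(y_j) ↦ Σ y_j σ_j`. -/
def sumHom (σ : ℕ → Γ(I, ⊤)) : ∀ r, pr X r ⟶ I
  | 0 => homOfSec (σ 0)
  | r + 1 => biprod.desc (sumHom σ r) (homOfSec (σ (r + 1)))

lemma exists_factor (σ : ℕ → Γ(I, ⊤)) : ∀ (r j : ℕ), j ≤ r →
    ∃ e : Coh.structureModule X ⟶ pr X r, e ≫ sumHom σ r = homOfSec (σ j)
  | 0, j, hj => ⟨𝟙 _, (Category.id_comp _).trans (by rw [Nat.le_zero.mp hj]; rfl)⟩
  | r + 1, j, hj => by
    rcases Nat.le_succ_iff.mp hj with hj | rfl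
    · obtain ⟨e, he⟩ := exists_factor σ r j hj
      exact ⟨e ≫ (biprod.inl : pr X r ⟶ pr X (r + 1)), (Category.assoc _ _ _).trans
        ((congrArg (e ≫ ·) (biprod.inl_desc _ _)).trans he)⟩
    · exact ⟨biprod.inr, biprod.inr_desc _ _⟩

theorem isCoh_structureModule : Coh.IsCoh (Coh.structureModule X) := by
  have := ProjTwist.isQuasicoherent_structureModule X
  refine ⟨this, isFiniteType_of_forall_exists _ fun x => ?_⟩
  obtain ⟨U, hU, hxU, -⟩ := exists_isAffineOpen_mem_and_subset (Opens.mem_top x)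
  exact ⟨U, hU, hxU, Module.Finite.self Γ(X, U)⟩

theorem isCoh_pr : ∀ r, Coh.IsCoh (pr X r)
  | 0 => isCoh_structureModule
  | r + 1 => CohDev.isCoh_biprod (isCoh_pr r) (isCoh_structureModule)

/-- Finitely many sections on basic opens lie in a submodule of finite type. -/
theorem exists_submodule [CompactSpace X] [QuasiSeparatedSpace X] (hI : I.IsQuasicoherent)
    {κ : Type*} [Finite κ] (g : κ → Γ(X, ⊤)) (c : ∀ p, Γ(I, X.basicOpen (g p))) :
    ∃ (J : X.Modules) (j : J ⟶ I), Mono j ∧ Coh.IsQCoh J ∧ CohB1.IsFT J ∧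
      ∀ p, ∃ s : Γ(J, X.basicOpen (g p)), j.app _ s = c p := by
  classical
  have := hI
  have := Fintype.ofFinite κ
  choose N t ht using fun p => (isLocalizingAt_of_qcqs I (U := ⊤) isCompact_univ
    isQuasiSeparated_univ (g p)).surj (c p)
  let e := Fintype.equivFin κ
  let σ : ℕ → Γ(I, ⊤) := fun k => if hk : k < Fintype.card κ then t (e.symm ⟨k, hk⟩) else 0
  let ψ := sumHom σ (Fintype.card κ)
  have hq : Coh.IsQCoh (Abelian.image ψ) := isQuasicoherent_image ψ
  refine ⟨Abelian.image ψ, Abelian.image.ι ψ, inferInstance, hq,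
    (CohDev.isCoh_of_epi (Abelian.factorThruImage ψ) (isCoh_pr _) hq).2, fun p => ?_⟩
  obtain ⟨w, hw⟩ := exists_factor σ (Fintype.card κ) (e p) (e p).2.le
  let s : Coh.structureModule X ⟶ Abelian.image ψ := w ≫ Abelian.factorThruImage ψ
  have hs : s ≫ Abelian.image.ι ψ = homOfSec (σ (e p)) := by
    rw [Category.assoc, Abelian.image.fac, hw]
  have hσ : σ (e p) = t p := by
    simp only [σ, (e p).2, dif_pos, Fin.eta, Equiv.symm_apply_apply]
  have hu : IsUnit (rres (X.basicOpen_le (g p)) (g p)) :=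
    RingedSpace.isUnit_res_basicOpen X.toRingedSpace (g p)
  obtain ⟨v, hv⟩ := isUnit_iff_exists_inv'.mp (hu.pow (N p))
  refine ⟨v • sec s (X.basicOpen (g p)), ?_⟩
  rw [Scheme.Modules.Hom.app_smul]
  have h1 : (Abelian.image.ι ψ).app (X.basicOpen (g p)) (sec s (X.basicOpen (g p))) =
      res I (le_top : X.basicOpen (g p) ≤ ⊤) (t p) := by
    change sec (s ≫ Abelian.image.ι ψ) _ = _
    rw [hs, sec_homOfSec, hσ]
  rw [h1, show res I (le_top : X.basicOpen (g p) ≤ ⊤) (t p) = _ from ht p, smul_smul]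
  refine (congrArg (· • c p) ?_).trans (one_smul _ _)
  simpa only [map_pow] using hv

/-- On a quasi-affine scheme, vanishing for finite type ideals gives vanishing for all ideals. -/
theorem subsingleton_H_one [X.IsQuasiAffine]
    (h : ∀ (I : X.Modules) (i : I ⟶ Coh.structureModule X), Mono i →
      Coh.IsQCoh I → CohB1.IsFT I → Subsingleton (Coh.HH X I 1))
    (I : X.Modules) (i : I ⟶ Coh.structureModule X) (hi : Mono i) (hI : Coh.IsQCoh I) :
    Subsingleton (Coh.HH X I 1) := by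
  classical
  refine (subsingleton_H_iff (Coh.toAb I) 0).mpr fun q₀ => ?_
  let F := Coh.toAb I
  let q : (qt F).obj.obj (op ⊤) := q₀
  obtain ⟨Fs, hFs⟩ := isCompact_univ.elim_finite_subcover
    (fun t : {t : Γ(X, ⊤) // IsAffineOpen (X.basicOpen t)} => (X.basicOpen t.1 : Set X))
    (fun t => (X.basicOpen t.1).2) fun x _ => by
      obtain ⟨_, ⟨r, hr, rfl⟩, hxr, -⟩ := Opens.isBasis_iff_nbhd.mp
        (Scheme.IsQuasiAffine.isBasis_basicOpen X) (U := ⊤) (x := x) trivial
      exact Set.mem_iUnion.mpr ⟨⟨r, hr⟩, hxr⟩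
  let U : Fs → Opens X.toPresheafedSpace.carrier := fun a => X.basicOpen a.1.1
  have hU : (⊤ : Opens X.toPresheafedSpace.carrier) ≤ ⨆ a, U a := fun x _ => by
    obtain ⟨t, ht, hxt⟩ := Set.mem_iUnion₂.mp (hFs (Set.mem_univ x))
    exact Opens.mem_iSup.mpr ⟨⟨t, ht⟩, hxt⟩
  have : Fintype Fs := inferInstance
  have hI' : I.IsQuasicoherent := hI
  have hlift : ∀ a : Fs, ∃ t : (gd F).obj.obj (op (U a)),
      CohAff.sec (cokernel.π (η F)) (U a) t = res (qt F).obj (le_top : U a ≤ ⊤) q := fun a =>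
    (good_affCov I).sec_surjective (gdSeq_shortExact F) (U := U a) a.1.2 (res (qt F).obj (le_top : U a ≤ ⊤) q)
  choose t ht using hlift
  have hdiff : ∀ a b : Fs, ∃ c : F.obj.obj (op (U a ⊓ U b)), sec (η F) _ c =
      res (gd F).obj (inf_le_left : U a ⊓ U b ≤ U a) (t a) -
        res (gd F).obj (inf_le_right : U a ⊓ U b ≤ U b) (t b) := fun a b =>
    sec_exact (S := gdSeq F) (gdSeq_shortExact F) (by
      change CohAff.sec (cokernel.π (η F)) _ (_ - _) = 0
      rw [map_sub]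
      refine sub_eq_zero.mpr ?_
      rw [← CohAff.sec_res (cokernel.π (η F)), ← CohAff.sec_res (cokernel.π (η F)), ht, ht]
      exact (res_res (qt F).obj _ _ q).trans (res_res (qt F).obj _ _ q).symm)
  choose c hc using hdiff
  have hUU : ∀ a b : Fs, U a ⊓ U b = X.basicOpen (a.1.1 * b.1.1) := fun a b =>
    (X.basicOpen_mul _ _).symm
  obtain ⟨J, j, hj, hJ, hJft, hcJ⟩ := exists_submodule hI' (fun p : Fs × Fs => p.1.1.1 * p.2.1.1)
    fun p => res I (hUU p.1 p.2).ge (c p.1 p.2)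
  choose c' hc' using fun a b : Fs => hcJ (a, b)
  let G := Coh.toAb J
  let c'' : ∀ a b : Fs, G.obj.obj (op (U a ⊓ U b)) := fun a b => res J (hUU a b).le (c' a b)
  have hcc : ∀ a b, sec (CohLin.abMap j) _ (c'' a b) = c a b := by
    intro a b
    change j.app _ (QCoh.res J (hUU a b).le (c' a b)) = c a b
    rw [app_res, hc', QCoh.res_res]
    exact QCoh.res_self I le_rfl (c a b)
  have hjinj : ∀ W : Opens X.toPresheafedSpace.carrier, Function.Injective (sec (CohLin.abMap j) W) :=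
    fun W => app_injective_of_mono j W
  have hcoc : ∀ (a b d : Fs) (W : Opens X.toPresheafedSpace.carrier) (ha : W ≤ U a) (hb : W ≤ U b)
      (hd : W ≤ U d), res G.obj (le_inf ha hb) (c'' a b) + res G.obj (le_inf hb hd) (c'' b d) =
        res G.obj (le_inf ha hd) (c'' a d) := by
    intro a b d W ha hb hd
    apply hjinj W
    rw [map_add, ← CohAff.sec_res, ← CohAff.sec_res, ← CohAff.sec_res, hcc, hcc, hcc]
    apply η_app_injective F W
    change sec (η F) W _ = sec (η F) W _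
    rw [map_add, ← CohAff.sec_res, ← CohAff.sec_res, ← CohAff.sec_res, hc, hc, hc, map_sub, map_sub, map_sub, CohAff.res_res,
      CohAff.res_res, CohAff.res_res, CohAff.res_res, CohAff.res_res, CohAff.res_res]
    abel
  have := h J (j ≫ i) inferInstance hJ hJft
  obtain ⟨e, he⟩ := MayerVietoris.exists_sub_eq_family G U hU c'' hcoc
  obtain ⟨T, hT, -⟩ := TopCat.Sheaf.existsUnique_gluing' (gd F) U ⊤ (fun a => homOfLE le_top) hU
    (fun a => t a - sec (η F) (U a) (sec (CohLin.abMap j) (U a) (e a))) (fun a b => by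
      change res (gd F).obj (inf_le_left : U a ⊓ U b ≤ U a) _ = res (gd F).obj (inf_le_right : U a ⊓ U b ≤ U b) _
      rw [map_sub, map_sub, CohAff.sec_res, CohAff.sec_res, CohAff.sec_res, CohAff.sec_res, sub_eq_sub_iff_sub_eq_sub, ← map_sub, ← map_sub,
        he, hcc, hc])
  refine ⟨T, TopCat.Sheaf.eq_of_locally_eq' (qt F) U ⊤ (fun a => homOfLE le_top) hU _ _ fun a => ?_⟩
  change res (qt F).obj (le_top : U a ≤ ⊤) (CohAff.sec (cokernel.π (η F)) ⊤ T) =
    res (qt F).obj (le_top : U a ≤ ⊤) q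
  rw [CohAff.sec_res, show res (gd F).obj (le_top : U a ≤ ⊤) T = _ from hT a, map_sub, ht a,
    show CohAff.sec (cokernel.π (η F)) (U a) (CohAff.sec (η F) (U a) (CohAff.sec (CohLin.abMap j) (U a) (e a))) = 0 from
      sec_g_f (S := gdSeq F) _ _, sub_zero]

/-- Serre's criterion with ideals of finite type. -/
theorem serre [CompactSpace X] [QuasiSeparatedSpace X]
    (h : ∀ (I : X.Modules) (i : I ⟶ Coh.structureModule X), Mono i →
      Coh.IsQCoh I → CohB1.IsFT I → Subsingleton (Coh.HH X I 1)) : IsAffine X := by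
  have hloc : ∀ x : X, IsClosed ({x} : Set X) →
      ∃ t : Γ(X, ⊤), IsAffineOpen (X.basicOpen t) ∧ x ∈ X.basicOpen t := by
    intro x hxc
    obtain ⟨U, hU, hx, -⟩ := exists_isAffineOpen_mem_and_subset (U := (⊤ : X.Opens)) (x := x) trivial
    choose W hW hyW hWx using fun y : ((U : Set X)ᶜ : Set X) =>
      exists_isAffineOpen_mem_and_subset (U := (⟨{x}ᶜ, hxc.isOpen_compl⟩ : X.Opens)) (x := y.1)
        (fun (hyx : y.1 = x) => y.2 (hyx ▸ hx))
    obtain ⟨F, hF⟩ := U.2.isClosed_compl.isCompact.elim_finite_subcover (fun y => (W y : Set X))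
      (fun y => (W y).2) fun y hy => Set.mem_iUnion.mpr ⟨⟨y, hy⟩, hyW ⟨y, hy⟩⟩
    let V : X.Opens := ⨆ y : F, W y.1
    have hV : IsCompact (V : Set X) := by
      rw [Opens.coe_iSup]
      exact isCompact_iUnion fun y => (hW y.1).isCompact
    have hUV : U ⊔ V = ⊤ := top_le_iff.mp fun y _ => by
      by_cases hy : y ∈ U
      · exact Or.inl hy
      · obtain ⟨z, hz, hyz⟩ := Set.mem_iUnion₂.mp (hF hy)
        exact Or.inr (Opens.mem_iSup.mpr ⟨⟨z, hz⟩, hyz⟩)
    obtain ⟨I, hI, hsupp⟩ := SubIdeal.exists_ideal (U ⊓ V)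
      (QuasiSeparatedSpace.inter_isCompact _ _ U.2 hU.isCompact V.2 hV)
    have : Subsingleton (Coh.HH X (ClSub.idealMod I) 1) :=
      h _ (ClSub.idealModι I) (inferInstanceAs (Mono (kernel.ι _))) (AmpleLib.isQCoh_idealMod I)
        (AmpleLib.isFT_idealMod hI)
    refine exists_basicOpen_of_ideal (U := U) (V := V) hU hx (fun hxV => ?_) hUV I hsupp
    obtain ⟨z, hz⟩ := Opens.mem_iSup.mp hxV
    exact hWx z.1 hz rfl
  have : X.IsQuasiAffine := Scheme.IsQuasiAffine.of_forall_exists_mem_basicOpen X fun y => by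
    have hcov : (⨆ t : {t : Γ(X, ⊤) // IsAffineOpen (X.basicOpen t)}, X.basicOpen t.1) = ⊤ :=
      eq_top_of_closed_points fun x hxc =>
        let ⟨t, ht, hxt⟩ := hloc x hxc
        Opens.mem_iSup.mpr ⟨⟨t, ht⟩, hxt⟩
    obtain ⟨t, ht⟩ := Opens.mem_iSup.mp (hcov.ge (trivial : y ∈ (⊤ : X.Opens)))
    exact ⟨t.1, t.2, ht⟩
  exact isAffine_of_closed_points (subsingleton_H_one h) hloc

end Groth.Agent.Props.AffineCritFT

end
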