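import Groth.Agent.ProjTwist.Sect
import Groth.Agent.Props.GenPull

/-!
# `O(D)` over `D₊(f)` for `f` homogeneous of degree `D`
-/

universe u

open CategoryTheory Limits AlgebraicGeometry Opposite TopologicalSpace

noncomputable section

namespace Groth.Agent.Props.ProjFrame

open Groth.Agent.QCoh Groth.Agent.Props.GenLocus Twist Groth.Agent.ProjTwist

variable {R A : Type u} [CommRing R] [CommRing A] [Algebra R A] {𝒜 : ℕ → Submodule R A}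
  [GradedAlgebra 𝒜]

lemma one_nin (x : ProjectiveSpectrum 𝒜) : (1 : A) ∉ x.asHomogeneousIdeal :=
  fun h => x.isPrime.ne_top ((Ideal.eq_top_iff_one _).mpr h)

/-- `f` as a section of `O(D)`. -/
def frac {D : ℕ} {f : A} (hf : f ∈ 𝒜 D) (U : (Proj 𝒜).Opens) : Γ(twist 𝒜 (D : ℤ), U) :=
  (⟨fun x => ⟨Localization.mk f ⟨1, one_nin x.1⟩,
      Submodule.subset_span ⟨D, 0, ⟨f, hf⟩, ⟨1, SetLike.GradedOne.one_mem⟩, _, by simp, rfl⟩⟩,
    fun x => ⟨U, x.2, 𝟙 _, D, 0, ⟨f, hf⟩, ⟨1, SetLike.GradedOne.one_mem⟩,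
      fun y => one_nin y.1, Or.inl (by simp), fun _ => rfl⟩⟩ : sectN (𝒜 := 𝒜) (D : ℤ) (op U))

/-- `1 / f` as a section of `O(-D)`. -/
def fracInv {D : ℕ} {f : A} (hf : f ∈ 𝒜 D) (U : (Proj 𝒜).Opens) (hU : U ≤ Proj.basicOpen 𝒜 f) :
    sectN (𝒜 := 𝒜) (-(D : ℤ)) (op U) :=
  ⟨fun x => ⟨Localization.mk 1 ⟨f, hU x.2⟩,
      Submodule.subset_span ⟨0, D, ⟨1, SetLike.GradedOne.one_mem⟩, ⟨f, hf⟩, hU x.2, by simp, rfl⟩⟩,
    fun x => ⟨U, x.2, 𝟙 _, 0, D, ⟨1, SetLike.GradedOne.one_mem⟩, ⟨f, hf⟩,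
      fun y => hU y.2, Or.inl (by simp), fun _ => rfl⟩⟩

lemma mk_mul_inv {x : ProjectiveSpectrum 𝒜} {f : A} (hf : f ∉ x.asHomogeneousIdeal) :
    (Localization.mk 1 ⟨f, hf⟩ * Localization.mk f ⟨1, one_nin x⟩ : Loc 𝒜 x) = 1 := by
  rw [mk_mul_mk]
  exact (congrArg₂ Localization.mk (one_mul f) (Subtype.ext (mul_one f))).trans
    (Localization.mk_self ⟨f, hf⟩)

/-- `f` generates `O(D)` over `D₊(f)`. -/
theorem isGen_frac {D : ℕ} {f : A} (hf : f ∈ 𝒜 D) :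
    IsGen (twist 𝒜 (D : ℤ)) (Proj.basicOpen 𝒜 f) (frac hf _) := by
  intro V h
  change Function.Bijective (fun c : O (𝒜 := 𝒜) (op V) =>
    c • (show sectN (𝒜 := 𝒜) (D : ℤ) (op V) from frac hf V))
  constructor
  · intro c d hcd
    refine Subtype.ext (funext fun x => HomogeneousLocalization.val_injective _ ?_)
    have hx := congrArg (fun s : sectN (𝒜 := 𝒜) (D : ℤ) (op V) => (s.1 x).1) hcd
    simp only [smul_coe] at hx
    have hu : IsUnit (Localization.mk f ⟨1, one_nin x.1⟩ : Loc 𝒜 x.1) :=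
      IsUnit.of_mul_eq_one_right _ (mk_mul_inv (h x.2))
    exact hu.mul_right_cancel hx
  · intro g
    obtain ⟨c, hc⟩ := exists_O_of_sectN_zero (mulSec (add_neg_cancel (D : ℤ)) g (fracInv hf V h))
    refine ⟨c, sectN_ext fun x => ?_⟩
    refine (smul_coe c _ x).trans ?_
    rw [hc x]
    refine (mul_assoc (g.1 x).1 _ _).trans ?_
    exact (congrArg _ (mk_mul_inv (h x.2))).trans (mul_one _)

/-- A degree zero fraction as a function. -/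
def coeff {k : ℕ} {a b : A} (ha : a ∈ 𝒜 k) (hb : b ∈ 𝒜 k) (U : (Proj 𝒜).Opens)
    (hU : U ≤ Proj.basicOpen 𝒜 b) : Γ(Proj 𝒜, U) :=
  (⟨fun x => HomogeneousLocalization.mk ⟨k, ⟨a, ha⟩, ⟨b, hb⟩, hU x.2⟩,
    fun x => ⟨U, x.2, 𝟙 _, k, ⟨a, ha⟩, ⟨b, hb⟩, fun y => hU y.2, fun _ => rfl⟩⟩ :
      O (𝒜 := 𝒜) (op U))

/-- The value of a function at a point, in the local ring of fractions. -/
def valAt {U : (Proj 𝒜).Opens} (c : Γ(Proj 𝒜, U)) (x : U) : Loc 𝒜 x.1 :=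
  ((show O (𝒜 := 𝒜) (op U) from c).1 x).val

lemma valAt_coeff {k : ℕ} {a b : A} (ha : a ∈ 𝒜 k) (hb : b ∈ 𝒜 k) (U : (Proj 𝒜).Opens)
    (hU : U ≤ Proj.basicOpen 𝒜 b) (x : U) :
    valAt (coeff ha hb U hU) x = Localization.mk a ⟨b, hU x.2⟩ :=
  HomogeneousLocalization.val_mk _

lemma valAt_ext {U : (Proj 𝒜).Opens} {c d : Γ(Proj 𝒜, U)} (h : ∀ x, valAt c x = valAt d x) :
    c = d :=
  Subtype.ext (funext fun x => HomogeneousLocalization.val_injective _ (h x))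

lemma valAt_mul {U : (Proj 𝒜).Opens} (c d : Γ(Proj 𝒜, U)) (x : U) :
    valAt (c * d) x = valAt c x * valAt d x :=
  HomogeneousLocalization.val_mul _ _

lemma valAt_pow {U : (Proj 𝒜).Opens} (c : Γ(Proj 𝒜, U)) (n : ℕ) (x : U) :
    valAt (c ^ n) x = valAt c x ^ n := by
  induction n with
  | zero => rw [pow_zero, pow_zero]; exact HomogeneousLocalization.val_one
  | succ n ih => rw [pow_succ, valAt_mul, ih, pow_succ]

lemma valAt_rres {U V : (Proj 𝒜).Opens} (h : V ≤ U) (c : Γ(Proj 𝒜, U)) (x : V) :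
    valAt (rres h c) x = valAt c ⟨x.1, h x.2⟩ := rfl

lemma basicOpen_coeff {k : ℕ} {a b : A} (ha : a ∈ 𝒜 k) (hb : b ∈ 𝒜 k) (U : (Proj 𝒜).Opens)
    (hU : U ≤ Proj.basicOpen 𝒜 b) :
    (Proj 𝒜).basicOpen (coeff ha hb U hU) = U ⊓ Proj.basicOpen 𝒜 a := by
  ext x
  refine ⟨fun hx => ⟨(Proj 𝒜).basicOpen_le _ hx, ?_⟩, fun hx => ?_⟩
  all_goals
    have hxU : x ∈ U := by first | exact (Proj 𝒜).basicOpen_le _ hx | exact hx.1
    have key : IsUnit ((Proj 𝒜).presheaf.germ U x hxU (coeff ha hb U hU)) ↔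
        a ∉ (show ProjectiveSpectrum 𝒜 from x).asHomogeneousIdeal := by
      refine Iff.trans (isUnit_map_iff (Proj.stalkIso' 𝒜 x)
        ((ProjectiveSpectrum.Proj.structureSheaf 𝒜).presheaf.germ U x hxU (coeff ha hb U hU))).symm ?_
      erw [Proj.stalkIso'_germ]
      rw [← HomogeneousLocalization.isUnit_iff_isUnit_val]
      erw [HomogeneousLocalization.val_mk]
      rw [Localization.mk_eq_mk']
      exact IsLocalization.AtPrime.isUnit_mk'_iff _ _ _ _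
  · exact key.mp (((Proj 𝒜).mem_basicOpen _ x hxU).mp hx)
  · exact ((Proj 𝒜).mem_basicOpen _ x hxU).mpr (key.mpr hx.2)

/-- Transition functions. -/
lemma coeff_change {D m : ℕ} {F G a : A} (hF : F ∈ 𝒜 D) (hG : G ∈ 𝒜 D) (ha : a ∈ 𝒜 (D * m))
    {u : Γ(Proj 𝒜, Proj.basicOpen 𝒜 F ⊓ Proj.basicOpen 𝒜 G)}
    (hu : res (twist 𝒜 (D : ℤ))
        (inf_le_right : Proj.basicOpen 𝒜 F ⊓ Proj.basicOpen 𝒜 G ≤ Proj.basicOpen 𝒜 G)
        (frac hG (Proj.basicOpen 𝒜 G)) =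
      u • res (twist 𝒜 (D : ℤ))
        (inf_le_left : Proj.basicOpen 𝒜 F ⊓ Proj.basicOpen 𝒜 G ≤ Proj.basicOpen 𝒜 F)
        (frac hF (Proj.basicOpen 𝒜 F)))
    (hFm : F ^ m ∈ 𝒜 (D * m)) (hGm : G ^ m ∈ 𝒜 (D * m))
    (hF' : Proj.basicOpen 𝒜 F ≤ Proj.basicOpen 𝒜 (F ^ m))
    (hG' : Proj.basicOpen 𝒜 G ≤ Proj.basicOpen 𝒜 (G ^ m)) :
    rres inf_le_left (coeff ha hFm _ hF') = u ^ m * rres inf_le_right (coeff ha hGm _ hG') := by
  refine valAt_ext fun x => ?_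
  have hx := congrArg (fun s : sectN (𝒜 := 𝒜) (D : ℤ)
    (op (Proj.basicOpen 𝒜 F ⊓ Proj.basicOpen 𝒜 G)) => (s.1 x).1) hu
  have e1 : (Localization.mk G ⟨1, one_nin x.1⟩ : Loc 𝒜 x.1) =
      valAt u x * Localization.mk F ⟨1, one_nin x.1⟩ :=
    hx.trans (smul_coe (show O (𝒜 := 𝒜) (op _) from u) _ x)
  rw [valAt_mul, valAt_pow, valAt_rres, valAt_rres, valAt_coeff, valAt_coeff]
  have e2 : algebraMap A (Loc 𝒜 x.1) G = valAt u x * algebraMap A (Loc 𝒜 x.1) F :=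
    (Localization.mk_one_eq_algebraMap G).symm.trans
      (e1.trans (congrArg _ (Localization.mk_one_eq_algebraMap F)))
  simp only [Localization.mk_eq_mk']
  rw [IsLocalization.mk'_eq_iff_eq_mul, mul_assoc]
  change algebraMap A _ a = _ * (_ * algebraMap A _ (F ^ m))
  rw [map_pow, mul_left_comm, ← mul_pow, ← e2, ← map_pow]
  exact (IsLocalization.mk'_spec (Loc 𝒜 x.1) a ⟨G ^ m, hG' x.2.2⟩).symm

/-- Basic opens of homogeneous elements of positive degree form a basis. -/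
theorem exists_basicOpen_le {U : (Proj 𝒜).Opens} {x : Proj 𝒜} (hx : x ∈ U) :
    ∃ (m : ℕ) (g : A), g ∈ 𝒜 (m + 1) ∧ x ∈ Proj.basicOpen 𝒜 g ∧ Proj.basicOpen 𝒜 g ≤ U := by
  classical
  obtain ⟨_, ⟨f, rfl⟩, hxf, hfU⟩ :=
    Opens.isBasis_iff_nbhd.mp (Proj.isBasis_basicOpen 𝒜) hx
  rw [Proj.basicOpen_eq_iSup_proj] at hxf hfU
  obtain ⟨i, hi⟩ := Opens.mem_iSup.mp hxf
  have hle := (le_iSup (fun i => Proj.basicOpen 𝒜 (GradedRing.proj 𝒜 i f)) i).trans hfU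
  have hmem : GradedRing.proj 𝒜 i f ∈ 𝒜 i := by
    rw [GradedRing.proj_apply]; exact (DirectSum.decompose 𝒜 f i).2
  obtain ⟨h, j, hj, hxh⟩ : ∃ (h : A) (j : ℕ), h ∈ 𝒜 (j + 1) ∧ x ∈ Proj.basicOpen 𝒜 h := by
    by_contra hc
    push Not at hc
    refine (show ProjectiveSpectrum 𝒜 from x).not_irrelevant_le fun a ha => ?_
    rw [← DirectSum.sum_support_decompose 𝒜 a]
    refine sum_mem fun j _ => ?_
    rcases j with _ | j
    · have h0 : (DirectSum.decompose 𝒜 a 0 : A) = 0 := ha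
      rw [h0]
      exact zero_mem _
    · exact of_not_not (hc _ j (DirectSum.decompose 𝒜 a (j + 1)).2)
  refine ⟨i + j, GradedRing.proj 𝒜 i f * h, ?_, ?_, ?_⟩
  · rw [add_assoc]; exact SetLike.mul_mem_graded hmem hj
  · exact fun hm => ((show ProjectiveSpectrum 𝒜 from x).isPrime.mem_or_mem hm).elim hi hxh
  · exact (Proj.basicOpen_mono 𝒜 _ _ (dvd_mul_right _ _)).trans hle

end Groth.Agent.Props.ProjFrame

end
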