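import Groth.Agent.Props.GenLocus
import Mathlib.CategoryTheory.Sites.LocallyBijective
import Mathlib.Algebra.Category.ModuleCat.Presheaf.Sheafification

/-!
# Tensor products of trivialised invertible modules
-/

universe u

open CategoryTheory Limits AlgebraicGeometry Opposite TopologicalSpace MonoidalCategory
open scoped TensorProduct

noncomputable section

namespace Groth.Agent.Props.GenTensor

open Groth.Agent.QCoh Groth.Agent.Props.GenLocus

variable {X : Scheme.{u}} (M N : X.Modules)

/-- The presheaf tensor product, as a presheaf over the sheaf of rings. -/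
abbrev pre : X.PresheafOfModules := show X.PresheafOfModules from CohB1.tensorPre M N

/-- The sheafification map. -/
def η : (pre M N).presheaf ⟶ (CohB1.tensorMod M N).presheaf :=
  (PresheafOfModules.toPresheaf _).map
    ((PresheafOfModules.sheafificationAdjunction (𝟙 X.ringCatSheaf.obj)).unit.app (pre M N))

lemma η_eq : η M N = CategoryTheory.toSheafify _ (pre M N).presheaf :=
  PresheafOfModules.toPresheaf_map_sheafificationAdjunction_unit_app _ _

instance : Presheaf.IsLocallyInjective (Opens.grothendieckTopology X) (η M N) := by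
  rw [η_eq]; exact ((Opens.grothendieckTopology X).W_toSheafify _).isLocallyInjective

instance : Presheaf.IsLocallySurjective (Opens.grothendieckTopology X) (η M N) := by
  rw [η_eq]; exact ((Opens.grothendieckTopology X).W_toSheafify _).isLocallySurjective

variable {M N}

/-- Sections of `M` and `N` give a section of `M ⊗ N`. -/
def tmul {V : X.Opens} (m : Γ(M, V)) (n : Γ(N, V)) : Γ(CohB1.tensorMod M N, V) :=
  (η M N).app (op V) (show (pre M N).obj (op V) from (m ⊗ₜ[Γ(X, V)] n : Γ(M, V) ⊗[Γ(X, V)] Γ(N, V)))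

lemma η_smul {V : X.Opens} (a : Γ(X, V)) (t : Γ(M, V) ⊗[Γ(X, V)] Γ(N, V)) :
    (η M N).app (op V) (show (pre M N).obj (op V) from a • t) =
      a • (show Γ(CohB1.tensorMod M N, V) from (η M N).app (op V) (show (pre M N).obj (op V) from t)) :=
  map_smul (((PresheafOfModules.sheafificationAdjunction (𝟙 X.ringCatSheaf.obj)).unit.app
    (pre M N)).app (op V)).hom a (show (pre M N).obj (op V) from t)

lemma tmul_smul_left {V : X.Opens} (a : Γ(X, V)) (m : Γ(M, V)) (n : Γ(N, V)) :
    tmul (a • m) n = a • tmul m n := by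
  rw [tmul, tmul, ← η_smul, TensorProduct.smul_tmul']

lemma tmul_smul_right {V : X.Opens} (a : Γ(X, V)) (m : Γ(M, V)) (n : Γ(N, V)) :
    tmul m (a • n) = a • tmul m n := by
  rw [tmul, tmul, ← η_smul, TensorProduct.tmul_smul]

lemma res_tmul {U V : X.Opens} (h : V ≤ U) (m : Γ(M, U)) (n : Γ(N, U)) :
    res (CohB1.tensorMod M N) h (tmul m n) = tmul (res M h m) (res N h n) := by
  have h1 := NatTrans.naturality_apply (η M N) (homOfLE h).op
    (show (pre M N).obj (op U) from (m ⊗ₜ[Γ(X, U)] n : Γ(M, U) ⊗[Γ(X, U)] Γ(N, U)))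
  refine h1.symm.trans ?_
  rfl

lemma exists_smul_eq {U V : X.Opens} {e : Γ(M, U)} {e' : Γ(N, U)} (he : IsGen M U e)
    (he' : IsGen N U e') (h : V ≤ U) (t : Γ(M, V) ⊗[Γ(X, V)] Γ(N, V)) :
    ∃ a : Γ(X, V), t = a • (res M h e ⊗ₜ[Γ(X, V)] res N h e') := by
  induction t using TensorProduct.induction_on with
  | zero => exact ⟨0, (zero_smul _ _).symm⟩
  | tmul m n =>
    obtain ⟨a, ha, -⟩ := he.exists_eq h m
    obtain ⟨b, hb, -⟩ := he'.exists_eq h n
    exact ⟨a * b, by rw [ha, hb, TensorProduct.smul_tmul_smul]⟩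
  | add x y hx hy =>
    obtain ⟨a, rfl⟩ := hx
    obtain ⟨b, rfl⟩ := hy
    exact ⟨a + b, (add_smul _ _ _).symm⟩

lemma eq_zero_of_smul_eq_zero {U V : X.Opens} {e : Γ(M, U)} {e' : Γ(N, U)} (he : IsGen M U e)
    (he' : IsGen N U e') (h : V ≤ U) (a : Γ(X, V))
    (ha : a • (res M h e ⊗ₜ[Γ(X, V)] res N h e') = 0) : a = 0 := by
  let eM : Γ(X, V) ≃ₗ[Γ(X, V)] Γ(M, V) :=
    LinearEquiv.ofBijective (LinearMap.toSpanSingleton Γ(X, V) Γ(M, V) (res M h e)) (he V h)
  let eN : Γ(X, V) ≃ₗ[Γ(X, V)] Γ(N, V) :=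
    LinearEquiv.ofBijective (LinearMap.toSpanSingleton Γ(X, V) Γ(N, V) (res N h e')) (he' V h)
  have h1 : eM 1 = res M h e := one_smul _ _
  have h2 : eN 1 = res N h e' := one_smul _ _
  have h3 := congrArg (TensorProduct.congr eM.symm eN.symm) ha
  rw [map_zero, map_smul, TensorProduct.congr_tmul, ← h1, ← h2, eM.symm_apply_apply,
    eN.symm_apply_apply] at h3
  have h4 := congrArg (TensorProduct.lid Γ(X, V) Γ(X, V)) h3
  rwa [map_smul, TensorProduct.lid_tmul, map_zero, smul_eq_mul, smul_eq_mul, mul_one, mul_one] at h4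

/-- The tensor product of generators generates. -/
theorem isGen_tmul {U : X.Opens} {e : Γ(M, U)} {e' : Γ(N, U)} (he : IsGen M U e)
    (he' : IsGen N U e') : IsGen (CohB1.tensorMod M N) U (tmul e e') := by
  have hinj : ∀ (V : X.Opens) (h : V ≤ U) (a : Γ(X, V)),
      a • res (CohB1.tensorMod M N) h (tmul e e') = 0 → a = 0 := by
    intro V h a ha
    rw [res_tmul, tmul, ← η_smul] at ha
    have hmem := Presheaf.equalizerSieve_mem (Opens.grothendieckTopology X) (η M N)
      (show (pre M N).presheaf.obj (op V) from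
        (a • (res M h e ⊗ₜ[Γ(X, V)] res N h e') : Γ(M, V) ⊗[Γ(X, V)] Γ(N, V))) 0
      (ha.trans (map_zero _).symm)
    refine TopCat.Presheaf.section_ext X.sheaf V _ _ fun y hy => ?_
    obtain ⟨W, i, hW, hyW⟩ := hmem y hy
    have h0 : rres i.le a • (res M (i.le.trans h) e ⊗ₜ[Γ(X, W)] res N (i.le.trans h) e') =
        (0 : Γ(M, W) ⊗[Γ(X, W)] Γ(N, W)) := by
      refine Eq.trans ?_ (hW.trans (map_zero _))
      rw [← res_res M h i.le, ← res_res N h i.le]
      exact (PresheafOfModules.map_smul (pre M N) i.op a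
        (show (pre M N).obj (op V) from
          (res M h e ⊗ₜ[Γ(X, V)] res N h e' : Γ(M, V) ⊗[Γ(X, V)] Γ(N, V)))).symm
    have h1 := eq_zero_of_smul_eq_zero he he' (i.le.trans h) _ h0
    have h2 := congrArg (X.presheaf.germ W y hyW).hom h1
    exact (X.presheaf.germ_res_apply i y hyW a).symm.trans
      (h2.trans ((map_zero (X.presheaf.germ W y hyW).hom).trans (map_zero (X.presheaf.germ V y hy).hom).symm))
  intro V h
  refine ⟨fun a b hab => sub_eq_zero.mp (hinj V h _ ?_), fun y => ?_⟩
  · rw [sub_smul]; exact sub_eq_zero.mpr hab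
  · have hmem := Presheaf.imageSieve_mem (Opens.grothendieckTopology X) (η M N) (U := op V) y
    choose W i hW hxW using fun z : V => hmem z.1 z.2
    choose t ht using hW
    choose a ha using fun z : V => exists_smul_eq he he' ((i z).le.trans h) (t z)
    have hcov : V ≤ iSup W := fun x hx => Opens.mem_iSup.mpr ⟨⟨x, hx⟩, hxW _⟩
    have hres : ∀ z : V, a z • res (CohB1.tensorMod M N) ((i z).le.trans h) (tmul e e') =
        res (CohB1.tensorMod M N) (i z).le y := by
      intro z
      rw [res_tmul, tmul, ← η_smul, ← ha z]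
      exact ht z
    have hcomp : TopCat.Presheaf.IsCompatible X.sheaf.1 W a := by
      intro p q
      refine sub_eq_zero.mp (hinj (W p ⊓ W q) (inf_le_left.trans ((i p).le.trans h)) _ ?_)
      have e1 := congrArg (res (CohB1.tensorMod M N) (inf_le_left : W p ⊓ W q ≤ W p)) (hres p)
      have e2 := congrArg (res (CohB1.tensorMod M N) (inf_le_right : W p ⊓ W q ≤ W q)) (hres q)
      rw [res_smul, res_res, res_res] at e1
      rw [res_smul, res_res, res_res] at e2
      exact (sub_smul _ _ _).trans (sub_eq_zero.mpr (e1.trans e2.symm))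
    obtain ⟨b, hb, -⟩ := TopCat.Sheaf.existsUnique_gluing' X.sheaf W V i hcov a hcomp
    refine ⟨b, eq_of_locally_eq (CohB1.tensorMod M N) (fun z => (i z).le) hcov _ _ fun z => ?_⟩
    rw [sm, res_smul, res_res]
    refine Eq.trans ?_ (hres z)
    exact congrArg (· • _) (hb z)

/-! ### Powers -/

variable (L : X.Modules)

/-- The power of a section. -/
def pw {U : X.Opens} (e : Γ(L, U)) : (k : ℕ) → Γ(CohB1.tensorPow L k, U)
  | 0 => (1 : Γ(X, U))
  | k + 1 => tmul (pw e k) e

variable {L}

lemma res_pw {U V : X.Opens} (h : V ≤ U) (e : Γ(L, U)) (k : ℕ) :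
    res (CohB1.tensorPow L k) h (pw L e k) = pw L (res L h e) k := by
  induction k with
  | zero => exact (X.presheaf.map (homOfLE h).op).hom.map_one
  | succ k ih => exact (res_tmul h _ _).trans (congrArg (tmul · _) ih)

lemma pw_smul {U : X.Opens} (a : Γ(X, U)) (e : Γ(L, U)) (k : ℕ) :
    pw L (a • e) k = a ^ k • pw L e k := by
  induction k with
  | zero => rw [pow_zero, one_smul]; rfl
  | succ k ih =>
    change tmul (pw L (a • e) k) (a • e) = a ^ (k + 1) • tmul (pw L e k) e
    rw [ih, tmul_smul_left, tmul_smul_right, smul_smul, pow_succ]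

theorem isGen_one (U : X.Opens) : IsGen (Coh.structureModule X) U (one' U) := fun V h => by
  have : sm (one' U : Γ(Coh.structureModule X, U)) h = id := funext fun a =>
    (congrArg (fun z : Γ(X, V) => a * z) (X.presheaf.map (homOfLE h).op).hom.map_one).trans (mul_one a)
  rw [this]
  exact Function.bijective_id

theorem isGen_pw {U : X.Opens} {e : Γ(L, U)} (he : IsGen L U e) :
    ∀ k, IsGen (CohB1.tensorPow L k) U (pw L e k)
  | 0 => isGen_one U
  | k + 1 => isGen_tmul (isGen_pw he k) he

end Groth.Agent.Props.GenTensor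

end
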