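import Groth.Agent.Props.MayerVietoris
import Groth.Agent.Props.SubIdeal
import Groth.Agent.Props.GenLocus
import Groth.Agent.AmpleLib.Ideal
import Groth.Agent.IdealSh.IdealMod
import Groth.Agent.CohLin.Basic
import Groth.Agent.QCoh.Exact
import Mathlib.AlgebraicGeometry.Morphisms.Affine

/-!
# Serre's affineness criterion
-/

set_option autoImplicit false

universe u

open CategoryTheory Limits AlgebraicGeometry Opposite TopologicalSpace

noncomputable section

namespace Groth.Agent.Props.AffineCrit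

open Groth.Agent.QCoh Groth.Agent.Props.GenLocus OmegaSh Groth.Agent.Omega.Stalks
  Groth.Agent.IdealSh.IdealMod

variable {X : Scheme.{u}}

lemma exists_sect_one (I : X.IdealSheafData) {W : X.Opens}
    (hW : Disjoint (W : Set X) (I.support : Set X)) :
    ∃ s : Γ(ClSub.idealMod I, W), idealSect I W s = 1 := by
  refine exists_sect I W 1 ?_
  have he : I.subschemeι ⁻¹ᵁ W = ⊥ := eq_bot_iff.mpr fun z hz =>
    absurd (I.range_subschemeι.le ⟨z, rfl⟩) (Set.disjoint_left.mp hW hz)
  have : Subsingleton Γ(I.subscheme, I.subschemeι ⁻¹ᵁ W) :=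
    CommRingCat.subsingleton_of_isTerminal (he ▸ I.subscheme.sheaf.isTerminalOfEmpty)
  exact Subsingleton.elim _ _

lemma notMem_basicOpen_sect (I : X.IdealSheafData) {W : X.Opens} (s : Γ(ClSub.idealMod I, W)) {y : X}
    (hy : y ∈ (I.support : Set X)) : y ∉ X.basicOpen (idealSect I W s) := by
  intro hb
  obtain ⟨z, rfl⟩ := I.range_subschemeι.ge hy
  have hz : z ∈ I.subschemeι ⁻¹ᵁ X.basicOpen (idealSect I W s) := hb
  rw [Scheme.preimage_basicOpen, app_sect, Scheme.basicOpen_zero] at hz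
  exact hz

/-- A function which is invertible on `U ∩ V(I)` and vanishes on `V ∩ V(I)`. -/
theorem exists_function (I : X.IdealSheafData) [Subsingleton (Coh.HH X (ClSub.idealMod I) 1)]
    {U V : X.Opens} (hUV : U ⊔ V = ⊤) (hd : Disjoint ((U ⊓ V : X.Opens) : Set X) (I.support : Set X)) :
    ∃ t : Γ(X, ⊤), (U : Set X) ∩ I.support ⊆ X.basicOpen t ∧
      Disjoint ((V : Set X) ∩ I.support) (X.basicOpen t) := by
  obtain ⟨s, hs⟩ := exists_sect_one I hd
  obtain ⟨a, b, hab⟩ := MayerVietoris.exists_sub_eq (X := X.toPresheafedSpace.carrier)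
    (Coh.toAb (ClSub.idealMod I)) hUV s
  have hab' : res (ClSub.idealMod I) (inf_le_left : U ⊓ V ≤ U) a -
      res (ClSub.idealMod I) (inf_le_right : U ⊓ V ≤ V) b = s := hab
  let a' : Γ(X, U) := idealSect I U a - 1
  let b' : Γ(X, V) := idealSect I V b
  have hc : rres (inf_le_left : U ⊓ V ≤ U) a' = rres (inf_le_right : U ⊓ V ≤ V) b' := by
    have h1 := congrArg (idealSect I (U ⊓ V)) hab'
    rw [map_sub, hs] at h1
    have e1 : idealSect I (U ⊓ V) (res (ClSub.idealMod I) (inf_le_left : U ⊓ V ≤ U) a) =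
        rres (inf_le_left : U ⊓ V ≤ U) (idealSect I U a) := idealSect_map I (homOfLE inf_le_left) a
    have e2 : idealSect I (U ⊓ V) (res (ClSub.idealMod I) (inf_le_right : U ⊓ V ≤ V) b) =
        rres (inf_le_right : U ⊓ V ≤ V) (idealSect I V b) := idealSect_map I (homOfLE inf_le_right) b
    rw [e1, e2, sub_eq_iff_eq_add] at h1
    simp only [a', b', map_sub, map_one]
    rw [h1]
    ring
  let sf : ∀ i : ULift.{u} Bool, Γ(X, cond i.down U V) := fun i =>
    match i with
    | ⟨true⟩ => a'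
    | ⟨false⟩ => b'
  have hcov : (⊤ : X.Opens) ≤ ⨆ i : ULift.{u} Bool, cond i.down U V := hUV ▸ sup_le
    (le_iSup (fun i : ULift.{u} Bool => cond i.down U V) ⟨true⟩)
    (le_iSup (fun i : ULift.{u} Bool => cond i.down U V) ⟨false⟩)
  obtain ⟨t, ht, -⟩ := X.sheaf.existsUnique_gluing' (fun i : ULift.{u} Bool => cond i.down U V) ⊤
    (fun i => homOfLE le_top) hcov sf (by
      rintro ⟨i⟩ ⟨j⟩
      cases i <;> cases j
      · rfl
      · have h2 := congrArg (rres (le_inf inf_le_right inf_le_left : V ⊓ U ≤ U ⊓ V)) hc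
        rw [rres_rres, rres_rres] at h2
        exact h2.symm
      · exact hc
      · rfl)
  refine ⟨t, ?_, ?_⟩
  · rintro y ⟨hyU, hy⟩
    have h1 : y ∈ X.basicOpen (rres (le_top : U ≤ ⊤) t) := by
      rw [show rres (le_top : U ≤ ⊤) t = a' from ht ⟨true⟩, X.mem_basicOpen _ y hyU]
      have h2 := notMem_basicOpen_sect I a hy
      rw [X.mem_basicOpen _ y hyU] at h2
      simp only [a', map_sub, map_one]
      rcases IsLocalRing.isUnit_or_isUnit_of_add_one (a := X.presheaf.germ U y hyU (idealSect I U a))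
        (b := 1 - X.presheaf.germ U y hyU (idealSect I U a)) (by ring) with h | h
      · exact absurd h h2
      · simpa using h.neg
    rw [Scheme.basicOpen_res] at h1
    exact h1.2
  · rw [Set.disjoint_left]
    rintro y ⟨hyV, hy⟩ hyt
    have h1 : y ∈ X.basicOpen (rres (le_top : V ≤ ⊤) t) := by
      rw [Scheme.basicOpen_res]
      exact ⟨hyV, hyt⟩
    rw [show rres (le_top : V ≤ ⊤) t = b' from ht ⟨false⟩] at h1
    exact notMem_basicOpen_sect I b hy h1

/-- A closed point has an affine basic open neighbourhood, given vanishing for one well-chosen ideal. -/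
theorem exists_basicOpen_of_ideal {x : X} {U V : X.Opens} (hU : IsAffineOpen U) (hx : x ∈ U)
    (hxV : x ∉ V) (hUV : U ⊔ V = ⊤) (I : X.IdealSheafData)
    (hI : (I.support : Set X) = ((U ⊓ V : X.Opens) : Set X)ᶜ)
    [Subsingleton (Coh.HH X (ClSub.idealMod I) 1)] :
    ∃ t : Γ(X, ⊤), IsAffineOpen (X.basicOpen t) ∧ x ∈ X.basicOpen t := by
  obtain ⟨t, h1, h2⟩ := exists_function I hUV (hI ▸ disjoint_compl_right)
  have hle : X.basicOpen t ≤ U := by
    intro y hy
    by_contra hyU
    refine Set.disjoint_left.mp h2 ⟨?_, hI ▸ fun h => hyU h.1⟩ hy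
    exact ((hUV.ge (trivial : y ∈ (⊤ : X.Opens)) : y ∈ U ⊔ V)).resolve_left hyU
  refine ⟨t, ?_, h1 ⟨hx, hI ▸ fun h => hxV h.2⟩⟩
  have := hU.basicOpen (rres (le_top : U ≤ ⊤) t)
  rwa [Scheme.basicOpen_res, inf_eq_right.mpr hle] at this

/-- Opens containing all closed points cover a quasi-compact scheme. -/
theorem eq_top_of_closed_points [CompactSpace X] {O : X.Opens}
    (h : ∀ x : X, IsClosed ({x} : Set X) → x ∈ O) : O = ⊤ := by
  refine top_le_iff.mp fun y _ => ?_
  obtain ⟨x, hx, hxc⟩ := IsClosed.exists_closed_singleton (isClosed_closure (s := ({y} : Set X)))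
    ⟨y, subset_closure rfl⟩
  exact (specializes_iff_mem_closure.mpr hx).mem_open O.2 (h x hxc)

/-! ### The unit ideal -/

variable (X) in
/-- `O^(r+1)`. -/
def pr : ℕ → X.Modules
  | 0 => Coh.structureModule X
  | r + 1 => pr r ⊞ Coh.structureModule X

instance isQuasicoherent_pr : ∀ r, (pr X r).IsQuasicoherent
  | 0 => ProjTwist.isQuasicoherent_structureModule X
  | r + 1 => by
    have := isQuasicoherent_pr r
    have := ProjTwist.isQuasicoherent_structureModule X
    let S := ShortComplex.mk (biprod.inl : pr X r ⟶ pr X r ⊞ Coh.structureModule X) biprod.snd biprod.inl_snd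
    have hS : S.ShortExact := (ShortComplex.Splitting.ofHasBinaryBiproduct _ _).shortExact
    have : S.X₁.IsQuasicoherent := inferInstanceAs (pr X r).IsQuasicoherent
    have : S.X₃.IsQuasicoherent := inferInstanceAs (Coh.structureModule X).IsQuasicoherent
    exact QCoh.isQuasicoherent_X₂ S hS

variable (f : ℕ → Γ(X, ⊤))

/-- Multiplication by a function. -/
def mulHom (a : Γ(X, ⊤)) : Coh.structureModule X ⟶ Coh.structureModule X :=
  homOfSec (L := Coh.structureModule X) a

lemma mulHom_app (a : Γ(X, ⊤)) (V : X.Opens) (y : Γ(X, V)) :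
    ((mulHom a).app V y : Γ(X, V)) = y * rres (le_top : V ≤ ⊤) a := by
  refine (app_eq (mulHom a) V y).trans ?_
  rw [mulHom, sec_homOfSec]
  rfl

/-- `(y_j) ↦ Σ y_j f_j`. -/
def phi : ∀ r, pr X r ⟶ Coh.structureModule X
  | 0 => mulHom (f 0)
  | r + 1 => biprod.desc (phi r) (mulHom (f (r + 1)))

lemma comp_eq_zero : ∀ (r : ℕ) {Z : X.Modules} (g : Coh.structureModule X ⟶ Z),
    phi f r ≫ g = 0 → ∀ j ≤ r, mulHom (f j) ≫ g = 0
  | 0, _, g, h, j, hj => by rw [Nat.le_zero.mp hj]; exact h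
  | r + 1, _, g, h, j, hj => by
    change biprod.desc (phi f r) (mulHom (f (r + 1))) ≫ g = 0 at h
    have h1 := congrArg (biprod.inl ≫ ·) h
    have h2 := congrArg (biprod.inr ≫ ·) h
    simp only [biprod.inl_desc_assoc, biprod.inr_desc_assoc, comp_zero] at h1 h2
    rcases Nat.le_succ_iff.mp hj with hj | rfl
    · exact comp_eq_zero r g h1 j hj
    · exact h2

theorem epi_phi {r : ℕ} (hcov : ∀ x : X, ∃ j ≤ r, x ∈ X.basicOpen (f j)) : Epi (phi f r) := by
  refine Preadditive.epi_of_cancel_zero _ fun {Z} g hg => ?_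
  refine Scheme.Modules.hom_ext g 0 fun V => ?_
  ext m
  choose j hj hxj using hcov
  refine eq_of_locally_eq Z (U := fun x : X => V ⊓ X.basicOpen (f (j x))) (fun x => inf_le_left)
    (fun x hx => Opens.mem_iSup.mpr ⟨x, hx, hxj x⟩) _ _ fun x => ?_
  set W := V ⊓ X.basicOpen (f (j x)) with hW
  have hu : IsUnit (rres (le_top : W ≤ ⊤) (f (j x))) := by
    have h0 : IsUnit (rres (le_top : X.basicOpen (f (j x)) ≤ ⊤) (f (j x))) :=
      RingedSpace.isUnit_res_basicOpen X.toRingedSpace (f (j x))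
    have h1 := h0.map (rres (inf_le_right : W ≤ X.basicOpen (f (j x)))).hom
    rwa [rres_rres] at h1
  obtain ⟨v, hv⟩ := isUnit_iff_exists_inv'.mp hu
  let m' : Γ(X, W) := rres (inf_le_left : W ≤ V) m
  have hm : (mulHom (f (j x))).app W (m' * v) = m' := by
    rw [mulHom_app, mul_assoc, hv, mul_one]
  have h2 : g.app W ((mulHom (f (j x))).app W (m' * v)) = 0 := by
    change (mulHom (f (j x)) ≫ g).app W (m' * v) = 0
    rw [comp_eq_zero f r g hg (j x) (hj x)]
    rfl
  rw [hm] at h2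
  simp only [Scheme.Modules.Hom.zero_app, AddCommGrpCat.hom_zero, AddMonoidHom.zero_apply, map_zero]
  rw [← app_res]
  exact h2

def ev (r : ℕ) (y : Γ(pr X r, ⊤)) : Γ(X, ⊤) := (phi f r).app ⊤ y

lemma mulHom_top (a : Γ(X, ⊤)) (y : Γ(X, ⊤)) : ((mulHom a).app ⊤ y : Γ(X, ⊤)) = y * a := by
  rw [mulHom_app]
  exact congrArg (y * ·) (ConcreteCategory.congr_hom (X.presheaf.map_id _) a)

/-- The last coordinate. -/
def lastCo (r : ℕ) (y : Γ(pr X (r + 1), ⊤)) : Γ(X, ⊤) :=
  (biprod.snd : pr X (r + 1) ⟶ Coh.structureModule X).app ⊤ y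

lemma ev_succ (r : ℕ) (y : Γ(pr X (r + 1), ⊤)) :
    ev f (r + 1) y = ev f r ((biprod.fst : pr X (r + 1) ⟶ pr X r).app ⊤ y) + lastCo r y * f (r + 1) := by
  have hdesc : phi f (r + 1) = (biprod.fst : pr X (r + 1) ⟶ pr X r) ≫ phi f r +
      (biprod.snd : pr X (r + 1) ⟶ Coh.structureModule X) ≫ mulHom (f (r + 1)) := biprod.desc_eq
  rw [← mulHom_top (f (r + 1))]
  exact congrArg (fun φ : pr X (r + 1) ⟶ Coh.structureModule X => φ.app ⊤ y) hdesc

theorem mem_span : ∀ (r : ℕ) (y : Γ(pr X r, ⊤)), ev f r y ∈ Ideal.span (f '' {j | j ≤ r})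
  | 0, y => by
    rw [show ev f 0 y = _ from mulHom_top (f 0) y]
    exact Ideal.mul_mem_left _ _ (Ideal.subset_span ⟨0, by simp, rfl⟩)
  | r + 1, y => by
    rw [ev_succ]
    refine add_mem (Ideal.span_mono (Set.image_mono fun j hj => Nat.le_succ_of_le hj) (mem_span r _)) ?_
    exact Ideal.mul_mem_left _ _ (Ideal.subset_span ⟨r + 1, by simp, rfl⟩)

/-- `H¹` of quasi-coherent submodules of `O^(r+1)`. -/
theorem subsingleton_H_one (h : ∀ (I : X.Modules) (i : I ⟶ Coh.structureModule X), Mono i →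
    Coh.IsQCoh I → Subsingleton (Coh.HH X I 1)) :
    ∀ (r : ℕ) (K : X.Modules) (i : K ⟶ pr X r), Mono i → Coh.IsQCoh K → Subsingleton (Coh.HH X K 1)
  | 0, K, i, hi, hK => h K i hi hK
  | r + 1, K, i, hi, hK => by
    let g : K ⟶ Coh.structureModule X := i ≫ biprod.snd
    have : K.IsQuasicoherent := hK
    have := ProjTwist.isQuasicoherent_structureModule X
    let S := ShortComplex.mk (kernel.ι g) (cokernel.π (kernel.ι g)) (cokernel.condition _)
    have hS : S.ShortExact := { exact := ShortComplex.exact_cokernel _ }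
    have : Subsingleton (Coh.HH X S.X₁ 1) := by
      refine subsingleton_H_one h r (kernel g) (kernel.ι g ≫ i ≫ biprod.fst) ?_
        (inferInstanceAs (kernel g).IsQuasicoherent)
      refine Preadditive.mono_of_cancel_zero _ fun {Z} k hk => ?_
      have h1 : k ≫ kernel.ι g ≫ i = 0 := by
        refine biprod.hom_ext _ _ ?_ ?_
        · exact ((Category.assoc _ _ _).trans (congrArg (k ≫ ·) (Category.assoc _ _ _))).trans
            (hk.trans zero_comp.symm)
        · exact ((Category.assoc _ _ _).trans (congrArg (k ≫ ·) (Category.assoc _ _ _))).trans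
            (((congrArg (k ≫ ·) (kernel.condition g)).trans comp_zero).trans zero_comp.symm)
      exact zero_of_comp_mono (kernel.ι g ≫ i) h1
    have : Subsingleton (Coh.HH X S.X₃ 1) :=
      h (Abelian.coimage g) (Abelian.factorThruCoimage g) inferInstance
        (inferInstanceAs (cokernel (kernel.ι g)).IsQuasicoherent)
    exact CohLin.subsingleton_X₂ hS

/-- The functions generate the unit ideal when their loci cover. -/
theorem span_eq_top (h : ∀ (I : X.Modules) (i : I ⟶ Coh.structureModule X), Mono i →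
    Coh.IsQCoh I → Subsingleton (Coh.HH X I 1)) {r : ℕ}
    (hcov : ∀ x : X, ∃ j ≤ r, x ∈ X.basicOpen (f j)) :
    Ideal.span (f '' {j | j ≤ r}) = ⊤ := by
  have := epi_phi f hcov
  have := ProjTwist.isQuasicoherent_structureModule X
  let S := ShortComplex.mk (kernel.ι (phi f r)) (phi f r) (kernel.condition _)
  have hS : S.ShortExact := { exact := ShortComplex.exact_kernel _ }
  have : Subsingleton (Coh.HH X S.X₁ 1) :=
    subsingleton_H_one h r _ (kernel.ι (phi f r)) inferInstance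
      (inferInstanceAs (kernel (phi f r)).IsQuasicoherent)
  obtain ⟨y, hy⟩ := CohLin.exists_hMap_g_eq hS
    ((Sheaf.H.equiv₀ (Coh.toAb S.X₃) isTerminalTop).symm (1 : Γ(X, ⊤))) (Subsingleton.elim _ _)
  rw [Ideal.eq_top_iff_one]
  have h2 := Sheaf.H.equiv₀_naturality (hT := isTerminalTop) (f := CohLin.abMap S.g) y
  rw [show Sheaf.H.map (CohLin.abMap S.g) 0 y = _ from hy] at h2
  rw [(Sheaf.H.equiv₀ (Coh.toAb S.X₃) isTerminalTop).apply_symm_apply] at h2
  exact Eq.mp (congrArg (· ∈ Ideal.span (f '' {j | j ≤ r})) h2)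
    (mem_span f r (Sheaf.H.equiv₀ (Coh.toAb S.X₂) isTerminalTop y))

/-- Affineness from affine basic opens around the closed points. -/
theorem isAffine_of_closed_points [CompactSpace X]
    (h : ∀ (I : X.Modules) (i : I ⟶ Coh.structureModule X), Mono i →
      Coh.IsQCoh I → Subsingleton (Coh.HH X I 1))
    (hx : ∀ x : X, IsClosed ({x} : Set X) →
      ∃ t : Γ(X, ⊤), IsAffineOpen (X.basicOpen t) ∧ x ∈ X.basicOpen t) : IsAffine X := by
  classical
  let P := {t : Γ(X, ⊤) // IsAffineOpen (X.basicOpen t)}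
  have hcov : (⨆ t : P, X.basicOpen t.1) = ⊤ := eq_top_of_closed_points fun x hxc =>
    let ⟨t, ht, hxt⟩ := hx x hxc
    Opens.mem_iSup.mpr ⟨⟨t, ht⟩, hxt⟩
  obtain ⟨F, hF⟩ := isCompact_univ.elim_finite_subcover (fun t : P => (X.basicOpen t.1 : Set X))
    (fun t => (X.basicOpen t.1).2) fun x _ => by
      obtain ⟨t, ht⟩ := Opens.mem_iSup.mp (hcov.ge (trivial : x ∈ (⊤ : X.Opens)))
      exact Set.mem_iUnion.mpr ⟨t, ht⟩
  let f : ℕ → Γ(X, ⊤) := fun j => if hj : j < F.card then (F.equivFin.symm ⟨j, hj⟩).1.1 else 0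
  have hcov' : ∀ x : X, ∃ j ≤ F.card, x ∈ X.basicOpen (f j) := fun x => by
    obtain ⟨t, ht, hxt⟩ := Set.mem_iUnion₂.mp (hF (Set.mem_univ x))
    refine ⟨F.equivFin ⟨t, ht⟩, (F.equivFin ⟨t, ht⟩).2.le, ?_⟩
    simp only [f, (F.equivFin ⟨t, ht⟩).2, dif_pos, Fin.eta, Equiv.symm_apply_apply]
    exact hxt
  refine isAffine_of_isAffineOpen_basicOpen _ (span_eq_top f h hcov') ?_
  rintro _ ⟨j, -, rfl⟩
  simp only [f]
  split_ifs with hj
  · exact (F.equivFin.symm ⟨j, hj⟩).1.2
  · rw [Scheme.basicOpen_zero]; exact isAffineOpen_bot X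

/-- Serre's criterion. -/
theorem serre [CompactSpace X]
    (h : ∀ (I : X.Modules) (i : I ⟶ Coh.structureModule X), Mono i →
      Coh.IsQCoh I → Subsingleton (Coh.HH X I 1)) : IsAffine X := by
  refine isAffine_of_closed_points h fun x hxc => ?_
  obtain ⟨U, hU, hx, -⟩ := exists_isAffineOpen_mem_and_subset (U := (⊤ : X.Opens)) (x := x) trivial
  let V : X.Opens := ⟨{x}ᶜ, hxc.isOpen_compl⟩
  let I := Scheme.IdealSheafData.vanishingIdeal (X := X)
    ⟨((U ⊓ V : X.Opens) : Set X)ᶜ, (U ⊓ V).2.isClosed_compl⟩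
  have : Subsingleton (Coh.HH X (ClSub.idealMod I) 1) :=
    h _ (ClSub.idealModι I) (inferInstanceAs (Mono (kernel.ι _))) (AmpleLib.isQCoh_idealMod I)
  refine exists_basicOpen_of_ideal (U := U) (V := V) hU hx (fun h => h rfl) ?_ I
    (Scheme.IdealSheafData.coe_support_vanishingIdeal _)
  refine top_le_iff.mp fun y _ => ?_
  by_cases hy : y = x
  · exact Or.inl (hy ▸ hx)
  · exact Or.inr hy

end Groth.Agent.Props.AffineCrit

end
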