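import Groth.Agent.Props.SubMod
import Groth.Agent.QCoh.Exact
import Groth.Agent.QCoh.FiniteType

/-!
# The submodule sheaf attached to a family of submodules of the stalks
-/

universe u

open CategoryTheory Limits AlgebraicGeometry Opposite TopologicalSpace

noncomputable section

namespace Groth.Agent.Props.SubSheaf

open Groth.Agent.QCoh Groth.Agent.Props.QStalk Groth.Agent.PullStalk.Sky Groth.Agent.Props.SubMod

variable {X : Scheme.{u}} {M : X.Modules} (S : StalkSub M)

/-- The quotient stalks. -/
abbrev quotStalk (x : X) : Type u := (M.presheaf.stalk x) ⧸ S x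

/-- To the skyscrapers of the quotient stalks. -/
def toQuot : M ⟶ ∏ᶜ fun x : X => sky x (quotStalk S x) :=
  Pi.lift fun x => toSky (S x).mkQ

/-- The subsheaf of sections with germs in `S`. -/
def sub : X.Modules := kernel (toQuot S)

/-- The inclusion. -/
def incl : sub S ⟶ M := kernel.ι (toQuot S)

instance : Mono (incl S) := inferInstanceAs (Mono (kernel.ι (toQuot S)))

lemma incl_injective (V : X.Opens) : Function.Injective ((incl S).app V) :=
  app_injective_of_mono (incl S) V

lemma mem_range_incl {V : X.Opens} (m : Γ(M, V)) :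
    m ∈ Set.range ((incl S).app V) ↔ ∀ (y : X) (hy : y ∈ V), germM M V y hy m ∈ S y := by
  constructor
  · rintro ⟨a, rfl⟩ y hy
    have h0 : (toSky (S y).mkQ).app V ((incl S).app V a) = 0 := by
      rw [← ConcreteCategory.comp_apply, ← Scheme.Modules.Hom.comp_app,
        ← Pi.lift_π (fun x : X => toSky (S x).mkQ) y, ← Category.assoc]
      change ((kernel.ι (toQuot S) ≫ toQuot S) ≫ _).app V a = 0
      rw [kernel.condition, zero_comp]
      rfl
    have h1 := toSky_app (S y).mkQ V ((incl S).app V a) ⟨hy⟩
    rw [h0] at h1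
    exact (Submodule.Quotient.mk_eq_zero _).mp h1.symm
  · intro h
    let K := ShortComplex.mk (kernel.ι (toQuot S)) (toQuot S) (kernel.condition _)
    have hK : K.Exact := K.exact_of_f_is_kernel (kernelIsKernel _)
    have : Mono K.f := inferInstanceAs (Mono (kernel.ι (toQuot S)))
    obtain ⟨a, ha⟩ := exists_app_eq_of_app_eq_zero K hK V m (by
      refine Concrete.isLimit_ext _ (isLimitOfPreserves (sectionsFunctor X V)
        (limit.isLimit (Discrete.functor fun x : X => sky x (quotStalk S x)))) _ _ ?_
      rintro ⟨y⟩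
      refine Eq.trans ?_ (map_zero ((sectionsFunctor X V).map (Pi.π (fun x : X => sky x (quotStalk S x)) y)).hom).symm
      change (toQuot S ≫ Pi.π (fun x : X => sky x (quotStalk S x)) y).app V m = 0
      rw [toQuot, Pi.lift_π]
      funext hy
      exact (toSky_app _ V m hy).trans ((Submodule.Quotient.mk_eq_zero _).mpr (h y hy.down)))
    exact ⟨a, ha⟩

/-- `incl` on sections, as a linear map. -/
def inclLin (V : X.Opens) : Γ(sub S, V) →ₗ[Γ(X, V)] Γ(M, V) where
  toFun := (incl S).app V
  map_add' := map_add _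
  map_smul' r a := Scheme.Modules.Hom.app_smul (incl S) r a

variable {S} [M.IsQuasicoherent]

lemma range_inclLin {V : X.Opens} (hV : IsAffineOpen V) {T : Set Γ(M, V)} (hT : GenBy S V T) :
    LinearMap.range (inclLin S V) = Submodule.span Γ(X, V) T := by
  refine le_antisymm ?_ (Submodule.span_le.mpr fun t ht => ?_)
  · rintro _ ⟨a, rfl⟩
    exact mem_span_of_germ hV fun y hy => hT y hy ▸ (mem_range_incl S _).mp ⟨a, rfl⟩ y hy
  · exact (mem_range_incl S t).mpr fun y hy => by
      rw [hT y hy]; exact Submodule.subset_span ⟨t, ht, rfl⟩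

/-- The subsheaf is quasi-coherent. -/
theorem isQuasicoherent_sub (hS : FTOn S ⊤) : (sub S).IsQuasicoherent := by
  rw [isQuasicoherent_iff_forall_isAffineOpen]
  intro V hV f
  obtain ⟨T, hT⟩ := exists_genBy hS hV le_top
  refine ⟨fun σ => ?_, fun t ht => ?_⟩
  · obtain ⟨n, t, ht⟩ := (isLocalizingAt M hV f).surj ((incl S).app _ σ)
    obtain ⟨k, hk⟩ := exists_pow_smul_mem_span (s := (T : Set Γ(M, V))) hV f fun y hy => by
      rw [← hT y (X.basicOpen_le f hy)]
      have e1 : germM M (X.basicOpen f) y hy (res M (X.basicOpen_le f) t) =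
          germM M V y (X.basicOpen_le f hy) t :=
        M.presheaf.germ_res_apply _ y hy t
      rw [← e1, ht, germM_smul]
      exact Submodule.smul_mem _ _ ((mem_range_incl S _).mp ⟨σ, rfl⟩ y hy)
    rw [← range_inclLin hV hT] at hk
    obtain ⟨t', ht'⟩ := hk
    change (incl S).app V t' = f ^ k • t at ht'
    refine ⟨k + n, t', incl_injective S _ ?_⟩
    rw [app_res, ht', res_smul, ht, map_pow, smul_smul, ← pow_add, Scheme.Modules.Hom.app_smul]
  · obtain ⟨n, hn⟩ := (isLocalizingAt M hV f).eq_zero ((incl S).app V t) (by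
      rw [← app_res, ht, map_zero])
    refine ⟨n, incl_injective S _ ?_⟩
    rw [Scheme.Modules.Hom.app_smul, hn, map_zero]

/-- The subsheaf is of finite type. -/
theorem isFiniteType_sub (hS : FTOn S ⊤) : SheafOfModules.IsFiniteType.{u} (sub S) := by
  have := isQuasicoherent_sub hS
  rw [QCoh.isFiniteType_iff]
  intro V hV
  obtain ⟨T, hT⟩ := exists_genBy hS hV le_top
  have : Module.Finite Γ(X, V) (LinearMap.range (inclLin S V)) :=
    Module.Finite.iff_fg.mpr ⟨T, (range_inclLin hV hT).symm⟩
  exact Module.Finite.equiv (LinearEquiv.ofInjective (inclLin S V) (incl_injective S V)).symm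

omit [M.IsQuasicoherent] in
/-- The inclusion is an isomorphism where the family is everything. -/
theorem isIso_restrict_incl {U : X.Opens} (h : ∀ x ∈ U, S x = ⊤) :
    IsIso ((Scheme.Modules.restrictFunctor U.ι).map (incl S)) := by
  refine Scheme.Modules.Hom.isIso_iff_isIso_app.mpr fun W => ?_
  refine (ConcreteCategory.isIso_iff_bijective _).mpr ⟨fun a b hab => incl_injective S _ hab, fun m => ?_⟩
  obtain ⟨a, ha⟩ := (mem_range_incl S (V := U.ι ''ᵁ W) m).mpr fun y hy => by
    obtain ⟨z, -, rfl⟩ := hy
    exact (h z.1 z.2).ge trivial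
  exact ⟨a, ha⟩

end Groth.Agent.Props.SubSheaf

end
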