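import Groth.Agent.Props.SubExt
import Groth.Agent.Props.QFP
import Groth.Agent.Props.QRank
import Groth.Agent.Props.QTilde

/-!
# Approximation by finitely presented modules
-/

universe u

open CategoryTheory Limits AlgebraicGeometry Opposite TopologicalSpace

noncomputable section

namespace Groth.Agent.Props.QApprox

open Groth.Agent.QCoh Groth.Agent.Props.QStalk Groth.Agent.PullStalk.Sky Groth.Agent.Props.SubMod
  Groth.Agent.Props.SubSheaf Groth.Agent.Props.SubExt

variable {X : Scheme.{u}}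

instance preservesFiniteLimits_restrictFunctor {Y : Scheme.{u}} (j : Y ⟶ X) [IsOpenImmersion j] :
    PreservesFiniteLimits (Scheme.Modules.restrictFunctor j) := by
  have : ReflectsFiniteLimits (Scheme.Modules.toPresheaf Y) := by
    constructor
    intro J _ _
    exact reflectsLimitsOfShape_of_reflectsIsomorphisms
  have hw : PreservesFiniteLimits ((Functor.whiskeringLeft _ _ Ab.{u}).obj j.opensFunctor.op) := by
    constructor
    intro J _ _
    infer_instance
  have h : PreservesFiniteLimits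
      (Scheme.Modules.restrictFunctor j ⋙ Scheme.Modules.toPresheaf Y) :=
    comp_preservesFiniteLimits (Scheme.Modules.toPresheaf X)
      ((Functor.whiskeringLeft _ _ Ab.{u}).obj j.opensFunctor.op)
  exact preservesFiniteLimits_of_reflects_of_preserves (Scheme.Modules.restrictFunctor j)
    (Scheme.Modules.toPresheaf Y)

section Local

variable {M N : X.Modules} (φ : M ⟶ N)

/-- Bijective on the sections over all opens inside `U`. -/
def IsoOn (U : X.Opens) : Prop := ∀ O : X.Opens, O ≤ U → Function.Bijective (φ.app O)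

variable [M.IsQuasicoherent] [N.IsQuasicoherent]

/-- Bijectivity over an affine open passes to its principal opens. -/
theorem bijective_basicOpen {W : X.Opens} (hW : IsAffineOpen W) (h : Γ(X, W))
    (hinj : ∀ x : Γ(M, W), φ.app W x = 0 → ∃ k : ℕ, h ^ k • x = 0)
    (hsurj : ∀ y : Γ(N, W), ∃ (k : ℕ) (x : Γ(M, W)), φ.app W x = h ^ k • y) :
    Function.Bijective (φ.app (X.basicOpen h)) := by
  have hu : ∀ k : ℕ, IsUnit (rres (X.basicOpen_le h) h ^ k) := fun k =>
    IsUnit.pow k (RingedSpace.isUnit_res_basicOpen _ h)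
  constructor
  · rw [injective_iff_map_eq_zero]
    intro z hz
    obtain ⟨n, t, ht⟩ := (isLocalizingAt M hW h).surj z
    have h0 : res N (X.basicOpen_le h) (φ.app W t) = 0 := by
      rw [← app_res, ht, Scheme.Modules.Hom.app_smul, hz, smul_zero]
    obtain ⟨m, hm⟩ := (isLocalizingAt N hW h).eq_zero _ h0
    rw [← Scheme.Modules.Hom.app_smul] at hm
    obtain ⟨k, hk⟩ := hinj _ hm
    have := congrArg (res M (X.basicOpen_le h)) hk
    rw [res_smul, res_smul, ht, map_zero, map_pow, map_pow, smul_smul, smul_smul] at this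
    exact (((hu k).mul (hu m)).mul (hu n)).smul_eq_zero.mp this
  · intro y
    obtain ⟨n, t, ht⟩ := (isLocalizingAt N hW h).surj y
    obtain ⟨k, x, hx⟩ := hsurj t
    obtain ⟨w, hw⟩ := (hu k).mul (hu n)
    refine ⟨(↑w⁻¹ : Γ(X, X.basicOpen h)) • res M (X.basicOpen_le h) x, ?_⟩
    rw [Scheme.Modules.Hom.app_smul, app_res, hx, res_smul, ht, map_pow, smul_smul,
      smul_smul, mul_assoc, ← hw, w.inv_mul, one_smul]

/-- Bijectivity over an affine open neighbourhood of each point. -/
theorem isoOn_of_local {U : X.Opens}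
    (H : ∀ x ∈ U, ∃ W : X.Opens, IsAffineOpen W ∧ x ∈ W ∧ Function.Bijective (φ.app W)) :
    IsoOn φ U := by
  have hbasic : ∀ (W : X.Opens), IsAffineOpen W → Function.Bijective (φ.app W) →
      ∀ g : Γ(X, W), Function.Bijective (φ.app (X.basicOpen g)) := fun W hW hb g =>
    bijective_basicOpen φ hW g
      (fun x hx => ⟨0, by rw [hb.1 (hx.trans (map_zero _).symm), smul_zero]⟩)
      (fun y => ⟨0, (hb.2 y).choose, by rw [pow_zero, one_smul]; exact (hb.2 y).choose_spec⟩)
  have hloc : ∀ O : X.Opens, O ≤ U → ∀ x : O,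
      ∃ V : X.Opens, x.1 ∈ V ∧ V ≤ O ∧ Function.Bijective (φ.app V) := by
    intro O hO x
    obtain ⟨W, hW, hxW, hb⟩ := H x.1 (hO x.2)
    obtain ⟨g, hgle, hxg⟩ := hW.exists_basicOpen_le ⟨x.1, x.2⟩ hxW
    exact ⟨_, hxg, hgle, hbasic W hW hb g⟩
  have hinj : ∀ O : X.Opens, O ≤ U → Function.Injective (φ.app O) := by
    intro O hO a b hab
    choose V hxV hVO hb using hloc O hO
    refine eq_of_locally_eq M hVO (fun x hx => Opens.mem_iSup.mpr ⟨⟨x, hx⟩, hxV _⟩) a b fun i => ?_
    exact (hb i).1 (by rw [app_res, app_res, hab])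
  intro O hO
  refine ⟨hinj O hO, fun y => ?_⟩
  choose V hxV hVO hb using hloc O hO
  choose z hz using fun i => (hb i).2 (res N (hVO i) y)
  obtain ⟨s, hs⟩ := exists_glue M hVO (fun x hx => Opens.mem_iSup.mpr ⟨⟨x, hx⟩, hxV _⟩) z
    fun i j => hinj _ (inf_le_left.trans ((hVO i).trans hO)) (by
      rw [app_res, app_res, hz, hz, res_res, res_res])
  refine ⟨s, eq_of_locally_eq N hVO (fun x hx => Opens.mem_iSup.mpr ⟨⟨x, hx⟩, hxV _⟩) _ _ fun i => ?_⟩
  rw [← app_res, hs i, hz]

end Local

/-- Surjectivity over affine opens gives an epimorphism. -/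
theorem epi_of_local {M N : X.Modules} (φ : M ⟶ N)
    (H : ∀ W : X.Opens, IsAffineOpen W → Function.Surjective (φ.app W)) : Epi φ := by
  refine ⟨fun {Z} a b hab => Scheme.Modules.hom_ext _ _ fun O => ?_⟩
  ext y
  have hloc : ∀ x : O, ∃ V : X.Opens, x.1 ∈ V ∧ V ≤ O ∧ IsAffineOpen V := by
    intro x
    obtain ⟨V, hV, hxV, hVO⟩ := exists_isAffineOpen_mem_and_subset x.2
    exact ⟨V, hxV, hVO, hV⟩
  choose V hxV hVO hV using hloc
  refine eq_of_locally_eq Z hVO (fun x hx => Opens.mem_iSup.mpr ⟨⟨x, hx⟩, hxV _⟩) _ _ fun i => ?_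
  obtain ⟨x, hx⟩ := H (V i) (hV i) (res N (hVO i) y)
  rw [← app_res, ← app_res, ← hx, ← ConcreteCategory.comp_apply, ← Scheme.Modules.Hom.comp_app, hab]
  rfl

/-- Finitely presented sections on the affine opens inside `U`. -/
def FPOn (M : X.Modules) (U : X.Opens) : Prop :=
  ∀ V : X.Opens, IsAffineOpen V → V ≤ U → Module.FinitePresentation Γ(X, V) Γ(M, V)

/-- `φ.app` as a linear map. -/
def appLin {M N : X.Modules} (φ : M ⟶ N) (V : X.Opens) : Γ(M, V) →ₗ[Γ(X, V)] Γ(N, V) where
  toFun := φ.app V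
  map_add' := map_add _
  map_smul' r a := Scheme.Modules.Hom.app_smul φ r a

theorem fpOn_of_isoOn {M N : X.Modules} {φ : M ⟶ N} {U : X.Opens} (h : IsoOn φ U)
    (hM : FPOn M U) : FPOn N U := fun V hV hVU =>
  have := hM V hV hVU
  Module.FinitePresentation.of_equiv (LinearEquiv.ofBijective (appLin φ V) (h V hVU))

theorem fpOn_of_isoOn' {M N : X.Modules} {φ : M ⟶ N} {U : X.Opens} (h : IsoOn φ U)
    (hN : FPOn N U) : FPOn M U := fun V hV hVU =>
  have := hN V hV hVU
  Module.FinitePresentation.of_equiv (LinearEquiv.ofBijective (appLin φ V) (h V hVU)).symm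

theorem fpOn_sup {M : X.Modules} [M.IsQuasicoherent] {U W : X.Opens} (hU : FPOn M U)
    (hW : FPOn M W) : FPOn M (U ⊔ W) := by
  intro V hV hVU
  refine QFP.finitePresentation_sections_of_local M hV fun x hx => ?_
  rcases hVU hx with hx' | hx'
  · obtain ⟨g, hgle, hxg⟩ := hV.exists_basicOpen_le ⟨x, hx'⟩ hx
    exact ⟨g, hxg, hU _ (hV.basicOpen g) hgle⟩
  · obtain ⟨g, hgle, hxg⟩ := hV.exists_basicOpen_le ⟨x, hx'⟩ hx
    exact ⟨g, hxg, hW _ (hV.basicOpen g) hgle⟩

theorem fpOn_of_affine {M : X.Modules} [M.IsQuasicoherent] {W : X.Opens} (hW : IsAffineOpen W)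
    (h : Module.FinitePresentation Γ(X, W) Γ(M, W)) : FPOn M W := by
  intro V hV hVW
  refine QFP.finitePresentation_sections_of_local M hV fun x hx => ?_
  obtain ⟨f, g, hfg, hxf⟩ := exists_basicOpen_le_affine_inter hV hW x ⟨hx, hVW hx⟩
  refine ⟨f, hxf, ?_⟩
  rw [hfg]
  have : Fact (IsAffineOpen W) := ⟨hW⟩
  have := hW.isLocalization_basicOpen g
  exact FinitePresentation.of_isBaseChange (resLin M g)
    ((isLocalizedModule_iff_isBaseChange (Submonoid.powers g) _ _).mp inferInstance)

theorem ftOn_of_fpOn {M : X.Modules} [M.IsQuasicoherent] {U : X.Opens} (h : FPOn M U) :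
    FTOn (fun _ => ⊤ : StalkSub M) U := by
  intro x hx
  obtain ⟨V, hV, hxV, hVU⟩ := exists_isAffineOpen_mem_and_subset hx
  have := h V hV hVU
  obtain ⟨n, s, hs⟩ := Module.Finite.exists_fin (R := Γ(X, V)) (M := Γ(M, V))
  classical
  refine ⟨V, hV, hxV, hVU, Finset.univ.image s, fun y hy => ?_⟩
  rw [Finset.coe_image, Finset.coe_univ, Set.image_univ, spanGerm, ← Set.range_comp]
  exact (QRank.span_germ_eq_top M hV hs hy).symm

section Algebra

variable {A B : Type*} [CommRing A] [CommRing B] [Algebra A B] {ι : Type*} [Finite ι]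

/-- Clearing denominators in `ι → B`. -/
theorem exists_pow_smul_eq_comp (h : A) [IsLocalization.Away h B] (z : ι → B) :
    ∃ (n : ℕ) (x : ι → A), ∀ i, algebraMap A B (x i) = algebraMap A B h ^ n * z i := by
  obtain ⟨⟨_, n, rfl⟩, hb⟩ := IsLocalization.exist_integer_multiples_of_finite (Submonoid.powers h) z
  choose x hx using hb
  refine ⟨n, x, fun i => ?_⟩
  rw [hx i, Algebra.smul_def, map_pow]

/-- Equality after localizing, in `ι → A`. -/
theorem exists_pow_smul_eq_of_map_eq (h : A) [IsLocalization.Away h B] (x y : ι → A)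
    (hxy : ∀ i, algebraMap A B (x i) = algebraMap A B (y i)) : ∃ n : ℕ, h ^ n • x = h ^ n • y := by
  have : ∀ i, ∃ n : ℕ, h ^ n * x i = h ^ n * y i := fun i => by
    obtain ⟨⟨_, n, rfl⟩, hc⟩ := (IsLocalization.eq_iff_exists (Submonoid.powers h) B).mp (hxy i)
    exact ⟨n, hc⟩
  choose n hn using this
  obtain ⟨P, hP⟩ := Finite.exists_le n
  refine ⟨P, funext fun i => ?_⟩
  rw [Pi.smul_apply, Pi.smul_apply, smul_eq_mul, smul_eq_mul, ← Nat.sub_add_cancel (hP i), pow_add,
    mul_assoc, mul_assoc, hn i]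

end Algebra

/-- Generators and finitely many relations on an affine open, exact over the given principal opens. -/
theorem exists_relations (M : X.Modules) [M.IsQuasicoherent] {W : X.Opens} (hW : IsAffineOpen W)
    {ι : Type u} [Finite ι] (m : ι → Γ(M, W)) (σ : Finset Γ(X, W))
    (hσ : ∀ h ∈ σ, Module.FinitePresentation Γ(X, X.basicOpen h) Γ(M, X.basicOpen h) ∧
      Submodule.span Γ(X, X.basicOpen h) (Set.range fun i => res M (X.basicOpen_le h) (m i)) = ⊤) :
    ∃ R : Submodule Γ(X, W) (ι → Γ(X, W)), R.FG ∧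
      (∀ x ∈ R, (letI := Fintype.ofFinite ι; Fintype.linearCombination Γ(X, W) m x) = 0) ∧
      ∀ h ∈ σ, ∀ x : ι → Γ(X, W),
        (letI := Fintype.ofFinite ι; Fintype.linearCombination Γ(X, W) m x) = 0 →
          ∃ k : ℕ, h ^ k • x ∈ R := by
  classical
  let _ := Fintype.ofFinite ι
  let p : (ι → Γ(X, W)) →ₗ[Γ(X, W)] Γ(M, W) := Fintype.linearCombination Γ(X, W) m
  have key : ∀ h : σ, ∃ R : Finset (ι → Γ(X, W)), (∀ r ∈ R, p r = 0) ∧
      ∀ x, p x = 0 → ∃ k : ℕ, h.1 ^ k • x ∈ Submodule.span Γ(X, W) (R : Set (ι → Γ(X, W))) := by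
    rintro ⟨h, hh⟩
    obtain ⟨hfp, hspan⟩ := hσ h hh
    have := hW.isLocalization_basicOpen h
    let B := Γ(X, X.basicOpen h)
    let pf : (ι → B) →ₗ[B] Γ(M, X.basicOpen h) :=
      Fintype.linearCombination B fun i => res M (X.basicOpen_le h) (m i)
    let f : (ι → Γ(X, W)) → (ι → B) := fun x i => algebraMap Γ(X, W) B (x i)
    have hfsmul : ∀ (a : Γ(X, W)) x, f (a • x) = algebraMap Γ(X, W) B a • f x := fun a x =>
      funext fun i => map_mul _ _ _
    have hpf : ∀ x, pf (f x) = res M (X.basicOpen_le h) (p x) := by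
      intro x
      simp only [pf, p, f, Fintype.linearCombination_apply, map_sum, res_smul]
      rfl
    have hsurj : Function.Surjective pf := by
      rw [← LinearMap.range_eq_top, Fintype.range_linearCombination]
      exact hspan
    have hfg : (LinearMap.ker pf).FG := Module.FinitePresentation.fg_ker pf hsurj
    let L : Set (ι → Γ(X, W)) := {x | p x = 0}
    have hker : LinearMap.ker pf = Submodule.span B (f '' L) := by
      refine le_antisymm (fun z hz => ?_) (Submodule.span_le.mpr ?_)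
      · obtain ⟨n, x, hx⟩ := exists_pow_smul_eq_comp (B := B) h z
        have hfx : f x = algebraMap Γ(X, W) B h ^ n • z := funext hx
        have h0 : res M (X.basicOpen_le h) (p x) = 0 := by
          rw [← hpf, hfx, map_smul, LinearMap.mem_ker.mp hz, smul_zero]
        obtain ⟨l, hl⟩ := (isLocalizingAt M hW h).eq_zero _ h0
        have hxL : h ^ l • x ∈ L := by
          change p (h ^ l • x) = 0
          rw [map_smul, hl]
        have := Submodule.subset_span (R := B) (Set.mem_image_of_mem f hxL)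
        rw [hfsmul, hfx, map_pow, smul_smul] at this
        have hu : IsUnit (algebraMap Γ(X, W) B h) := IsLocalization.Away.algebraMap_isUnit h
        obtain ⟨w, hw⟩ := (hu.pow l).mul (hu.pow n)
        rw [← hw] at this
        have := Submodule.smul_mem _ (↑w⁻¹ : B) this
        rwa [smul_smul, w.inv_mul, one_smul] at this
      · rintro _ ⟨x, hx, rfl⟩
        rw [SetLike.mem_coe, LinearMap.mem_ker, hpf, show p x = 0 from hx, map_zero]
    rw [hker, Submodule.fg_span_iff_fg_span_finset_subset] at hfg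
    obtain ⟨Z, hZ, hZspan⟩ := hfg
    choose g hgL hgz using fun z : Z => hZ z.2
    refine ⟨Finset.univ.image g, fun r hr => ?_, fun x hx => ?_⟩
    · obtain ⟨z, -, rfl⟩ := Finset.mem_image.mp hr
      exact hgL z
    · have hfx : f x ∈ Submodule.span B (Z : Set (ι → B)) :=
        hZspan ▸ Submodule.subset_span (Set.mem_image_of_mem f hx)
      have key : ∀ z ∈ Submodule.span B (Z : Set (ι → B)), ∃ k : ℕ,
          ∃ v ∈ Submodule.span Γ(X, W) (Finset.univ.image g : Set (ι → Γ(X, W))),
            algebraMap Γ(X, W) B h ^ k • z = f v := by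
        intro z hz
        induction hz using Submodule.span_induction with
        | mem z hz =>
          exact ⟨0, g ⟨z, hz⟩, Submodule.subset_span (by
            rw [Finset.coe_image, Finset.coe_univ, Set.image_univ]; exact ⟨_, rfl⟩), by
            rw [pow_zero, one_smul]; exact (hgz ⟨z, hz⟩).symm⟩
        | zero => exact ⟨0, 0, zero_mem _, by rw [smul_zero]; exact funext fun i => (map_zero _).symm⟩
        | add a b _ _ ha hb =>
          obtain ⟨k, v, hv, e⟩ := ha
          obtain ⟨k', v', hv', e'⟩ := hb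
          refine ⟨k + k', h ^ k' • v + h ^ k • v',
            add_mem (Submodule.smul_mem _ _ hv) (Submodule.smul_mem _ _ hv'), ?_⟩
          rw [smul_add, show f (h ^ k' • v + h ^ k • v') = f (h ^ k' • v) + f (h ^ k • v') from
            funext fun i => map_add _ _ _, hfsmul, hfsmul, ← e, ← e', map_pow, map_pow, smul_smul,
            smul_smul, ← pow_add, ← pow_add, add_comm k' k]
        | smul c a _ ha =>
          obtain ⟨k, v, hv, e⟩ := ha
          obtain ⟨⟨_, n, rfl⟩, r, hr⟩ := (⟨(IsLocalization.surj (Submonoid.powers h) c).choose.2,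
            (IsLocalization.surj (Submonoid.powers h) c).choose.1,
            (IsLocalization.surj (Submonoid.powers h) c).choose_spec⟩ :
              ∃ (q : Submonoid.powers h) (r : Γ(X, W)), c * algebraMap Γ(X, W) B q = algebraMap Γ(X, W) B r)
          refine ⟨n + k, r • v, Submodule.smul_mem _ _ hv, ?_⟩
          rw [hfsmul, ← e, smul_smul, smul_smul, ← hr, map_pow, pow_add]
          congr 1
          ring
      obtain ⟨k, v, hv, e⟩ := key _ hfx
      rw [← map_pow, ← hfsmul] at e
      obtain ⟨n, hn⟩ := exists_pow_smul_eq_of_map_eq (B := B) h (h ^ k • x) v (congrFun e)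
      refine ⟨n + k, ?_⟩
      rw [pow_add, mul_smul, hn]
      exact Submodule.smul_mem _ _ hv
  choose R hR0 hR using key
  refine ⟨Submodule.span Γ(X, W) (Finset.univ.biUnion R : Set (ι → Γ(X, W))),
    ⟨_, rfl⟩, fun x hx => ?_, fun h hh x hx => ?_⟩
  · change p x = 0
    induction hx using Submodule.span_induction with
    | mem y hy =>
      obtain ⟨i, -, hy⟩ := Finset.mem_biUnion.mp hy
      exact hR0 i y hy
    | zero => exact map_zero p
    | add a b _ _ ha hb => rw [map_add, ha, hb, add_zero]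
    | smul c a _ ha => rw [map_smul, ha, smul_zero]
  · obtain ⟨k, hk⟩ := hR ⟨h, hh⟩ x hx
    exact ⟨k, Submodule.span_mono (Finset.coe_subset.mpr
      (Finset.subset_biUnion_of_mem R (Finset.mem_univ _))) hk⟩

/-- Extending finite presentation to one more affine open. -/
theorem exists_step [QuasiSeparatedSpace X] (G : X.Modules) [G.IsQuasicoherent] {U W : X.Opens}
    (hU : IsCompact (U : Set X)) (hW : IsAffineOpen W) (hG : FPOn G U) :
    ∃ (G' : X.Modules) (θ : G' ⟶ G), G'.IsQuasicoherent ∧ FPOn G' (U ⊔ W) ∧ IsoOn θ U := by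
  classical
  have hUW : IsCompact ((U : Set X) ∩ W) := hU.inter_of_isOpen hW.isCompact U.isOpen W.isOpen
  obtain ⟨T, hT, -⟩ := exists_extend (ftOn_of_fpOn hG) hW hUW
  let m : ↥(T : Set Γ(G, W)) → Γ(G, W) := Subtype.val
  have hloc : ∀ y : ↥(U ⊓ W), ∃ h : Γ(X, W), y.1 ∈ X.basicOpen h ∧ X.basicOpen h ≤ U := by
    rintro ⟨y, hyU, hyW⟩
    obtain ⟨h, hle, hyh⟩ := hW.exists_basicOpen_le ⟨y, hyU⟩ hyW
    exact ⟨h, hyh, hle⟩
  choose hf hyh hhU using hloc
  obtain ⟨σ₀, hσ₀⟩ := hUW.elim_finite_subcover (fun y : ↥(U ⊓ W) => (X.basicOpen (hf y) : Set X))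
    (fun y => (X.basicOpen (hf y)).isOpen) fun y hy => Set.mem_iUnion.mpr ⟨⟨y, hy⟩, hyh _⟩
  let σ : Finset Γ(X, W) := σ₀.image hf
  have hσU : ∀ h ∈ σ, X.basicOpen h ≤ U := fun h hh => by
    obtain ⟨y, -, rfl⟩ := Finset.mem_image.mp hh
    exact hhU y
  have hspan : ∀ h ∈ σ, Submodule.span Γ(X, X.basicOpen h)
      (Set.range fun i => res G (X.basicOpen_le h) (m i)) = ⊤ := by
    intro h hh
    rw [eq_top_iff]
    rintro z -
    refine mem_span_of_germ (hW.basicOpen h) fun y hy => ?_
    have hy' : y ∈ W := X.basicOpen_le h hy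
    rw [show Set.range (fun i => res G (X.basicOpen_le h) (m i)) =
      res G (X.basicOpen_le h) '' (T : Set Γ(G, W)) from (Set.image_eq_range _ _).symm, spanGerm_res]
    exact (hT y hy' (hσU h hh hy)) ▸ Submodule.mem_top
  obtain ⟨R, hRfg, hR0, hR⟩ := exists_relations G hW m σ fun h hh =>
    ⟨hG _ (hW.basicOpen h) (hσU h hh), hspan h hh⟩
  let _ := Fintype.ofFinite ↥(T : Set Γ(G, W))
  let p := Fintype.linearCombination Γ(X, W) m
  let q : (↥(T : Set Γ(G, W)) → Γ(X, W)) ⧸ R →ₗ[Γ(X, W)] Γ(G, W) :=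
    R.liftQ p fun x hx => hR0 x hx
  let Q : ModuleCat.{u} Γ(X, W) := ModuleCat.of Γ(X, W) ((↥(T : Set Γ(G, W)) → Γ(X, W)) ⧸ R)
  have hQ : Module.FinitePresentation Γ(X, W) Q :=
    Module.finitePresentation_of_surjective R.mkQ R.mkQ_surjective (by rwa [Submodule.ker_mkQ])
  have := hW.isOpenImmersion_fromSpec
  let j := hW.fromSpec
  let Rj := Scheme.Modules.restrictFunctor j
  let Pj := Scheme.Modules.pushforward j
  let adj := Scheme.Modules.restrictAdjunction j
  let N : (Spec Γ(X, W)).Modules := toSpec hW G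
  have hN : N.IsQuasicoherent := Scheme.Modules.isQuasicoherent_restrictFunctor _ G
  let qlin : Q →ₗ[Γ(X, W)] Γ(N, ⊤) := (toSpecTopLinearEquiv hW G).symm.toLinearMap ∘ₗ q
  let q'' : Q ⟶ ModuleCat.of Γ(X, W) Γ(N, ⊤) := ModuleCat.ofHom qlin
  let q' : Q ⟶ (moduleSpecΓFunctor (R := Γ(X, W))).obj N := q''
  let ψ : tilde Q ⟶ N := (tilde.adjunction.homEquiv Q N).symm q'
  have hψ : ∀ x : Q, ψ.app ⊤ (QTilde.topEquiv Q x) = qlin x := by
    intro x
    have e : tilde.adjunction.homEquiv Q N ψ = q' := Equiv.apply_symm_apply _ _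
    rw [Adjunction.homEquiv_unit] at e
    exact congr($e x)
  have hQq : (tilde Q).IsQuasicoherent := inferInstance
  have hqc : QuasiCompact j := inferInstance
  have hA : (Pj.obj (tilde Q)).IsQuasicoherent := QCoh.isQuasicoherent_pushforward j (tilde Q)
  have hB : (Pj.obj (Rj.obj G)).IsQuasicoherent := QCoh.isQuasicoherent_pushforward j (Rj.obj G)
  let η : G ⟶ Pj.obj (Rj.obj G) := adj.unit.app G
  let G' := pullback η (Pj.map ψ)
  have sq := IsPullback.of_hasPullback η (Pj.map ψ)
  have hG' : G'.IsQuasicoherent := by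
    have : (G ⊞ Pj.obj (tilde Q)).IsQuasicoherent := isQuasicoherent_biprod G (Pj.obj (tilde Q))
    have : (kernel (biprod.desc η (-Pj.map ψ))).IsQuasicoherent := QCoh.isQuasicoherent_kernel _
    exact QCoh.isQuasicoherent_of_iso (M := kernel (biprod.desc η (-Pj.map ψ)))
      ((kernelIsKernel _).conePointUniqueUpToIso
        (Abelian.PullbackToBiproductIsKernel.isLimitPullbackToBiproduct η (Pj.map ψ)))
  have hψiso : IsoOn ψ (j ⁻¹ᵁ U) := by
    refine isoOn_of_local ψ fun z hz => ?_
    have hzW : j z ∈ W := hW.range_fromSpec.le ⟨z, rfl⟩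
    obtain ⟨y, hy, hzy⟩ := Set.mem_iUnion₂.mp (hσ₀ ⟨hz, hzW⟩)
    set h := hf y with hhdef
    have hhσ : h ∈ σ := Finset.mem_image.mpr ⟨y, hy, rfl⟩
    let a : Γ(Spec Γ(X, W), ⊤) := QTilde.topRingEquiv Γ(X, W) h
    have ha : (Spec Γ(X, W)).basicOpen a = j ⁻¹ᵁ X.basicOpen h := by
      rw [hW.fromSpec_preimage_basicOpen]
      exact basicOpen_eq_of_affine h
    refine ⟨(Spec Γ(X, W)).basicOpen a, (isAffineOpen_top _).basicOpen a, ha ▸ hzy,
      bijective_basicOpen ψ (isAffineOpen_top _) a (fun x hx => ?_) fun y' => ?_⟩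
    · obtain ⟨x, rfl⟩ := (QTilde.topEquiv Q).surjective x
      rw [hψ] at hx
      have hqx : q x = 0 := (toSpecTopLinearEquiv hW G).symm.map_eq_zero_iff.mp hx
      obtain ⟨x, rfl⟩ := R.mkQ_surjective x
      obtain ⟨k, hk⟩ := hR h hhσ x hqx
      refine ⟨k, ?_⟩
      rw [← map_pow, QTilde.topRingEquiv_smul, ← map_smul, ← map_smul,
        show R.mkQ (h ^ k • x) = 0 from (Submodule.Quotient.mk_eq_zero R).mpr hk, map_zero]
    · let g := toSpecTopLinearEquiv hW G y'
      have hg : res G (X.basicOpen_le h) g ∈ Submodule.span Γ(X, X.basicOpen h)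
          (Set.range fun i => res G (X.basicOpen_le h) (m i)) := hspan h hhσ ▸ Submodule.mem_top
      obtain ⟨k, hk⟩ := exists_pow_smul_mem_span (s := (T : Set Γ(G, W))) hW h (m := g) fun w hw =>
        hT w (X.basicOpen_le h hw) (hσU h hhσ hw) ▸ Submodule.mem_top
      rw [← Subtype.range_coe (s := (T : Set Γ(G, W))), ← Fintype.range_linearCombination] at hk
      obtain ⟨x, hx⟩ := hk
      refine ⟨k, QTilde.topEquiv Q (R.mkQ x), ?_⟩
      rw [hψ]
      change (toSpecTopLinearEquiv hW G).symm (q (R.mkQ x)) = _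
      rw [show q (R.mkQ x) = p x from R.liftQ_apply _ _, show p x = h ^ k • g from hx, map_smul,
        LinearEquiv.symm_apply_apply, ← map_pow, QTilde.topRingEquiv_smul]
  refine ⟨G', pullback.fst η (Pj.map ψ), hG', fpOn_sup ?_ ?_, ?_⟩
  rotate_left 2
  · intro O hO
    have hb := hψiso (j ⁻¹ᵁ O) (j.preimage_mono hO)
    have hb' : IsIso ((sectionsFunctor X O).map (Pj.map ψ)) :=
      (ConcreteCategory.isIso_iff_bijective _).mpr hb
    have := (sq.map (sectionsFunctor X O)).isIso_fst_of_isIso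
    exact ConcreteCategory.bijective_of_isIso ((sectionsFunctor X O).map (pullback.fst η (Pj.map ψ)))
  · refine fpOn_of_isoOn' (φ := pullback.fst η (Pj.map ψ)) (U := U) ?_ hG
    intro O hO
    have hb := hψiso (j ⁻¹ᵁ O) (j.preimage_mono hO)
    have hb' : IsIso ((sectionsFunctor X O).map (Pj.map ψ)) :=
      (ConcreteCategory.isIso_iff_bijective _).mpr hb
    have := (sq.map (sectionsFunctor X O)).isIso_fst_of_isIso
    exact ConcreteCategory.bijective_of_isIso ((sectionsFunctor X O).map (pullback.fst η (Pj.map ψ)))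
  · refine fpOn_of_affine hW ?_
    have hη : IsIso (Rj.map η) := by
      have h := adj.left_triangle_components G
      have : IsIso (Rj.map η ≫ adj.counit.app (Rj.obj G)) := by rw [h]; infer_instance
      exact IsIso.of_isIso_comp_right _ (adj.counit.app (Rj.obj G))
    have hsnd : IsIso (Rj.map (pullback.snd η (Pj.map ψ))) := (sq.map Rj).isIso_snd_of_isIso
    let e : toSpec hW G' ≅ tilde Q :=
      asIso (Rj.map (pullback.snd η (Pj.map ψ))) ≪≫ (asIso adj.counit).app (tilde Q)
    exact Module.FinitePresentation.of_equiv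
      (QTilde.topEquiv Q ≪≫ₗ (QFP.topEquivOfIso e).symm ≪≫ₗ toSpecTopLinearEquiv hW G')

end Groth.Agent.Props.QApprox

end
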