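import Groth.Agent.Props.GenTensor

/-!
# Products and powers of sections of tensor powers of an invertible module
-/

universe u

open CategoryTheory Limits AlgebraicGeometry Opposite TopologicalSpace

noncomputable section

namespace Groth.Agent.Props.GenProd

open Groth.Agent.QCoh Groth.Agent.Props.GenLocus Groth.Agent.Props.GenTensor

variable {X : Scheme.{u}} {L : X.Modules}

theorem exists_unit_smul {U : X.Opens} {e e' : Γ(L, U)} (he : IsGen L U e) (he' : IsGen L U e') :
    ∃ u : Γ(X, U), IsUnit u ∧ e' = u • e := by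
  obtain ⟨a, ha, -⟩ := he.exists_eq le_rfl e'
  obtain ⟨b, hb, -⟩ := he'.exists_eq le_rfl e
  rw [res_self] at ha hb
  refine ⟨a, ?_, ha⟩
  have h1 : (1 : Γ(X, U)) • res L le_rfl e = (b * a) • res L le_rfl e := by
    rw [res_self, one_smul, mul_smul, ← ha, ← hb]
  exact IsUnit.of_mul_eq_one_right b (he.injective le_rfl h1).symm

variable (k : ℕ)

/-- The coefficient of a section of `L^{⊗ k}` in the trivialisation given by a generator of `L`. -/
def co {V : X.Opens} (σ : Γ(CohB1.tensorPow L k, V)) {W : X.Opens} (h : W ≤ V) {e : Γ(L, W)}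
    (he : IsGen L W e) : Γ(X, W) :=
  ((isGen_pw he k).exists_eq le_rfl (res _ h σ)).choose

variable {k}

lemma co_spec {V : X.Opens} (σ : Γ(CohB1.tensorPow L k, V)) {W : X.Opens} (h : W ≤ V) {e : Γ(L, W)}
    (he : IsGen L W e) : res _ h σ = co k σ h he • pw L e k := by
  have := ((isGen_pw he k).exists_eq le_rfl (res _ h σ)).choose_spec.1
  exact this.trans (congrArg (co k σ h he • ·) (res_self (CohB1.tensorPow L k) le_rfl (pw L e k)))

lemma co_unique {V : X.Opens} (σ : Γ(CohB1.tensorPow L k, V)) {W : X.Opens} (h : W ≤ V) {e : Γ(L, W)}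
    (he : IsGen L W e) {a : Γ(X, W)} (ha : res _ h σ = a • pw L e k) : co k σ h he = a := by
  refine (isGen_pw he k).injective le_rfl ?_
  rw [res_self, ← co_spec σ h he, ha]

lemma co_res {V : X.Opens} (σ : Γ(CohB1.tensorPow L k, V)) {W W' : X.Opens} (h : W ≤ V) (h' : W' ≤ W)
    {e : Γ(L, W)} (he : IsGen L W e) :
    rres h' (co k σ h he) = co k σ (h'.trans h) (he.restrict h') := by
  symm
  refine co_unique _ _ _ ?_
  rw [← res_res _ h h', co_spec σ h he, res_smul, res_pw]

lemma co_smul {V : X.Opens} (σ : Γ(CohB1.tensorPow L k, V)) {W : X.Opens} (h : W ≤ V) {e : Γ(L, W)}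
    (he : IsGen L W e) {u : Γ(X, W)} (hu : IsUnit u) :
    u ^ k * co k σ h (he.smul_unit hu) = co k σ h he := by
  symm
  refine co_unique _ _ _ ?_
  rw [co_spec σ h (he.smul_unit hu), pw_smul, smul_smul, mul_comm]

/-- Glue coefficients to a section. -/
theorem exists_of_coeff (hL : PicF.IsInvertible L) (K : ℕ) (V : X.Opens)
    (c : ∀ (W : X.Opens) (_ : W ≤ V) (e : Γ(L, W)), IsGen L W e → Γ(X, W))
    (hres : ∀ (W W' : X.Opens) (h : W ≤ V) (h' : W' ≤ W) (e : Γ(L, W)) (he : IsGen L W e),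
      rres h' (c W h e he) = c W' (h'.trans h) (res L h' e) (he.restrict h'))
    (hunit : ∀ (W : X.Opens) (h : W ≤ V) (e : Γ(L, W)) (he : IsGen L W e) (u : Γ(X, W))
      (hu : IsUnit u), u ^ K * c W h (u • e) (he.smul_unit hu) = c W h e he) :
    ∃ ρ : Γ(CohB1.tensorPow L K, V),
      ∀ (W : X.Opens) (h : W ≤ V) (e : Γ(L, W)) (he : IsGen L W e), co K ρ h he = c W h e he := by
  have key : ∀ (W : X.Opens) (h : W ≤ V) (e e' : Γ(L, W)) (he : IsGen L W e) (he' : IsGen L W e'),
      c W h e' he' • pw L e' K = c W h e he • pw L e K := by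
    intro W h e e' he he'
    obtain ⟨u, hu, rfl⟩ := exists_unit_smul he he'
    rw [pw_smul, smul_smul, mul_comm]
    exact congrArg (· • _) (hunit W h e he u hu)
  have hcov : ∀ x : V, ∃ (W : X.Opens) (e : Γ(L, W)), x.1 ∈ W ∧ W ≤ V ∧ IsGen L W e := by
    intro x
    obtain ⟨U, e, hxU, he⟩ := exists_isGen hL x.1
    exact ⟨U ⊓ V, res L inf_le_left e, ⟨hxU, x.2⟩, inf_le_right, he.restrict _⟩
  choose W e hxW hWV he using hcov
  have hc : V ≤ iSup W := fun x hx => Opens.mem_iSup.mpr ⟨⟨x, hx⟩, hxW _⟩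
  obtain ⟨ρ, hρ⟩ := exists_glue (CohB1.tensorPow L K) hWV hc
    (fun i => c (W i) (hWV i) (e i) (he i) • pw L (e i) K) fun i j => by
      rw [res_smul, res_smul, res_pw, res_pw, hres, hres]
      exact key _ _ _ _ ((he j).restrict _) ((he i).restrict _)
  refine ⟨ρ, fun W' h e' he' => co_unique _ _ _ ?_⟩
  refine eq_of_locally_eq _ (V := W') (U := fun i => W i ⊓ W') (fun i => inf_le_right)
    (fun x hx => Opens.mem_iSup.mpr ⟨⟨x, h hx⟩, hxW _, hx⟩) _ _ fun i => ?_
  rw [res_res, ← res_res _ (hWV i) (inf_le_left : W i ⊓ W' ≤ W i), hρ i, res_smul, res_smul, res_pw,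
    res_pw, hres, hres]
  exact key _ _ _ _ (he'.restrict _) ((he i).restrict _)

/-- The coefficient of a map from the structure module. -/
lemma genLocus_inf_eq {W : X.Opens} {e : Γ(L, W)} (he : IsGen L W e)
    (s : Coh.structureModule X ⟶ CohB1.tensorPow L k) :
    CohB1.genLocus _ s ⊓ W = X.basicOpen (co k (sec s ⊤) le_top he) :=
  genLocus_inf (isGen_pw he k) s (by rw [← sec_res s (le_top : W ≤ ⊤)]; exact co_spec _ _ he)

/-- Powers of a map from the structure module. -/
theorem exists_pow (hL : PicF.IsInvertible L) (s : Coh.structureModule X ⟶ CohB1.tensorPow L k)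
    (a K : ℕ) (hK : K = k * a) :
    ∃ t : Coh.structureModule X ⟶ CohB1.tensorPow L K,
      ∀ (W : X.Opens) (e : Γ(L, W)) (he : IsGen L W e),
        co K (sec t ⊤) le_top he = co k (sec s ⊤) le_top he ^ a := by
  obtain ⟨ρ, hρ⟩ := exists_of_coeff hL K ⊤ (fun W h e he => co k (sec s ⊤) h he ^ a)
    (fun W W' h h' e he => by rw [map_pow, co_res]) (fun W h e he u hu => by
      rw [hK, pow_mul, ← mul_pow, co_smul _ h he hu])
  refine ⟨homOfSec ρ, fun W e he => ?_⟩
  have : sec (homOfSec ρ) ⊤ = ρ := by rw [sec_homOfSec, res_self]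
  rw [this, hρ]

/-- Products of maps from the structure module. -/
theorem exists_mul (hL : PicF.IsInvertible L) {l : ℕ}
    (s : Coh.structureModule X ⟶ CohB1.tensorPow L k) (t : Coh.structureModule X ⟶ CohB1.tensorPow L l)
    (K : ℕ) (hK : K = k + l) :
    ∃ r : Coh.structureModule X ⟶ CohB1.tensorPow L K,
      ∀ (W : X.Opens) (e : Γ(L, W)) (he : IsGen L W e),
        co K (sec r ⊤) le_top he = co k (sec s ⊤) le_top he * co l (sec t ⊤) le_top he := by
  obtain ⟨ρ, hρ⟩ := exists_of_coeff hL K ⊤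
    (fun W h e he => co k (sec s ⊤) h he * co l (sec t ⊤) h he)
    (fun W W' h h' e he => by rw [map_mul, co_res, co_res]) (fun W h e he u hu => by
      rw [hK, pow_add, mul_mul_mul_comm, co_smul _ h he hu, co_smul _ h he hu])
  refine ⟨homOfSec ρ, fun W e he => ?_⟩
  have : sec (homOfSec ρ) ⊤ = ρ := by rw [sec_homOfSec, res_self]
  rw [this, hρ]

theorem genLocus_ext (hL : PicF.IsInvertible L) {U V : X.Opens}
    (h : ∀ (W : X.Opens) (e : Γ(L, W)), IsGen L W e → U ⊓ W = V ⊓ W) : U = V := by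
  ext x
  obtain ⟨W, e, hxW, he⟩ := exists_isGen hL x
  have := congrArg (fun O : X.Opens => x ∈ O) (h W e he)
  simpa [hxW] using this

theorem genLocus_pow (hL : PicF.IsInvertible L) (s : Coh.structureModule X ⟶ CohB1.tensorPow L k)
    {a K : ℕ} (ha : 0 < a) (t : Coh.structureModule X ⟶ CohB1.tensorPow L K)
    (ht : ∀ (W : X.Opens) (e : Γ(L, W)) (he : IsGen L W e),
      co K (sec t ⊤) le_top he = co k (sec s ⊤) le_top he ^ a) :
    CohB1.genLocus _ t = CohB1.genLocus _ s :=
  genLocus_ext hL fun W e he => by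
    rw [genLocus_inf_eq he, genLocus_inf_eq he, ht W e he, Scheme.basicOpen_pow _ _ ha]

theorem genLocus_mul (hL : PicF.IsInvertible L) {l K : ℕ}
    (s : Coh.structureModule X ⟶ CohB1.tensorPow L k) (t : Coh.structureModule X ⟶ CohB1.tensorPow L l)
    (r : Coh.structureModule X ⟶ CohB1.tensorPow L K)
    (hr : ∀ (W : X.Opens) (e : Γ(L, W)) (he : IsGen L W e),
      co K (sec r ⊤) le_top he = co k (sec s ⊤) le_top he * co l (sec t ⊤) le_top he) :
    CohB1.genLocus _ r = CohB1.genLocus _ s ⊓ CohB1.genLocus _ t :=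
  genLocus_ext hL fun W e he => by
    rw [inf_inf_distrib_right, genLocus_inf_eq he, genLocus_inf_eq he, genLocus_inf_eq he, hr W e he,
      Scheme.basicOpen_mul]

end Groth.Agent.Props.GenProd

end
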