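import Groth.Agent.Props.GenProd
import Groth.Agent.SepCrit.Basic

/-!
# Separatedness from affine loci `X_s`
-/

universe u

open CategoryTheory Limits AlgebraicGeometry Opposite TopologicalSpace

noncomputable section

namespace Groth.Agent.Props.GenSep

open Groth.Agent.QCoh Groth.Agent.Props.GenLocus Groth.Agent.Props.GenTensor Groth.Agent.Props.GenProd

variable {X : Scheme.{u}} {L : X.Modules}

/-- Two affine loci meet in an affine open whose functions come from the two factors. -/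
theorem inf_genLocus (hL : PicF.IsInvertible L) {k l : ℕ} (hk : 0 < k) (hl : 0 < l)
    (s : Coh.structureModule X ⟶ CohB1.tensorPow L k) (t : Coh.structureModule X ⟶ CohB1.tensorPow L l)
    {V W : X.Opens} (hV : V = CohB1.genLocus _ s) (hW : W = CohB1.genLocus _ t) (hVaff : IsAffineOpen V) :
    IsAffineOpen (V ⊓ W) ∧
      Subring.closure (Set.range (X.presheaf.map (homOfLE (inf_le_left : V ⊓ W ≤ V)).op).hom ∪
        Set.range (X.presheaf.map (homOfLE (inf_le_right : V ⊓ W ≤ W)).op).hom) = ⊤ := by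
  obtain ⟨S, hS⟩ := exists_pow hL s l (k * l) rfl
  obtain ⟨T, hT⟩ := exists_pow hL t k (k * l) (Nat.mul_comm k l)
  have eV : CohB1.genLocus _ S = V := (genLocus_pow hL s hl S hS).trans hV.symm
  have eW : CohB1.genLocus _ T = W := (genLocus_pow hL t hk T hT).trans hW.symm
  have gS : IsGen (CohB1.tensorPow L (k * l)) V (sec S V) := eV ▸ isGen_genLocus S
  have gT : IsGen (CohB1.tensorPow L (k * l)) W (sec T W) := eW ▸ isGen_genLocus T
  obtain ⟨φ, hφ, -⟩ := gS.exists_eq le_rfl (sec T V)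
  obtain ⟨ψ, hψ, -⟩ := gT.exists_eq le_rfl (sec S W)
  rw [res_self] at hφ hψ
  have hD : V ⊓ W = X.basicOpen φ := by
    rw [inf_comm, ← eW]
    exact genLocus_inf gS T hφ
  refine ⟨hD ▸ hVaff.basicOpen φ, ?_⟩
  have hmul : (X.presheaf.map (homOfLE (inf_le_left : V ⊓ W ≤ V)).op) φ *
      (X.presheaf.map (homOfLE (inf_le_right : V ⊓ W ≤ W)).op) ψ = 1 := by
    have gi := gT.restrict (inf_le_right : V ⊓ W ≤ W)
    rw [sec_res] at gi
    refine gi.injective le_rfl ?_
    rw [res_self, one_smul]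
    have e1 := congrArg (res _ (inf_le_left : V ⊓ W ≤ V)) hφ
    have e2 := congrArg (res _ (inf_le_right : V ⊓ W ≤ W)) hψ
    rw [res_smul, sec_res, sec_res] at e1 e2
    rw [mul_smul]
    exact ((congrArg _ e2.symm).trans e1.symm)
  rw [eq_top_iff]
  rintro z -
  have key : ∀ (O : X.Opens) (hO : O = X.basicOpen φ) (hle : O ≤ V) (z : Γ(X, O)),
      ∃ (n : ℕ) (a : Γ(X, V)), rres hle a = rres hle φ ^ n * z := by
    intro O hO hle z
    subst hO
    have := hVaff.isLocalization_basicOpen φ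
    obtain ⟨⟨a, ⟨_, n, rfl⟩⟩, ha⟩ := IsLocalization.surj (Submonoid.powers φ) z
    refine ⟨n, a, ?_⟩
    rw [← map_pow, mul_comm]
    exact ha.symm
  obtain ⟨n, a, ha⟩ := key _ hD inf_le_left z
  have e : z = (X.presheaf.map (homOfLE (inf_le_left : V ⊓ W ≤ V)).op) a *
      (X.presheaf.map (homOfLE (inf_le_right : V ⊓ W ≤ W)).op) ψ ^ n := by
    rw [show (X.presheaf.map (homOfLE (inf_le_left : V ⊓ W ≤ V)).op) a =
      rres (inf_le_left : V ⊓ W ≤ V) φ ^ n * z from ha, mul_right_comm, ← mul_pow,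
      show rres (inf_le_left : V ⊓ W ≤ V) φ *
        (X.presheaf.map (homOfLE (inf_le_right : V ⊓ W ≤ W)).op) ψ = 1 from hmul, one_pow, one_mul]
  rw [e]
  refine Subring.mul_mem _ (Subring.subset_closure ?_) (Subring.pow_mem _ (Subring.subset_closure ?_) n)
  · exact Or.inl ⟨a, rfl⟩
  · exact Or.inr ⟨ψ, rfl⟩

theorem isSeparated (hL : PicF.IsInvertible L)
    (h : ∀ x : X, ∃ (n : ℕ) (s : Coh.structureModule X ⟶ CohB1.tensorPow L (n + 1)),
      x ∈ CohB1.genLocus _ s ∧ IsAffineOpen (CohB1.genLocus _ s)) : X.IsSeparated := by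
  choose n s hx haff using h
  refine ⟨(SepCrit.isSeparated_iff (f := terminal.from X)
    (fun x => CohB1.genLocus _ (s x)) haff ?_).mpr fun x y => ?_⟩
  · exact top_le_iff.mp fun x _ => Opens.mem_iSup.mpr ⟨x, hx x⟩
  · exact inf_genLocus hL (Nat.succ_pos _) (Nat.succ_pos _) (s x) (s y) rfl rfl (haff x)

end Groth.Agent.Props.GenSep

end
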