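import Mathlib.AlgebraicGeometry.Properties
import Mathlib.AlgebraicGeometry.Noetherian
import Mathlib.RingTheory.Ideal.KrullsHeightTheorem

/-!
# Points of locally Noetherian schemes have finite coheight

In particular ascending chains of irreducible closed subsets terminate.
-/

set_option autoImplicit false

namespace Groth.Agent.Props.Heights

open AlgebraicGeometry

universe u

variable (X : Scheme.{u}) [IsLocallyNoetherian X]

theorem coheight_lt_top (x : X) : Order.coheight x < ⊤ := by
  obtain ⟨_, ⟨U, hU, rfl⟩, hxU, -⟩ :=
    X.isBasis_affineOpens.exists_subset_of_mem_open (Set.mem_univ x) isOpen_univ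
  have := IsLocallyNoetherian.component_noetherian (X := X) ⟨U, hU⟩
  letI := TopCat.Presheaf.algebra_section_stalk X.presheaf ⟨x, hxU⟩
  have := hU.isLocalization_stalk ⟨x, hxU⟩
  have : IsNoetherianRing (X.presheaf.stalk x) :=
    IsLocalization.isNoetherianRing (hU.primeIdealOf ⟨x, hxU⟩).asIdeal.primeCompl _ inferInstance
  have h := ringKrullDim_lt_top (R := X.presheaf.stalk x)
  rw [ringKrullDim_stalk_eq_coheight] at h
  exact WithBot.coe_lt_coe.mp h

theorem coheight_lt {x y : X} (h : x < y) : Order.coheight y < Order.coheight x :=
  Order.coheight_strictAnti h (coheight_lt_top X y)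

theorem wellFounded_gt : WellFounded (fun x y : X => y < x) :=
  Subrelation.wf (fun h => coheight_lt X h) (InvImage.wf (fun x : X => Order.coheight x) wellFounded_lt)

theorem lt_of_specializes {x y : X} (h : x ⤳ y) (hne : x ≠ y) : y < x :=
  lt_of_le_not_ge (α := X) h fun h' => hne (h.antisymm h').eq

end Groth.Agent.Props.Heights
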