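import Mathlib.RingTheory.TensorProduct.Maps
import Mathlib.RingTheory.Ideal.Quotient.Operations
import Mathlib.Algebra.MvPolynomial.CommRing
import Mathlib.Algebra.MvPolynomial.Eval

/-!
# The ring of Jouanolou's trick

`B = A[tᵢ, s]/(∑ fᵢ tᵢ - 1)`; over an `A`-algebra in which the `fᵢ` generate the unit ideal it becomes a
polynomial ring in `r` variables.
-/

set_option autoImplicit false

universe u

open scoped TensorProduct
open MvPolynomial

noncomputable section

namespace Groth.Agent.Props.JouRing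

variable {A : Type u} [CommRing A] {r : ℕ} (f : Fin r → A)

/-- The relation. -/
def rel : MvPolynomial (Option (Fin r)) A := ∑ i, C (f i) * X (some i) - 1

/-- `A[tᵢ, s]/(∑ fᵢ tᵢ - 1)`. -/
abbrev B : Type u := MvPolynomial (Option (Fin r)) A ⧸ Ideal.span {rel f}

/-- The variables. -/
def gen (o : Option (Fin r)) : B f := Ideal.Quotient.mk _ (X o)

lemma sum_gen : ∑ i, algebraMap A (B f) (f i) * gen f (some i) = 1 := by
  have h : (Ideal.Quotient.mk (Ideal.span {rel f})) (rel f) = 0 :=
    Ideal.Quotient.eq_zero_iff_mem.mpr (Ideal.subset_span rfl)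
  rw [rel, map_sub, map_one, sub_eq_zero, map_sum] at h
  refine Eq.trans (Finset.sum_congr rfl fun i _ => ?_) h
  rw [map_mul]
  rfl

variable {R : Type u} [CommRing R] [Algebra A R] (c : Fin r → R)
  (hc : ∑ i, algebraMap A R (f i) * c i = 1)

/-- The `r` polynomial variables. -/
abbrev σ (r : ℕ) : Type u := ULift.{u} (Fin r)

/-- `∑ fᵢ yᵢ` -/
def sY : MvPolynomial (σ r) R := ∑ i, C (algebraMap A R (f i)) * X (ULift.up i)

/-- Images of the variables of `B`. -/
def img : Option (Fin r) → MvPolynomial (σ r) R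
  | none => sY f
  | some i => C (c i) + X (ULift.up i) - C (c i) * sY f

include hc in
lemma sum_img : ∑ i, C (algebraMap A R (f i)) * img f c (some i) = 1 := by
  have h : ∑ i, C (σ := σ r) (algebraMap A R (f i)) * C (c i) = 1 := by
    simp only [← C_mul, ← map_sum, hc, map_one]
  calc ∑ i, C (algebraMap A R (f i)) * (C (c i) + X (ULift.up i) - C (c i) * sY f)
      = ∑ i, C (σ := σ r) (algebraMap A R (f i)) * C (c i) +
          ∑ i, C (algebraMap A R (f i)) * X (ULift.up i) -
          (∑ i, C (σ := σ r) (algebraMap A R (f i)) * C (c i)) * sY f := by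
        rw [Finset.sum_mul, ← Finset.sum_add_distrib, ← Finset.sum_sub_distrib]
        exact Finset.sum_congr rfl fun i _ => by ring
    _ = 1 := by rw [h, one_mul]; exact add_sub_cancel_right _ _

/-- `B → R[y]` -/
def fwdB : B f →ₐ[A] MvPolynomial (σ r) R :=
  Ideal.Quotient.liftₐ _ (aeval (img f c)) fun a ha => by
    have h0 : aeval (img f c) (rel f) = 0 := by
      rw [rel, map_sub, map_one, map_sum, sub_eq_zero]
      refine Eq.trans (Finset.sum_congr rfl fun i _ => ?_) (sum_img f c hc)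
      rw [map_mul, aeval_X, aeval_C, IsScalarTower.algebraMap_apply A R, MvPolynomial.algebraMap_eq]
    obtain ⟨b, rfl⟩ := Ideal.mem_span_singleton'.mp ha
    rw [map_mul, h0, mul_zero]

lemma fwdB_gen (o : Option (Fin r)) : fwdB f c hc (gen f o) = img f c o :=
  (Ideal.Quotient.liftₐ_apply _ _ _ _).trans (aeval_X _ _)

/-- `R ⊗ B → R[y]` -/
def fwd : R ⊗[A] B f →ₐ[R] MvPolynomial (σ r) R :=
  Algebra.TensorProduct.lift (Algebra.ofId R _) (fwdB f c hc) fun _ _ => mul_comm _ _

/-- Images of the polynomial variables. -/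
def imgY (j : σ r) : R ⊗[A] B f :=
  (1 : R) ⊗ₜ gen f (some j.down) - c j.down ⊗ₜ 1 + c j.down ⊗ₜ gen f none

/-- `R[y] → R ⊗ B` -/
def bwd : MvPolynomial (σ r) R →ₐ[R] R ⊗[A] B f := aeval (imgY f c)



include hc in
lemma bwd_sY : bwd f c (sY f) = (1 : R) ⊗ₜ gen f none := by
  have hf : ∀ (i : Fin r) (b : B f), algebraMap R (R ⊗[A] B f) (algebraMap A R (f i)) * ((1 : R) ⊗ₜ b) =
      (1 : R) ⊗ₜ (algebraMap A (B f) (f i) * b) := fun i b => by
    rw [Algebra.TensorProduct.algebraMap_apply, Algebra.TensorProduct.tmul_mul_tmul, mul_one,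
      one_mul, Algebra.algebraMap_self, RingHom.id_apply, Algebra.algebraMap_eq_smul_one,
      TensorProduct.smul_tmul, ← Algebra.smul_def]
  have hfc : ∀ (i : Fin r) (b : B f), algebraMap R (R ⊗[A] B f) (algebraMap A R (f i)) * (c i ⊗ₜ b) =
      (algebraMap A R (f i) * c i) ⊗ₜ b := fun i b => by
    rw [Algebra.TensorProduct.algebraMap_apply, Algebra.TensorProduct.tmul_mul_tmul, one_mul,
      Algebra.algebraMap_self, RingHom.id_apply]
  simp only [sY, bwd, map_sum, map_mul, aeval_C, aeval_X]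
  have e : ∀ i, algebraMap R (R ⊗[A] B f) (algebraMap A R (f i)) * imgY f c (ULift.up i) =
      (1 : R) ⊗ₜ (algebraMap A (B f) (f i) * gen f (some i)) -
        (algebraMap A R (f i) * c i) ⊗ₜ 1 + (algebraMap A R (f i) * c i) ⊗ₜ gen f none := fun i => by
    unfold imgY
    rw [← hf, ← hfc, ← hfc]
    ring
  rw [Finset.sum_congr rfl fun i _ => e i, Finset.sum_add_distrib, Finset.sum_sub_distrib]
  rw [← TensorProduct.tmul_sum, sum_gen, ← TensorProduct.sum_tmul, ← TensorProduct.sum_tmul, hc,
    sub_self, zero_add]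

include hc in
lemma bwd_img (o : Option (Fin r)) : bwd f c (img f c o) = (1 : R) ⊗ₜ gen f o := by
  cases o with
  | none => exact bwd_sY f c hc
  | some i =>
    have hC : aeval (imgY f c) (C (c i)) = (c i) ⊗ₜ[A] (1 : B f) := by
      rw [aeval_C, Algebra.TensorProduct.algebraMap_apply, Algebra.algebraMap_self, RingHom.id_apply]
    have h2 := bwd_sY f c hc
    have hm : (c i ⊗ₜ[A] (1 : B f)) * ((1 : R) ⊗ₜ[A] gen f none) = c i ⊗ₜ gen f none := by
      rw [Algebra.TensorProduct.tmul_mul_tmul, mul_one, one_mul]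
    unfold bwd at h2 ⊢
    unfold img
    rw [map_sub, map_add, map_mul, aeval_X, h2, hC, hm]
    unfold imgY
    ring

/-- Jouanolou's isomorphism. -/
def equiv : R ⊗[A] B f ≃ₐ[R] MvPolynomial (σ r) R :=
  AlgEquiv.ofAlgHom (fwd f c hc) (bwd f c) (by
    refine MvPolynomial.algHom_ext fun j => ?_
    simp only [AlgHom.comp_apply, bwd, aeval_X, imgY, map_sub, map_add, fwd,
      Algebra.TensorProduct.lift_tmul, map_one, fwdB_gen, one_mul, mul_one, AlgHom.id_apply]
    simp only [Algebra.ofId_apply, MvPolynomial.algebraMap_eq, img]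
    ring) (by
    refine Algebra.TensorProduct.ext (Subsingleton.elim _ _) ?_
    refine Ideal.Quotient.algHom_ext _ (MvPolynomial.algHom_ext fun o => ?_)
    change bwd f c (fwd f c hc ((1 : R) ⊗ₜ gen f o)) = (1 : R) ⊗ₜ gen f o
    rw [fwd, Algebra.TensorProduct.lift_tmul, map_one, one_mul, fwdB_gen, bwd_img f c hc])

end Groth.Agent.Props.JouRing
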