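import Groth.Agent.Props.KilledSub

/-!
# The killed subsheaf of a quasi-coherent module is quasi-coherent
-/

universe u

open CategoryTheory Limits AlgebraicGeometry Opposite TopologicalSpace

noncomputable section

namespace Groth.Agent.Props.KilledSub

open Groth.Agent.QCoh Groth.Agent.Props.SubSheaf

variable {Z X : Scheme.{u}} (i : Z ⟶ X) [IsClosedImmersion i] [LocallyOfFinitePresentation i]

theorem fg_ker (U : X.affineOpens) : (i.ker.ideal U).FG := by
  rw [Scheme.Hom.ker_apply]
  have hsurj : Function.Surjective (i.app U.1) := i.app_surjective U.1 U.2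
  have hfp := i.finitePresentation_appLE U.2 (U.2.preimage i) le_rfl
  rw [Scheme.Hom.appLE_eq_app] at hfp
  algebraize [(i.app U.1).hom]
  have := hfp
  exact Algebra.FinitePresentation.ker_fG_of_surjective
    (Algebra.ofId Γ(X, U.1) Γ(Z, i ⁻¹ᵁ U.1)) hsurj

theorem isQuasicoherent_A (F : X.Modules) [F.IsQuasicoherent] : (A i F).IsQuasicoherent := by
  rw [isQuasicoherent_iff_forall_isAffineOpen]
  intro V hV f
  refine ⟨fun σ => ?_, fun t ht => ?_⟩
  · obtain ⟨n, t, ht⟩ := (isLocalizingAt F hV f).surj ((ι i F).app _ σ)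
    obtain ⟨T, hT⟩ := fg_ker i ⟨V, hV⟩
    let W : X.affineOpens := ⟨X.basicOpen f, hV.basicOpen f⟩
    have hkill : ∀ a ∈ T, ∃ m : ℕ, f ^ m • (a • t) = 0 := by
      intro a ha
      refine (isLocalizingAt F hV f).eq_zero _ ?_
      have ha' : rres (X.basicOpen_le f) a ∈ i.ker.ideal W :=
        i.ker.ideal_le_comap_ideal (U := W) (V := ⟨V, hV⟩) (X.basicOpen_le f)
          (hT.le (Ideal.subset_span ha))
      rw [res_smul, ht, smul_comm,
        (mem_range_iff i W _).mp ⟨σ, rfl⟩ _ ha', smul_zero]
    choose m hm using hkill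
    let N := T.attach.sup fun a => m a.1 a.2
    obtain ⟨t', ht'⟩ := (mem_range_iff i ⟨V, hV⟩ (f ^ N • t)).mpr fun a ha => by
      rw [← hT] at ha
      induction ha using Submodule.span_induction with
      | mem a ha =>
        have hle : m a ha ≤ N := Finset.le_sup (f := fun a : T => m a.1 a.2) (T.mem_attach ⟨a, ha⟩)
        rw [smul_comm, ← Nat.sub_add_cancel hle, pow_add, mul_smul, hm a ha, smul_zero]
      | zero => exact zero_smul _ _
      | add b c _ _ hb hc => rw [add_smul, hb, hc, add_zero]
      | smul r b _ hb => rw [smul_assoc, hb, smul_zero]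
    refine ⟨N + n, t', incl_injective _ _ ?_⟩
    rw [app_res, ht', res_smul, ht, map_pow, smul_smul, ← pow_add, Scheme.Modules.Hom.app_smul]
  · obtain ⟨n, hn⟩ := (isLocalizingAt F hV f).eq_zero ((ι i F).app V t) (by
      rw [← app_res, ht, map_zero])
    refine ⟨n, incl_injective _ _ ?_⟩
    rw [Scheme.Modules.Hom.app_smul, hn, map_zero]

end Groth.Agent.Props.KilledSub

end
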