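import Groth.Agent.CohAff.Vanishing

/-!
# Splitting a section on an intersection when `H¹` vanishes
-/

universe u

open CategoryTheory Limits Opposite TopologicalSpace

namespace Groth.Agent.Props.MayerVietoris

open Groth.Agent.CohAff

variable {X : TopCat.{u}}

theorem exists_sub_eq (F : AbSh X) [Subsingleton (Sheaf.H F 1)] {U V : Opens X}
    (h : U ⊔ V = ⊤) (s : F.obj.obj (op (U ⊓ V))) :
    ∃ (a : F.obj.obj (op U)) (b : F.obj.obj (op V)),
      res F.obj inf_le_left a - res F.obj inf_le_right b = s := by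
  classical
  have hlift : Lifts ⊤ F := (subsingleton_H_iff F 0).mp inferInstance
  let g : (gd F).obj.obj (op U) := fun p =>
    if hp : p.1 ∈ V then (sec (η F) (U ⊓ V) s) ⟨p.1, p.2, hp⟩ else 0
  have hg : res (gd F).obj (inf_le_left : U ⊓ V ≤ U) g = sec (η F) (U ⊓ V) s := by
    funext (p : (U ⊓ V : Opens X))
    exact dif_pos (show p.1 ∈ V from p.2.2)
  let sf : ∀ b : ULift.{u} Bool, (qt F).obj.obj (op (cond b.down U V)) := fun b =>
    match b with
    | ⟨true⟩ => sec (cokernel.π (η F)) U g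
    | ⟨false⟩ => (0 : (qt F).obj.obj (op V))
  have h0 : res (qt F).obj (inf_le_left : U ⊓ V ≤ U) (sec (cokernel.π (η F)) U g) = 0 := by
    refine (sec_res (cokernel.π (η F)) _ g).trans ?_
    rw [show res (gd F).obj (inf_le_left : U ⊓ V ≤ U) g = sec (η F) (U ⊓ V) s from hg]
    exact sec_g_f (S := gdSeq F) (U ⊓ V) s
  have hmid : ∀ {W : Opens X} (hW : W ≤ U ⊓ V),
      res (qt F).obj (hW.trans inf_le_left) (sec (cokernel.π (η F)) U g) = 0 := fun hW => by
    rw [← res_res (qt F).obj inf_le_left hW, h0, map_zero]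
  have hcov : (⊤ : Opens X) ≤ ⨆ b : ULift.{u} Bool, cond b.down U V := h ▸ sup_le
    (le_iSup (fun b : ULift.{u} Bool => cond b.down U V) ⟨true⟩)
    (le_iSup (fun b : ULift.{u} Bool => cond b.down U V) ⟨false⟩)
  obtain ⟨q, hq, -⟩ := TopCat.Sheaf.existsUnique_gluing' (qt F) (fun b : ULift.{u} Bool => cond b.down U V) ⊤
    (fun b => homOfLE le_top) hcov sf (by
    rintro ⟨i⟩ ⟨j⟩
    cases i <;> cases j
    · rfl
    · refine (map_zero _).trans (Eq.symm ?_)
      exact hmid (W := V ⊓ U) (le_inf inf_le_right inf_le_left)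
    · exact (hmid (W := U ⊓ V) le_rfl).trans (map_zero _).symm
    · rfl)
  obtain ⟨t, ht⟩ : ∃ t : (gd F).obj.obj (op ⊤), sec (cokernel.π (η F)) ⊤ t = q := hlift q
  have ha : sec (cokernel.π (η F)) U (g - res (gd F).obj le_top t) = 0 := by
    rw [map_sub]
    refine sub_eq_zero.mpr ?_
    rw [← sec_res (cokernel.π (η F)) (le_top : U ≤ ⊤) t, ht]
    exact (hq ⟨true⟩).symm
  have hb : sec (cokernel.π (η F)) V (- res (gd F).obj le_top t) = 0 := by
    rw [map_neg]
    refine neg_eq_zero.mpr ?_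
    rw [← sec_res (cokernel.π (η F)) (le_top : V ≤ ⊤) t, ht]
    exact hq ⟨false⟩
  obtain ⟨a, ha⟩ := sec_exact (gdSeq_shortExact F) ha
  obtain ⟨b, hb⟩ := sec_exact (gdSeq_shortExact F) hb
  refine ⟨a, b, η_app_injective F (U ⊓ V) ?_⟩
  change sec (η F) (U ⊓ V) _ = sec (η F) (U ⊓ V) s
  rw [map_sub, ← sec_res, ← sec_res]
  rw [show sec (η F) U a = g - res (gd F).obj le_top t from ha,
    show sec (η F) V b = - res (gd F).obj le_top t from hb, map_sub, map_neg, hg, res_res, res_res]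
  abel

/-- A cocycle on a cover is a coboundary when `H¹` vanishes. -/
theorem exists_sub_eq_family (F : AbSh X) [Subsingleton (Sheaf.H F 1)] {ι : Type u} (U : ι → Opens X)
    (hU : (⊤ : Opens X) ≤ ⨆ i, U i) (c : ∀ i j, F.obj.obj (op (U i ⊓ U j)))
    (hc : ∀ (i j k : ι) (W : Opens X) (hi : W ≤ U i) (hj : W ≤ U j) (hk : W ≤ U k),
      res F.obj (le_inf hi hj) (c i j) + res F.obj (le_inf hj hk) (c j k) =
        res F.obj (le_inf hi hk) (c i k)) :
    ∃ a : ∀ i, F.obj.obj (op (U i)),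
      ∀ i j, res F.obj inf_le_left (a i) - res F.obj inf_le_right (a j) = c i j := by
  classical
  have hlift : Lifts ⊤ F := (subsingleton_H_iff F 0).mp inferInstance
  choose k hk using fun p : X => Opens.mem_iSup.mp (hU (Opens.mem_top p))
  let g : ∀ i, (gd F).obj.obj (op (U i)) := fun i p =>
    (sec (η F) (U i ⊓ U (k p.1)) (c i (k p.1))) ⟨p.1, p.2, hk p.1⟩
  have hg : ∀ i j, res (gd F).obj (inf_le_left : U i ⊓ U j ≤ U i) (g i) -
      res (gd F).obj (inf_le_right : U i ⊓ U j ≤ U j) (g j) = sec (η F) (U i ⊓ U j) (c i j) := by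
    intro i j
    rw [sub_eq_iff_eq_add]
    funext (p : (U i ⊓ U j : Opens X))
    obtain ⟨p, hpi, hpj⟩ := p
    change (sec (η F) (U i ⊓ U (k p)) (c i (k p))) ⟨p, hpi, hk p⟩ =
      (sec (η F) (U i ⊓ U j) (c i j)) ⟨p, hpi, hpj⟩ +
        (sec (η F) (U j ⊓ U (k p)) (c j (k p))) ⟨p, hpj, hk p⟩
    let W := U i ⊓ U j ⊓ U (k p)
    have h1 := congrArg (fun s => (sec (η F) W s) ⟨p, ⟨hpi, hpj⟩, hk p⟩)
      (hc i j (k p) W (inf_le_left.trans inf_le_left) (inf_le_left.trans inf_le_right) inf_le_right)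
    simp only [map_add, ← sec_res] at h1
    exact h1.symm
  obtain ⟨q, hq, -⟩ := TopCat.Sheaf.existsUnique_gluing' (qt F) U ⊤ (fun i => homOfLE le_top) hU
    (fun i => sec (cokernel.π (η F)) (U i) (g i)) (fun i j => by
      refine sub_eq_zero.mp ?_
      change res (qt F).obj (inf_le_left : U i ⊓ U j ≤ U i) (sec (cokernel.π (η F)) (U i) (g i)) -
        res (qt F).obj (inf_le_right : U i ⊓ U j ≤ U j) (sec (cokernel.π (η F)) (U j) (g j)) = 0
      rw [sec_res, sec_res, ← map_sub, hg]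
      exact sec_g_f (S := gdSeq F) _ _)
  obtain ⟨t, ht⟩ : ∃ t : (gd F).obj.obj (op ⊤), sec (cokernel.π (η F)) ⊤ t = q := hlift q
  have ha : ∀ i, sec (cokernel.π (η F)) (U i) (g i - res (gd F).obj le_top t) = 0 := fun i => by
    rw [map_sub]
    refine sub_eq_zero.mpr ?_
    rw [← sec_res (cokernel.π (η F)) (le_top : U i ≤ ⊤) t, ht]
    exact (hq i).symm
  choose a ha using fun i => sec_exact (gdSeq_shortExact F) (ha i)
  refine ⟨a, fun i j => η_app_injective F _ ?_⟩
  change sec (η F) _ _ = sec (η F) _ (c i j)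
  rw [map_sub, ← sec_res, ← sec_res, show sec (η F) (U i) (a i) = g i - res (gd F).obj le_top t from ha i,
    show sec (η F) (U j) (a j) = g j - res (gd F).obj le_top t from ha j, map_sub, map_sub, res_res,
    res_res, ← hg]
  abel

end Groth.Agent.Props.MayerVietoris
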