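import Mathlib.AlgebraicGeometry.AffineSpace
import Mathlib.AlgebraicGeometry.QuasiAffine
import Mathlib.AlgebraicGeometry.Morphisms.Immersion
import Mathlib.AlgebraicGeometry.Morphisms.FiniteType
import Mathlib.AlgebraicGeometry.Morphisms.QuasiSeparated

/-!
# Quasi-affine schemes of finite type embed in affine space over the base
-/

set_option autoImplicit false

universe u

open CategoryTheory Limits AlgebraicGeometry Opposite TopologicalSpace

noncomputable section

namespace Groth.Agent.Props.QAEmbed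

/-- A morphism is an immersion if it restricts to closed immersions over opens whose preimages cover. -/
theorem isImmersion_of_cover {X Y : Scheme.{u}} (f : X ⟶ Y) {ι : Type*} (U : ι → Y.Opens)
    (H : Set.range f ⊆ (⨆ i, U i : Y.Opens)) (hf : ∀ i, IsClosedImmersion (f ∣_ U i)) :
    IsImmersion f := by
  have : MorphismProperty.RespectsRight @IsImmersion @IsOpenImmersion :=
    ⟨fun i (_ : IsOpenImmersion i) g (_ : IsImmersion g) => inferInstanceAs (IsImmersion (g ≫ i))⟩
  exact IsZariskiLocalAtTarget.of_range_subset_iSup (P := @IsImmersion) U H fun i =>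
    have := hf i; inferInstance

/-- Restriction to an affine open with affine preimage and surjective map on sections. -/
theorem isClosedImmersion_restrict {X Y : Scheme.{u}} (f : X ⟶ Y) {D : Y.Opens} (hD : IsAffineOpen D)
    (hD' : IsAffineOpen (f ⁻¹ᵁ D)) (h : Function.Surjective (f.app D)) :
    IsClosedImmersion (f ∣_ D) := by
  have : IsAffine D.toScheme := hD
  have : IsAffine (f ⁻¹ᵁ D).toScheme := hD'
  refine IsClosedImmersion.of_surjective_of_isAffine _ ?_
  rw [morphismRestrict_appTop]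
  intro y
  obtain ⟨z, hz⟩ := (ConcreteCategory.bijective_of_isIso
    (X.presheaf.map (eqToHom (image_morphismRestrict_preimage f D ⊤)).op)).2 y
  have key : ∀ W : Y.Opens, W = D → Function.Surjective (f.app W) := fun W hW => hW ▸ h
  obtain ⟨w, hw⟩ := key (D.ι ''ᵁ ⊤) D.ι_image_top z
  exact ⟨w, (congrArg _ hw).trans hz⟩

theorem main {X S : Scheme.{u}} (π : X ⟶ S) [LocallyOfFiniteType π] [X.IsQuasiAffine] :
    ∃ (n : ℕ) (i : X ⟶ 𝔸(ULift.{u} (Fin n); S)),
      IsImmersion i ∧ i ≫ (𝔸(ULift.{u} (Fin n); S) ↘ S) = π := by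
  classical
  -- adapted pieces
  have hloc : ∀ x : X, ∃ (f : Γ(X, ⊤)) (V : S.Opens), IsAffineOpen (X.basicOpen f) ∧ IsAffineOpen V ∧
      x ∈ X.basicOpen f ∧ X.basicOpen f ≤ π ⁻¹ᵁ V := by
    intro x
    obtain ⟨V, hV, hxV, -⟩ := exists_isAffineOpen_mem_and_subset (U := (⊤ : S.Opens)) (x := π x) trivial
    obtain ⟨_, ⟨r, hr, rfl⟩, hxr, hrV⟩ := Opens.isBasis_iff_nbhd.mp
      (Scheme.IsQuasiAffine.isBasis_basicOpen X) (U := π ⁻¹ᵁ V) (x := x) hxV
    exact ⟨r, V, hr, hV, hxr, hrV⟩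
  choose f V hf hV hxf hfV using hloc
  obtain ⟨F, hF⟩ := isCompact_univ.elim_finite_subcover (fun x : X => (X.basicOpen (f x) : Set X))
    (fun x => (X.basicOpen (f x)).2) fun x _ => Set.mem_iUnion.mpr ⟨x, hxf x⟩
  -- numerators of generators
  have hgens : ∀ x : X, ∃ (A : Finset Γ(X, ⊤)),
      ∀ T : Subring Γ(X, X.basicOpen (f x)),
        (∀ r, π.appLE (V x) (X.basicOpen (f x)) (hfV x) r ∈ T) →
        (∀ a ∈ A, X.presheaf.map (homOfLE le_top).op a ∈ T) →
        (∀ u : Γ(X, X.basicOpen (f x)),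
          u * X.presheaf.map (homOfLE le_top).op (f x) = 1 → u ∈ T) → T = ⊤ := by
    intro x
    algebraize [(π.appLE (V x) (X.basicOpen (f x)) (hfV x)).hom]
    have hft : Algebra.FiniteType Γ(S, V x) Γ(X, X.basicOpen (f x)) :=
      π.finiteType_appLE (hV x) (hf x) (hfV x)
    obtain ⟨G, hG⟩ := hft.out
    have := isLocalization_basicOpen_of_qcqs (X := X) (U := ⊤) CompactSpace.isCompact_univ
      isQuasiSeparated_univ (f x)
    choose c hc using fun g : Γ(X, X.basicOpen (f x)) =>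
      IsLocalization.surj (Submonoid.powers (f x)) g
    refine ⟨G.image fun g => (c g).1, fun T hT hA hu => eq_top_iff.mpr fun y _ => ?_⟩
    have hy : y ∈ Algebra.adjoin Γ(S, V x) (G : Set Γ(X, X.basicOpen (f x))) := hG ▸ trivial
    induction hy using Algebra.adjoin_induction with
    | algebraMap r => exact hT r
    | add a b _ _ ha hb => exact add_mem (ha trivial) (hb trivial)
    | mul a b _ _ ha hb => exact mul_mem (ha trivial) (hb trivial)
    | mem g hg =>
      obtain ⟨m, hm⟩ := (c g).2.2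
      obtain ⟨u, hu'⟩ : ∃ u : Γ(X, X.basicOpen (f x)),
          u * X.presheaf.map (homOfLE le_top).op (f x) = 1 := isUnit_iff_exists_inv'.mp
        (RingedSpace.isUnit_res_basicOpen X.toRingedSpace (f x))
      have hg' : g = X.presheaf.map (homOfLE le_top).op (c g).1 * u ^ m := by
        have h1 : g * X.presheaf.map (homOfLE le_top).op ((c g).2 : Γ(X, ⊤)) =
            X.presheaf.map (homOfLE le_top).op (c g).1 := hc g
        rw [← hm] at h1
        simp only [map_pow] at h1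
        rw [← h1, mul_assoc, ← mul_pow, mul_comm _ u]
        exact ((congrArg (fun z => g * z ^ m) hu').trans (by rw [one_pow, mul_one])).symm
      rw [hg']
      exact mul_mem (hA _ (Finset.mem_image_of_mem _ hg)) (pow_mem (hu u hu') m)
  choose A hA using hgens
  let κ := F ⊕ (Σ x : F, A x.1)
  let e := Fintype.equivFin κ
  let N := Fintype.card κ
  let w : κ → Γ(X, ⊤) := Sum.elim (fun x => f x.1) (fun p => p.2.1)
  let v : ULift.{u} (Fin N) → Γ(X, ⊤) := fun k => w (e.symm k.down)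
  let i := AffineSpace.homOfVector π v
  let q := 𝔸(ULift.{u} (Fin N); S) ↘ S
  have hiq : i ≫ q = π := AffineSpace.homOfVector_over _ _
  let T : κ → Γ(𝔸(ULift.{u} (Fin N); S), ⊤) := fun k => AffineSpace.coord S ⟨e k⟩
  have hT : ∀ k, i.appTop (T k) = w k := fun k =>
    (AffineSpace.homOfVector_appTop_coord π v ⟨e k⟩).trans (congrArg w (e.symm_apply_apply k))
  refine ⟨N, i, ?_, hiq⟩
  let D : F → (𝔸(ULift.{u} (Fin N); S)).Opens := fun x =>
    q ⁻¹ᵁ V x.1 ⊓ (𝔸(ULift.{u} (Fin N); S)).basicOpen (T (Sum.inl x))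
  have hpre : ∀ x, i ⁻¹ᵁ D x = X.basicOpen (f x.1) := fun x => by
    simp only [D, Scheme.Hom.preimage_inf, Scheme.preimage_basicOpen_top, hT,
      ← Scheme.Hom.comp_preimage, hiq]
    exact inf_eq_right.mpr (hfV x.1)
  refine isImmersion_of_cover i D ?_ fun x => ?_
  · rintro _ ⟨y, rfl⟩
    obtain ⟨x, hx, hxy⟩ := Set.mem_iUnion₂.mp (hF (Set.mem_univ y))
    have : y ∈ i ⁻¹ᵁ D ⟨x, hx⟩ := (hpre ⟨x, hx⟩).ge hxy
    exact Opens.mem_iSup.mpr ⟨⟨x, hx⟩, this⟩
  have hDaff : IsAffineOpen (D x) := by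
    have h0 : IsAffineOpen (q ⁻¹ᵁ V x.1) := (hV x.1).preimage q
    have := h0.basicOpen ((𝔸(ULift.{u} (Fin N); S)).presheaf.map (homOfLE le_top).op (T (Sum.inl x)))
    rwa [Scheme.basicOpen_res] at this
  refine isClosedImmersion_restrict i hDaff ((hpre x).symm ▸ hf x.1) ?_
  -- surjectivity
  let φ : Γ(𝔸(ULift.{u} (Fin N); S), D x) →+* Γ(X, X.basicOpen (f x.1)) :=
    (i.appLE (D x) (X.basicOpen (f x.1)) (hpre x).ge).hom
  suffices hφ : φ.range = ⊤ by
    intro y
    obtain ⟨z, hz⟩ : X.presheaf.map (eqToHom (hpre x).symm).op y ∈ φ.range := hφ ▸ trivial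
    refine ⟨z, (ConcreteCategory.bijective_of_isIso (X.presheaf.map (eqToHom (hpre x).symm).op)).1 ?_⟩
    exact hz
  have htop : ∀ t, φ ((𝔸(ULift.{u} (Fin N); S)).presheaf.map (homOfLE le_top).op t) =
      X.presheaf.map (homOfLE le_top).op (i.appTop t) := fun t => by
    change ((𝔸(ULift.{u} (Fin N); S)).presheaf.map (homOfLE le_top).op ≫ i.appLE (D x) _ _) t =
      (i.app ⊤ ≫ X.presheaf.map (homOfLE le_top).op) t
    rw [Scheme.Hom.app_eq_appLE, Scheme.Hom.map_appLE, Scheme.Hom.appLE_map]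
  refine hA x.1 _ (fun r => ?_) (fun a ha => ?_) fun u hu => ?_
  · refine ⟨q.appLE (V x.1) (D x) inf_le_left r, ?_⟩
    change (q.appLE (V x.1) (D x) _ ≫ i.appLE (D x) _ _) r = _
    rw [Scheme.Hom.appLE_comp_appLE]
    simp only [hiq]
  · refine ⟨_, (htop (T (Sum.inr ⟨x, a, ha⟩))).trans ?_⟩
    rw [hT]
    rfl
  · obtain ⟨d, hd⟩ := isUnit_iff_exists_inv'.mp
      (show IsUnit ((𝔸(ULift.{u} (Fin N); S)).presheaf.map
        (homOfLE (le_top : D x ≤ ⊤)).op (T (Sum.inl x))) from by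
        have h0 : IsUnit ((𝔸(ULift.{u} (Fin N); S)).presheaf.map
            (homOfLE (le_top : (𝔸(ULift.{u} (Fin N); S)).basicOpen (T (Sum.inl x)) ≤ ⊤)).op (T (Sum.inl x))) :=
          RingedSpace.isUnit_res_basicOpen (𝔸(ULift.{u} (Fin N); S)).toRingedSpace (T (Sum.inl x))
        have h1 := h0.map ((𝔸(ULift.{u} (Fin N); S)).presheaf.map
            (homOfLE (inf_le_right : D x ≤ (𝔸(ULift.{u} (Fin N); S)).basicOpen (T (Sum.inl x)))).op).hom
        exact (DFunLike.congr_fun (congrArg CommRingCat.Hom.hom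
          ((𝔸(ULift.{u} (Fin N); S)).presheaf.map_comp _ _)) _).symm ▸ h1)
    refine ⟨d, ?_⟩
    have h2 := congrArg φ hd
    rw [map_mul, map_one, htop, hT] at h2
    exact (left_inv_eq_right_inv h2 (by rw [mul_comm]; exact hu)).trans rfl

end Groth.Agent.Props.QAEmbed

end
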