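import Mathlib.AlgebraicGeometry.QuasiAffine

/-!
# Quasi-affine schemes: basic opens in the spectrum of global sections
-/

universe u

open CategoryTheory Limits AlgebraicGeometry TopologicalSpace

noncomputable section

namespace Groth.Agent.Props.QAff

variable {X : Scheme.{u}}

/-- An affine basic open of global sections fills the basic open of the spectrum. -/
theorem basicOpen_le_opensRange [X.IsQuasiAffine] (r : Γ(X, ⊤))
    (hr : IsAffineOpen (X.basicOpen r)) :
    (PrimeSpectrum.basicOpen r : (Spec Γ(X, ⊤)).Opens) ≤ X.toSpecΓ.opensRange := by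
  intro q hq
  have := isLocalization_basicOpen_of_qcqs isCompact_univ isQuasiSeparated_univ r
  have hq' : q ∈ Set.range (Spec.map (X.presheaf.map (homOfLE (le_top : X.basicOpen r ≤ ⊤)).op)) :=
    (PrimeSpectrum.localization_away_comap_range Γ(X, X.basicOpen r) r).ge hq
  obtain ⟨p, rfl⟩ := hq'
  refine ⟨(X.basicOpen r).ι (hr.isoSpec.inv p), ?_⟩
  change ((X.basicOpen r).ι ≫ X.toSpecΓ) (hr.isoSpec.inv p) = _
  rw [← Scheme.Opens.toSpecΓ_SpecMap_presheaf_map_top]
  simp only [Scheme.Hom.comp_apply, ← hr.isoSpec_hom]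
  congr 1
  rw [← Scheme.Hom.comp_apply, Iso.inv_hom_id]
  rfl

end Groth.Agent.Props.QAff

end
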