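import Mathlib.Topology.Separation.Hausdorff
import Mathlib.Topology.Separation.Regular
import Mathlib.Data.Fintype.Pi

/-!
# Shrinking open covers of compact subsets
-/

set_option autoImplicit false

namespace Groth.Agent.Props.Shrink

universe u v

variable {X : Type u} [TopologicalSpace X] {ι : Type v}

theorem separatedNhds_of_pointwise {K L : Set X} (hK : IsCompact K) (hL : IsCompact L)
    (h : ∀ a ∈ K, ∀ b ∈ L, ∃ A B : Set X, IsOpen A ∧ IsOpen B ∧ a ∈ A ∧ b ∈ B ∧ Disjoint A B) :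
    SeparatedNhds K L := by
  refine hK.induction_on (p := fun K => SeparatedNhds K L) (SeparatedNhds.empty_left _)
    (fun s t hst ht => ht.mono hst subset_rfl) (fun s t hs ht => hs.union_left ht) fun a ha => ?_
  have ha' : SeparatedNhds {a} L := by
    refine hL.induction_on (p := fun L => SeparatedNhds {a} L) (SeparatedNhds.empty_right _)
      (fun s t hst ht => ht.mono subset_rfl hst) (fun s t hs ht => hs.union_right ht) fun b hb => ?_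
    obtain ⟨A, B, hA, hB, haA, hbB, hd⟩ := h a ha b hb
    exact ⟨B, mem_nhdsWithin_of_mem_nhds (hB.mem_nhds hbB), A, B, hA, hB,
      Set.singleton_subset_iff.mpr haA, subset_rfl, hd⟩
  obtain ⟨A, B, hA, hB, haA, hLB, hd⟩ := ha'
  exact ⟨A, mem_nhdsWithin_of_mem_nhds (hA.mem_nhds (haA rfl)), A, B, hA, hB, subset_rfl, hLB, hd⟩

/-- shrink a cover, points of `Z` separated in `X` -/
theorem shrink (Z : Set X) (hZ : IsCompact Z)
    (hZsep : ∀ z ∈ Z, ∀ z' ∈ Z, z ≠ z' →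
      ∃ A B : Set X, IsOpen A ∧ IsOpen B ∧ z ∈ A ∧ z' ∈ B ∧ Disjoint A B)
    (U : ι → Set X) (hU : ∀ i, IsOpen (U i)) (hcov : Z ⊆ ⋃ i, U i) :
    ∃ (s : {s : Finset ι // True}) (V : {V : ι → Set X // ∀ i ∉ s.1, V i = ∅}),
      (∀ i, IsOpen (V.1 i)) ∧ Z ⊆ ⋃ i, V.1 i ∧ (∀ i, V.1 i ⊆ U i) ∧
      (∀ i, closure (V.1 i) ∩ Z ⊆ U i) := by
  classical
  have hloc : ∀ z : Z, ∃ i, ∃ O : Set X, IsOpen O ∧ z.1 ∈ O ∧ O ⊆ U i ∧ closure O ∩ Z ⊆ U i := by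
    rintro ⟨z, hz⟩
    obtain ⟨i, hi⟩ := Set.mem_iUnion.mp (hcov hz)
    obtain ⟨A, B, hA, hB, hzA, hLB, hd⟩ := separatedNhds_of_pointwise (K := {z})
      (L := Z ∩ (U i)ᶜ) isCompact_singleton (hZ.inter_right (hU i).isClosed_compl)
      fun a ha b hb => hZsep a (ha ▸ hz) b hb.1 fun e => hb.2 (e ▸ ha.symm ▸ hi)
    refine ⟨i, A ∩ U i, hA.inter (hU i), ⟨hzA rfl, hi⟩, Set.inter_subset_right, ?_⟩
    rintro y ⟨hy, hyZ⟩
    by_contra hyU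
    obtain ⟨w, hwB, hwA, -⟩ := mem_closure_iff.mp hy B hB (hLB ⟨hyZ, hyU⟩)
    exact hd.le_bot ⟨hwA, hwB⟩
  choose f O hOo hzO hOU hOcl using hloc
  obtain ⟨t, ht2⟩ := hZ.elim_finite_subcover O hOo
    (fun z hz => Set.mem_iUnion.mpr ⟨⟨z, hz⟩, hzO ⟨z, hz⟩⟩)
  refine ⟨⟨t.image f, trivial⟩,
    ⟨fun i => ⋃ z ∈ {z | z ∈ t ∧ f z = i}, O z, fun i hi => ?_⟩,
    fun i => ?_, fun z hz => ?_, fun i => ?_, fun i => ?_⟩
  · refine Set.eq_empty_iff_forall_notMem.mpr fun y hy => hi ?_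
    obtain ⟨z, hz, -⟩ := Set.mem_iUnion₂.mp hy
    exact Finset.mem_image.mpr ⟨z, hz.1, hz.2⟩
  · exact isOpen_biUnion fun z hz => hOo z
  · obtain ⟨w, hw, hzw⟩ := Set.mem_iUnion₂.mp (ht2 hz)
    exact Set.mem_iUnion.mpr ⟨f w, Set.mem_biUnion (x := w) ⟨hw, rfl⟩ hzw⟩
  · exact Set.iUnion₂_subset fun z hz => hz.2 ▸ hOU z
  · dsimp only
    rw [(t.finite_toSet.subset (t := {z | z ∈ t ∧ f z = i}) fun z hz => hz.1).closure_biUnion]
    rintro y ⟨hy, hyZ⟩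
    obtain ⟨z, hz, hyz⟩ := Set.mem_iUnion₂.mp hy
    exact hz.2 ▸ hOcl z ⟨hyz, hyZ⟩

/-- shrink a cover in a locally compact Hausdorff space -/
theorem shrink_compact [T2Space X] [LocallyCompactSpace X] (Z : Set X) (hZ : IsCompact Z)
    (U : ι → Set X) (hU : ∀ i, IsOpen (U i)) (hcov : Z ⊆ ⋃ i, U i) :
    ∃ (s : Finset ι) (V : ι → Set X), (∀ i, IsOpen (V i)) ∧ Z ⊆ ⋃ i, V i ∧
      (∀ i ∉ s, V i = ∅) ∧ (∀ i, closure (V i) ⊆ U i) := by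
  classical
  have hloc : ∀ z : Z, ∃ i, ∃ O : Set X, IsOpen O ∧ z.1 ∈ O ∧ closure O ⊆ U i := by
    rintro ⟨z, hz⟩
    obtain ⟨i, hi⟩ := Set.mem_iUnion.mp (hcov hz)
    obtain ⟨K, hK, hKi, hKc⟩ := local_compact_nhds ((hU i).mem_nhds hi)
    exact ⟨i, interior K, isOpen_interior, mem_interior_iff_mem_nhds.mpr hK,
      (closure_minimal interior_subset hKc.isClosed).trans hKi⟩
  choose f O hOo hzO hOcl using hloc
  obtain ⟨t, ht2⟩ := hZ.elim_finite_subcover O hOo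
    (fun z hz => Set.mem_iUnion.mpr ⟨⟨z, hz⟩, hzO ⟨z, hz⟩⟩)
  refine ⟨t.image f, fun i => ⋃ z ∈ {z | z ∈ t ∧ f z = i}, O z, fun i => ?_,
    fun z hz => ?_, fun i hi => ?_, fun i => ?_⟩
  · exact isOpen_biUnion fun z hz => hOo z
  · obtain ⟨w, hw, hzw⟩ := Set.mem_iUnion₂.mp (ht2 hz)
    exact Set.mem_iUnion.mpr ⟨f w, Set.mem_biUnion (x := w) ⟨hw, rfl⟩ hzw⟩
  · refine Set.eq_empty_iff_forall_notMem.mpr fun y hy => hi ?_
    obtain ⟨z, hz, -⟩ := Set.mem_iUnion₂.mp hy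
    exact Finset.mem_image.mpr ⟨z, hz.1, hz.2⟩
  · dsimp only
    rw [(t.finite_toSet.subset (t := {z | z ∈ t ∧ f z = i}) fun z hz => hz.1).closure_biUnion]
    exact Set.iUnion₂_subset fun z hz => hz.2 ▸ hOcl z

/-- cut a shrinking down so that intersections of tuples land in prescribed opens -/
theorem refine_tuples (Z : Set X) (U : ι → Set X) (s : Finset ι) (V : ι → Set X)
    (hs : ∀ i ∉ s, V i = ∅) (hcl : ∀ i, closure (V i) ∩ Z ⊆ U i) {p : ℕ}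
    (W : (Fin (p + 1) → ι) → Set X) (hWo : ∀ t, IsOpen (W t))
    (hWZ : ∀ t, W t ∩ Z = (⋂ l, U (t l)) ∩ Z) :
    ∃ N : Set X, IsOpen N ∧ Z ⊆ N ∧ ∀ t : Fin (p + 1) → ι, (⋂ l, V (t l) ∩ N) ⊆ W t := by
  classical
  let O : Z → Set X := fun z => (⋂ i ∈ {i ∈ (s : Set ι) | z.1 ∉ U i}, (closure (V i))ᶜ) ∩
    ⋂ u ∈ {u : Fin (p + 1) → s | ∀ l, z.1 ∈ U (u l)}, W fun l => (u l : ι)
  refine ⟨⋃ z, O z, isOpen_iUnion fun z => ((s.finite_toSet.subset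
    (Set.sep_subset _ _)).isOpen_biInter fun i _ => isClosed_closure.isOpen_compl).inter
    ((Set.toFinite _).isOpen_biInter fun u _ => hWo _), fun z hz => Set.mem_iUnion.mpr ⟨⟨z, hz⟩,
    Set.mem_iInter₂.mpr fun i hi hc => hi.2 (hcl i ⟨hc, hz⟩), Set.mem_iInter₂.mpr fun u hu => ?_⟩,
    fun t y hy => ?_⟩
  · exact ((hWZ fun l => (u l : ι)).symm ▸
      (⟨Set.mem_iInter.mpr hu, hz⟩ : z ∈ (⋂ l, U (u l)) ∩ Z) : z ∈ (W fun l => (u l : ι)) ∩ Z).1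
  · rw [Set.mem_iInter] at hy
    have hts : ∀ l, t l ∈ s := fun l => by
      by_contra h
      exact Set.notMem_empty y (hs _ h ▸ (hy l).1)
    obtain ⟨z, hz1, hz2⟩ := Set.mem_iUnion.mp (hy 0).2
    have hzU : ∀ l, z.1 ∈ U (t l) := fun l => by
      by_contra h
      exact Set.mem_iInter₂.mp hz1 (t l) ⟨hts l, h⟩ (subset_closure (hy l).1)
    exact Set.mem_iInter₂.mp hz2 (fun l => ⟨t l, hts l⟩) hzU

end Groth.Agent.Props.Shrink
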