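import Mathlib.AlgebraicGeometry.AffineScheme
import Mathlib.AlgebraicGeometry.Stalk
import Mathlib.RingTheory.Localization.LocalizationLocalization
import Mathlib.RingTheory.Localization.Ideal

/-!
# Stalks at generalisations are localisations
-/

set_option autoImplicit false

namespace Groth.Agent.Props.StalkLoc

open AlgebraicGeometry

universe u

variable {X : Scheme.{u}}

/-- If `x ⤳ c`, the stalk at `x` is a localisation of the stalk at `c` at a prime. -/
theorem exists_prime_equiv {x c : X} (h : x ⤳ c) :
    ∃ (P : Ideal (X.presheaf.stalk c)) (_ : P.IsPrime),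
      Nonempty (Localization.AtPrime P ≃+* X.presheaf.stalk x) := by
  obtain ⟨_, ⟨U, hU, rfl⟩, hcU, -⟩ :=
    X.isBasis_affineOpens.exists_subset_of_mem_open (Set.mem_univ c) isOpen_univ
  have hxU : x ∈ U := h.mem_open U.2 hcU
  letI := TopCat.Presheaf.algebra_section_stalk X.presheaf ⟨x, hxU⟩
  letI := TopCat.Presheaf.algebra_section_stalk X.presheaf ⟨c, hcU⟩
  haveI := hU.isLocalization_stalk ⟨x, hxU⟩
  haveI := hU.isLocalization_stalk ⟨c, hcU⟩
  set p := (hU.primeIdealOf ⟨x, hxU⟩).asIdeal
  set q := (hU.primeIdealOf ⟨c, hcU⟩).asIdeal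
  have hpq : p ≤ q := by
    refine (PrimeSpectrum.le_iff_specializes _ _).mpr ?_
    have he := (IsAffineOpen.isOpenImmersion_fromSpec hU).base_open.isEmbedding.isInducing
    refine he.specializes_iff.mp ?_
    convert! h
    · exact hU.fromSpec_primeIdealOf ⟨x, hxU⟩
    · exact hU.fromSpec_primeIdealOf ⟨c, hcU⟩
  let P := p.map (algebraMap Γ(X, U) (X.presheaf.stalk c))
  have hdisj : Disjoint (q.primeCompl : Set Γ(X, U)) p :=
    Set.disjoint_left.mpr fun a ha hap => ha (hpq hap)
  haveI hP : P.IsPrime :=
    IsLocalization.isPrime_of_isPrime_disjoint q.primeCompl _ p inferInstance hdisj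
  refine ⟨P, hP, ?_⟩
  haveI : IsLocalization.AtPrime (Localization.AtPrime P) (P.comap (algebraMap Γ(X, U) _)) :=
    IsLocalization.isLocalization_isLocalization_atPrime_isLocalization q.primeCompl _ P
  have hPp : P.comap (algebraMap Γ(X, U) (X.presheaf.stalk c)) = p :=
    IsLocalization.under_map_of_isPrime_disjoint q.primeCompl _ inferInstance hdisj
  have : IsLocalization p.primeCompl (Localization.AtPrime P) := by
    convert! ‹IsLocalization.AtPrime (Localization.AtPrime P) (P.comap (algebraMap Γ(X, U) _))› using 2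
    exact hPp.symm
  exact ⟨(IsLocalization.algEquiv p.primeCompl (Localization.AtPrime P)
    (X.presheaf.stalk x)).toRingEquiv⟩

end Groth.Agent.Props.StalkLoc
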