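import Groth.Agent.Props.QStalk
import Mathlib.Topology.Sober
import Mathlib.AlgebraicGeometry.Morphisms.QuasiSeparated

/-!
# Finite type quasi-coherent submodules, described by their stalks

A family `S x ≤ M_x` is finitely generated on `U` (`FTOn`) if locally on `U` it is spanned by the germs
of finitely many sections. Such a family extends from a compact open to the whole of a qcqs scheme
(`exists_global`).
-/

universe u

open CategoryTheory Limits AlgebraicGeometry Opposite TopologicalSpace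

noncomputable section

namespace Groth.Agent.Props.SubMod

open Groth.Agent.QCoh Groth.Agent.Props.QStalk Groth.Agent.PullStalk.Sky

variable {X : Scheme.{u}} (M : X.Modules)

/-- A submodule of each stalk. -/
abbrev StalkSub : Type u := ∀ x : X, Submodule (X.presheaf.stalk x) (M.presheaf.stalk x)

variable {M}

/-- The submodule of the stalk spanned by germs of sections. -/
def spanGerm {V : X.Opens} (s : Set Γ(M, V)) (y : X) (hy : y ∈ V) :
    Submodule (X.presheaf.stalk y) (M.presheaf.stalk y) :=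
  Submodule.span _ ((fun m => germM M V y hy m) '' s)

/-- The family is spanned on `V` by the germs of `s`. -/
def GenBy (S : StalkSub M) (V : X.Opens) (s : Set Γ(M, V)) : Prop :=
  ∀ (y : X) (hy : y ∈ V), S y = spanGerm s y hy

/-- Finitely generated on `U`. -/
def FTOn (S : StalkSub M) (U : X.Opens) : Prop :=
  ∀ x ∈ U, ∃ V : X.Opens, IsAffineOpen V ∧ x ∈ V ∧ V ≤ U ∧ ∃ s : Finset Γ(M, V), GenBy S V s

lemma spanGerm_res {V V' : X.Opens} (h : V' ≤ V) (s : Set Γ(M, V)) (y : X) (hy : y ∈ V') :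
    spanGerm (res M h '' s) y hy = spanGerm s y (h hy) := by
  rw [spanGerm, spanGerm, Set.image_image]
  congr 1
  refine Set.image_congr fun m _ => ?_
  exact M.presheaf.germ_res_apply (homOfLE h) y hy m

lemma GenBy.restrict {S : StalkSub M} {V V' : X.Opens} {s : Set Γ(M, V)} (H : GenBy S V s)
    (h : V' ≤ V) : GenBy S V' (res M h '' s) := fun y hy => by
  rw [spanGerm_res, H y (h hy)]

lemma germ_mem_spanGerm_of_mem_span {V : X.Opens} {s : Set Γ(M, V)} {m : Γ(M, V)}
    (hm : m ∈ Submodule.span Γ(X, V) s) (y : X) (hy : y ∈ V) :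
    germM M V y hy m ∈ spanGerm s y hy := by
  induction hm using Submodule.span_induction with
  | mem z hz => exact Submodule.subset_span ⟨z, hz, rfl⟩
  | zero =>
    change M.presheaf.germ V y hy 0 ∈ spanGerm s y hy
    simp only [map_zero, zero_mem]
  | add a b _ _ ha hb =>
    change M.presheaf.germ V y hy (a + b) ∈ spanGerm s y hy
    simp only [map_add]
    exact add_mem ha hb
  | smul r a _ ha =>
    exact (germM_smul M V y hy r a).symm ▸ Submodule.smul_mem _ _ ha

lemma isUnit_germ {V : X.Opens} {a : Γ(X, V)} {y : X} (hy : y ∈ X.basicOpen a) :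
    IsUnit (X.presheaf.germ V y (X.basicOpen_le a hy) a) :=
  (X.mem_basicOpen a y (X.basicOpen_le a hy)).mp hy

variable [M.IsQuasicoherent]

/-- A germ in the span of germs comes from the span, up to a factor invertible at the point. -/
theorem exists_smul_mem_span {V : X.Opens} (hV : IsAffineOpen V) {s : Set Γ(M, V)} {m : Γ(M, V)}
    {y : X} (hy : y ∈ V) (hm : germM M V y hy m ∈ spanGerm s y hy) :
    ∃ a : Γ(X, V), y ∈ X.basicOpen a ∧ a • m ∈ Submodule.span Γ(X, V) s := by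
  let _ := moduleSections M hy
  let _ := X.presheaf.algebra_section_stalk ⟨y, hy⟩
  have : IsScalarTower Γ(X, V) (X.presheaf.stalk y) (M.presheaf.stalk y) :=
    IsScalarTower.of_algebraMap_smul fun _ _ ↦ rfl
  have hL := isLocalizedModule_germLin M hy hV
  have hA : IsLocalization.AtPrime (X.presheaf.stalk y) (hV.primeIdealOf ⟨y, hy⟩).asIdeal :=
    hV.isLocalization_stalk ⟨y, hy⟩
  let P := (hV.primeIdealOf ⟨y, hy⟩).asIdeal.primeCompl
  have key : ∀ t ∈ spanGerm s y hy, ∃ a ∈ P, ∃ v ∈ Submodule.span Γ(X, V) s,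
      a • t = germLin M hy v := by
    intro t ht
    induction ht using Submodule.span_induction with
    | mem z hz =>
      obtain ⟨v, hv, rfl⟩ := hz
      exact ⟨1, one_mem P, v, Submodule.subset_span hv, one_smul _ _⟩
    | zero => exact ⟨1, one_mem P, 0, zero_mem _, by simp⟩
    | add a b _ _ ha hb =>
      obtain ⟨p, hp, v, hv, e⟩ := ha
      obtain ⟨q, hq, w, hw, e'⟩ := hb
      refine ⟨p * q, mul_mem hp hq, q • v + p • w,
        add_mem (Submodule.smul_mem _ _ hv) (Submodule.smul_mem _ _ hw), ?_⟩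
      rw [smul_add, map_add, map_smul, map_smul, ← e, ← e', smul_smul, smul_smul, mul_comm p q]
    | smul c a _ ha =>
      obtain ⟨p, hp, v, hv, e⟩ := ha
      obtain ⟨⟨r, q⟩, hr⟩ := IsLocalization.surj P c
      refine ⟨q.1 * p, mul_mem q.2 hp, r • v, Submodule.smul_mem _ _ hv, ?_⟩
      rw [map_smul, ← e, mul_smul, smul_comm p c a, ← algebraMap_smul (X.presheaf.stalk y) q.1,
        smul_smul, mul_comm _ c, hr, algebraMap_smul]
  obtain ⟨a, ha, v, hv, e⟩ := key _ hm
  change a • germLin M hy m = _ at e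
  rw [← map_smul] at e
  obtain ⟨c, hc⟩ := IsLocalizedModule.exists_of_eq (S := P) e
  refine ⟨c.1 * a, (X.mem_basicOpen _ y hy).mpr
    ((IsLocalization.AtPrime.isUnit_to_map_iff (X.presheaf.stalk y)
      (hV.primeIdealOf ⟨y, hy⟩).asIdeal _).mpr (mul_mem c.2 ha)), ?_⟩
  rw [mul_smul, ← Submonoid.smul_def, hc]
  exact Submodule.smul_mem _ _ hv

/-- A section with germs in the span over `D(h)` lands in the span after a power of `h`. -/
theorem exists_pow_smul_mem_span {V : X.Opens} (hV : IsAffineOpen V) {s : Set Γ(M, V)}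
    {m : Γ(M, V)} (h : Γ(X, V))
    (hm : ∀ (y : X) (hy : y ∈ X.basicOpen h),
      germM M V y (X.basicOpen_le h hy) m ∈ spanGerm s y (X.basicOpen_le h hy)) :
    ∃ n : ℕ, h ^ n • m ∈ Submodule.span Γ(X, V) s := by
  let I : Ideal Γ(X, V) := (Submodule.span Γ(X, V) s).colon {m}
  suffices h ∈ I.radical by
    obtain ⟨n, hn⟩ := this
    exact ⟨n, Submodule.mem_colon_singleton.mp hn⟩
  rw [Ideal.radical_eq_sInf, Ideal.mem_sInf]
  rintro p ⟨hIp, hp⟩
  by_contra hhp
  let q : Spec Γ(X, V) := ⟨p, hp⟩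
  have hqV : hV.fromSpec q ∈ V := hV.range_fromSpec.le ⟨q, rfl⟩
  have hqeq : hV.primeIdealOf ⟨hV.fromSpec q, hqV⟩ = q := by
    apply hV.isOpenImmersion_fromSpec.base_open.injective
    exact hV.fromSpec_primeIdealOf ⟨_, hqV⟩
  have key : ∀ a : Γ(X, V), hV.fromSpec q ∈ X.basicOpen a ↔ a ∉ p := by
    intro a
    let _ := X.presheaf.algebra_section_stalk ⟨hV.fromSpec q, hqV⟩
    have hA : IsLocalization.AtPrime (X.presheaf.stalk (hV.fromSpec q))
        (hV.primeIdealOf ⟨hV.fromSpec q, hqV⟩).asIdeal := hV.isLocalization_stalk ⟨_, hqV⟩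
    rw [X.mem_basicOpen a _ hqV]
    refine (IsLocalization.AtPrime.isUnit_to_map_iff (X.presheaf.stalk (hV.fromSpec q))
      (hV.primeIdealOf ⟨hV.fromSpec q, hqV⟩).asIdeal a).trans ?_
    rw [hqeq]
    rfl
  obtain ⟨a, hya, ha⟩ := exists_smul_mem_span hV hqV (hm _ ((key h).mpr hhp))
  exact (key a).mp hya (hIp (Submodule.mem_colon_singleton.mpr ha))

/-- A section with all germs in the span lies in the span. -/
theorem mem_span_of_germ {V : X.Opens} (hV : IsAffineOpen V) {s : Set Γ(M, V)} {m : Γ(M, V)}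
    (hm : ∀ (y : X) (hy : y ∈ V), germM M V y hy m ∈ spanGerm s y hy) :
    m ∈ Submodule.span Γ(X, V) s := by
  obtain ⟨n, hn⟩ := exists_pow_smul_mem_span hV (1 : Γ(X, V)) fun y hy => hm y (X.basicOpen_le _ hy)
  rwa [one_pow, one_smul] at hn

/-- Extension to an affine open. -/
theorem exists_extend {S : StalkSub M} {U W : X.Opens} (hS : FTOn S U) (hW : IsAffineOpen W)
    (hUW : IsCompact ((U : Set X) ∩ W)) :
    ∃ T : Finset Γ(M, W),
      (∀ (y : X) (hyW : y ∈ W), y ∈ U → S y = spanGerm (T : Set Γ(M, W)) y hyW) ∧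
        ∀ m ∈ T, ∃ (h : Γ(X, W)) (n : Γ(M, W)), X.basicOpen h ≤ U ∧ m = h • n := by
  classical
  have hloc : ∀ y : ↥(U ⊓ W), ∃ h : Γ(X, W), y.1 ∈ X.basicOpen h ∧ X.basicOpen h ≤ U ∧
      ∃ s : Finset Γ(M, X.basicOpen h), GenBy S (X.basicOpen h) s := by
    rintro ⟨y, hyU, hyW⟩
    obtain ⟨V, hV, hyV, hVU, s, hs⟩ := hS y hyU
    obtain ⟨h, hle, hyh⟩ := hW.exists_basicOpen_le ⟨y, hyV⟩ hyW
    refine ⟨h, hyh, hle.trans hVU, s.image (res M hle), ?_⟩
    rw [Finset.coe_image]
    exact hs.restrict hle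
  choose h hyh hhU s hs using hloc
  obtain ⟨σ, hσ⟩ := hUW.elim_finite_subcover (fun y : ↥(U ⊓ W) => (X.basicOpen (h y) : Set X))
    (fun y => (X.basicOpen (h y)).isOpen) fun y hy => Set.mem_iUnion.mpr ⟨⟨y, hy⟩, hyh _⟩
  choose n lift hlift using fun (k : ↥(U ⊓ W)) (t : Γ(M, X.basicOpen (h k))) =>
    (isLocalizingAt M hW (h k)).surj t
  have hp : ∀ (k : σ) (t : s k.1) (l : σ), ∃ p : ℕ,
      rres (X.basicOpen_le (h l.1)) (h k.1) ^ p • res M (X.basicOpen_le (h l.1)) (lift k.1 t.1) ∈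
        Submodule.span Γ(X, X.basicOpen (h l.1)) (s l.1 : Set Γ(M, X.basicOpen (h l.1))) := by
    intro k t l
    refine exists_pow_smul_mem_span (hW.basicOpen _) _ fun y hy => ?_
    have hyl : y ∈ X.basicOpen (h l.1) := X.basicOpen_le _ hy
    have hyk : y ∈ X.basicOpen (h k.1) := by
      rw [rres, Scheme.basicOpen_res] at hy
      exact hy.2
    rw [← hs l.1 y hyl]
    have e1 : germM M (X.basicOpen (h l.1)) y hyl (res M (X.basicOpen_le (h l.1)) (lift k.1 t.1)) =
        germM M W y (X.basicOpen_le _ hyk) (lift k.1 t.1) :=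
      M.presheaf.germ_res_apply _ y hyl _
    have e2 : germM M (X.basicOpen (h k.1)) y hyk (res M (X.basicOpen_le (h k.1)) (lift k.1 t.1)) =
        germM M W y (X.basicOpen_le _ hyk) (lift k.1 t.1) :=
      M.presheaf.germ_res_apply _ y hyk _
    rw [e1, ← e2, hlift, germM_smul, hs k.1 y hyk]
    exact Submodule.smul_mem _ _ (Submodule.subset_span ⟨t.1, t.2, rfl⟩)
  choose p hp using hp
  obtain ⟨P, hP⟩ : ∃ P : ℕ, ∀ x : Σ k : σ, ↥(s k.1) × σ, p x.1 x.2.1 x.2.2 ≤ P :=
    Finite.exists_le _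
  let T : Finset Γ(M, W) := Finset.univ.image fun x : Σ k : σ, ↥(s k.1) =>
    h x.1.1 • h x.1.1 ^ P • lift x.1.1 x.2.1
  have hT : ∀ (k : σ) (t : s k.1) (y : X) (hyW : y ∈ W), y ∈ U →
      germM M W y hyW (h k.1 • h k.1 ^ P • lift k.1 t.1) ∈ S y := by
    intro k t y hyW hyU
    obtain ⟨l, hl, hyl⟩ := Set.mem_iUnion₂.mp (hσ ⟨hyU, hyW⟩)
    rw [germM_smul]
    refine Submodule.smul_mem _ _ ?_
    rw [hs l y hyl]
    have e1 : germM M (X.basicOpen (h l)) y hyl
        (res M (X.basicOpen_le (h l)) (h k.1 ^ P • lift k.1 t.1)) =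
        germM M W y hyW (h k.1 ^ P • lift k.1 t.1) :=
      M.presheaf.germ_res_apply (homOfLE (X.basicOpen_le (h l))) y hyl _
    rw [← e1]
    refine germ_mem_spanGerm_of_mem_span ?_ y hyl
    change res M (X.basicOpen_le (h l)) (h k.1 ^ P • lift k.1 t.1) ∈ _
    rw [res_smul, map_pow, ← Nat.sub_add_cancel (hP ⟨k, t, ⟨l, hl⟩⟩), pow_add, mul_smul]
    exact Submodule.smul_mem _ _ (hp k t ⟨l, hl⟩)
  refine ⟨T, fun y hyW hyU => ?_, fun m hm => ?_⟩
  · refine le_antisymm ?_ ?_
    · obtain ⟨k, hk, hyk⟩ := Set.mem_iUnion₂.mp (hσ ⟨hyU, hyW⟩)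
      rw [hs k y hyk, spanGerm, Submodule.span_le]
      rintro _ ⟨t, ht, rfl⟩
      have hu : IsUnit (X.presheaf.germ W y hyW (h k)) := isUnit_germ hyk
      have hmem : germM M W y hyW (h k • h k ^ P • lift k t) ∈ spanGerm (T : Set Γ(M, W)) y hyW :=
        Submodule.subset_span ⟨_, Finset.mem_image.mpr ⟨⟨⟨k, hk⟩, ⟨t, ht⟩⟩, Finset.mem_univ _, rfl⟩,
          rfl⟩
      have e2 : germM M (X.basicOpen (h k)) y hyk (res M (X.basicOpen_le (h k)) (lift k t)) =
          germM M W y hyW (lift k t) :=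
        M.presheaf.germ_res_apply _ y hyk _
      rw [germM_smul, germM_smul, ← e2, hlift, germM_smul, map_pow, map_pow, smul_smul, smul_smul,
        rres, X.presheaf.germ_res_apply] at hmem
      obtain ⟨w, hw⟩ := (hu.mul (hu.pow P)).mul (hu.pow (n k t))
      rw [← hw] at hmem
      have := Submodule.smul_mem _ (↑w⁻¹ : X.presheaf.stalk y) hmem
      rwa [smul_smul, w.inv_mul, one_smul] at this
    · rw [spanGerm, Submodule.span_le]
      rintro _ ⟨m, hm, rfl⟩
      obtain ⟨⟨k, t⟩, -, rfl⟩ := Finset.mem_image.mp hm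
      exact hT k t y hyW hyU
  · obtain ⟨⟨k, t⟩, -, rfl⟩ := Finset.mem_image.mp hm
    exact ⟨h k.1, h k.1 ^ P • lift k.1 t.1, hhU k.1, rfl⟩

omit [M.IsQuasicoherent] in
lemma FTOn.congr {S S' : StalkSub M} {U : X.Opens} (hS : FTOn S U) (h : ∀ x ∈ U, S' x = S x) :
    FTOn S' U := fun x hx => by
  obtain ⟨V, hV, hxV, hVU, s, hs⟩ := hS x hx
  exact ⟨V, hV, hxV, hVU, s, fun y hy => (h y (hVU hy)).trans (hs y hy)⟩

/-- On an affine open inside `U` the family is generated by finitely many sections. -/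
theorem exists_genBy {S : StalkSub M} {U V : X.Opens} (hS : FTOn S U) (hV : IsAffineOpen V)
    (hVU : V ≤ U) : ∃ T : Finset Γ(M, V), GenBy S V T := by
  obtain ⟨T, hT, -⟩ := exists_extend hS hV (by
    rw [Set.inter_eq_right.mpr (by exact hVU)]; exact hV.isCompact)
  exact ⟨T, fun y hy => hT y hy (hVU hy)⟩

/-- Extension from a compact open to a qcqs scheme. Outside the open, the extension lies in
`𝔪_x • M_x`. -/
theorem exists_global [CompactSpace X] [QuasiSeparatedSpace X] {S : StalkSub M} {U : X.Opens}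
    (hU : IsCompact (U : Set X)) (hS : FTOn S U) :
    ∃ S' : StalkSub M, FTOn S' ⊤ ∧ (∀ x ∈ U, S' x = S x) ∧
      ∀ x ∉ U, S' x ≤ IsLocalRing.maximalIdeal (X.presheaf.stalk x) • ⊤ := by
  classical
  obtain ⟨σ, hσ⟩ := isCompact_univ.elim_finite_subcover
    (fun W : X.affineOpens => ((W : X.Opens) : Set X)) (fun W => (W : X.Opens).isOpen) fun x _ => by
      obtain ⟨W, hW, hx, -⟩ := exists_isAffineOpen_mem_and_subset (X := X) (Opens.mem_top x)
      exact Set.mem_iUnion.mpr ⟨⟨W, hW⟩, hx⟩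
  suffices H : ∀ τ : Finset X.affineOpens, ∃ (U' : X.Opens) (S' : StalkSub M),
      IsCompact (U' : Set X) ∧ U ≤ U' ∧ (∀ W ∈ τ, (W : X.Opens) ≤ U') ∧ FTOn S' U' ∧
      (∀ x ∈ U, S' x = S x) ∧
      ∀ x ∈ U', x ∉ U → S' x ≤ IsLocalRing.maximalIdeal (X.presheaf.stalk x) • ⊤ by
    obtain ⟨U', S', -, -, hle, hFT, h1, h2⟩ := H σ
    have htop : U' = ⊤ := eq_top_iff.mpr fun x _ => by
      obtain ⟨W, hW, hx⟩ := Set.mem_iUnion₂.mp (hσ (Set.mem_univ x))
      exact hle W hW hx
    exact ⟨S', htop ▸ hFT, h1, fun x hx => h2 x (htop ▸ Opens.mem_top x) hx⟩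
  intro τ
  induction τ using Finset.induction with
  | empty => exact ⟨U, S, hU, le_rfl, by simp, hS, fun _ _ => rfl, fun x hx hx' => absurd hx hx'⟩
  | insert W τ _ ih =>
    obtain ⟨U', S', hU', hUU', hle, hFT, h1, h2⟩ := ih
    obtain ⟨T, hT, hT'⟩ := exists_extend hFT W.2
      (hU'.inter_of_isOpen W.2.isCompact U'.isOpen (W : X.Opens).isOpen)
    let S'' : StalkSub M := fun x =>
      if x ∈ U' then S' x else
        if hx : x ∈ (W : X.Opens) then spanGerm (T : Set Γ(M, (W : X.Opens))) x hx else ⊥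
    have e1 : ∀ x ∈ U', S'' x = S' x := fun x hx => if_pos hx
    have e2 : GenBy S'' W T := by
      intro y hy
      by_cases hyU : y ∈ U'
      · rw [e1 y hyU]; exact hT y hy hyU
      · simp only [S'', if_neg hyU, dif_pos hy]
    refine ⟨U' ⊔ W, S'', hU'.union W.2.isCompact, hUU'.trans le_sup_left, ?_, ?_, ?_, ?_⟩
    · intro V hV
      rcases Finset.mem_insert.mp hV with rfl | hV
      · exact le_sup_right
      · exact (hle V hV).trans le_sup_left
    · intro x hx
      rcases hx with hx | hx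
      · obtain ⟨V, hV, hxV, hVU, s, hs⟩ := hFT.congr e1 x hx
        exact ⟨V, hV, hxV, hVU.trans le_sup_left, s, hs⟩
      · exact ⟨W, W.2, hx, le_sup_right, T, e2⟩
    · exact fun x hx => (e1 x (hUU' hx)).trans (h1 x hx)
    · intro x hx hxU
      by_cases hxU' : x ∈ U'
      · rw [e1 x hxU']; exact h2 x hxU' hxU
      · have hxW : x ∈ (W : X.Opens) := hx.resolve_left hxU'
        rw [e2 x hxW, spanGerm, Submodule.span_le]
        rintro _ ⟨m, hm, rfl⟩
        obtain ⟨g, v, hg, rfl⟩ := hT' m hm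
        change germM M _ x hxW (g • v) ∈ _
        rw [germM_smul]
        refine Submodule.smul_mem_smul ((IsLocalRing.mem_maximalIdeal _).mpr fun hu => hxU' ?_) trivial
        exact hg ((X.mem_basicOpen g x hxW).mpr hu)

end Groth.Agent.Props.SubMod

end
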